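import Cfsg.Agent.J4.LocAux
import Cfsg.Agent.J4.OrdA22
import Cfsg.Agent.Grp.ClsCount

/-! The 21 conjugacy classes of `A22 = M22 : 2`. -/

set_option autoImplicit false

namespace Cfsg.Agent.J4.Cl

open Cfsg Cfsg.Agent.Comp Cfsg.Agent.Spor Cfsg.Agent.Spor.M24C Subgroup
open scoped Pointwise

/-- Representatives of the classes of `A22` with the orders of their centralisers. -/
def cN : List (ℕ × ℕ) := [
  (oneC, 887040),
  (0xbba69aca117d8ac42a8b399a320440, 768),
  (0xbd670b3e29339076b28b548a408c40, 72),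
  (0xbc69683eae924a76aa6b6190120c40, 32),
  (0xbd64651dc98450f5d18db4c2428c40, 64),
  (0xbb1cb2cab47a613534f68850620c40, 10),
  (0xb9e50b3aafa2571099859a90d20c40, 24),
  (0xbb98a31eb19a42f5da4da410520c40, 14),
  (0xbc4d261d2eb54af5cd4d8508140c40, 14),
  (0xbbd818290b754f3b44b23512d20c40, 16),
  (0xb85a65cd2e822365519279ea520c40, 11),
  (0x5a69ab230539b243e8b31ca418457, 2688),
  (0x46954b2ce3c0b241a6b7a9a320457, 640),
  (0x39e654ad19c06c5d4e8a25a520457, 64),
  (0x3a70b1d31654af69a8b9290120c57, 96),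
  (0x3d96845279d56e0aa45a190d20c57, 12),
  (0x31ca2b5109a68f5cac70c6a620c57, 16),
  (0x42cb546b46a1812bcee94d2620c57, 10),
  (0x15766b2ae5222684a7479d2120c57, 12),
  (0x394c93eb1824a75d0cdb4c8140c57, 14),
  (0x464653d2ea54275c18d9d90520c57, 14)]

theorem cN_okS {x : ℕ × ℕ} (hx : x ∈ cN) : okS 8388609 x.1 = true :=
  (allL_iff cN fun x => okS 8388609 x.1).1 (by decide +kernel) x hx

theorem cN_okM {x : ℕ × ℕ} (hx : x ∈ cN) : okM x.1 = true := okM_of_inH (inH_A22 (cN_okS hx))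

theorem cN_card {x : ℕ × ℕ} (hx : x ∈ cN) : Nat.card ↥(A22 ⊓ centralizer {mc x.1}) = x.2 := by
  have := (allL_iff cN fun x => or' (and' (Nat.beq x.1 oneC) (Nat.beq x.2 887040))
    (and' (allLT 6 fun j => Nat.blt (dg bA j) 24) (Nat.beq (srch 6 orbA uA (okConj x.1 x.1 bA)
      (fun y => Nat.beq (conjC y x.1) x.1) (Nat.sub 6 0) oneC) x.2))).1 (by decide +kernel) x hx
  rw [or'_eq_true, and'_eq_true, beq_iff, beq_iff] at this
  rcases this with ⟨h1, h2⟩ | h
  · rw [h1, h2, mc_oneC, ← card_A22, inf_eq_left.2 fun g _ =>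
      mem_centralizer_singleton_iff.2 (by rw [mul_one, one_mul])]
  · exact LA.card_A22_cent (cN_okM hx) h

/-- A class invariant. -/
noncomputable def inv2 (c : ℕ) : ℕ :=
  Nat.add (Nat.mul 32 (Nat.add (pop 24 (fixC c)) (outC c))) (force (mulC c c) fun d => pop 24 (fixC d))

theorem inv2_eq {c : ℕ} (hc : okM c = true) :
    inv2 c = 32 * Ord.iv (mc c) + (fixSet (mc c * mc c : M24)).card := by
  have h1 : okM (mulC c c) = true := by
    rw [← code_mc hc, ← code_mul']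
    exact okM_code _
  rw [Ord.iv_mc hc, mc_mul hc hc, card_fixSet_mc h1, inv2, force_eq]
  rfl

theorem cN_inj {x x' : ℕ × ℕ} (hx : x ∈ cN) (hx' : x' ∈ cN) {y : M24} (hy : y ∈ A22)
    (e : y * mc x.1 * y⁻¹ = mc x'.1) : x = x' := by
  have := (allL_iff cN fun x => force (inv2 x.1) fun i => allL cN fun x' =>
    or' (and' (Nat.beq x.1 x'.1) (Nat.beq x.2 x'.2)) (or' (not' (Nat.beq i (inv2 x'.1)))
      (and' (allLT 6 fun j => Nat.blt (dg bA j) 24) (Nat.beq (srch 6 orbA uA (okConj x.1 x'.1 bA)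
      (fun c => and' (Nat.beq (conjC c x.1) x'.1) (not' false)) 6 oneC) 0)))).1
    (by decide +kernel) x hx
  rw [force_eq, allL_iff] at this
  have := this x' hx'
  rw [or'_eq_true, or'_eq_true, and'_eq_true, beq_iff, beq_iff, not'_eq_true, beq_iff] at this
  rcases this with h | h | h
  · exact Prod.ext h.1 h.2
  · refine absurd ?_ h
    rw [inv2_eq (cN_okM hx), inv2_eq (cN_okM hx'), ← e, Ord.iv_conj (mc_mem_A22 (cN_okS hx)) hy,
      show ∀ a : M24, y * a * y⁻¹ * (y * a * y⁻¹) = y * (a * a) * y⁻¹ from fun a => by group]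
    exact congrArg _ (card_fixSet_conj (y : Equiv.Perm GolayPt) _).symm
  · exact absurd (chainA.forall_conj (cN_okM hx) (cN_okM hx') (fun _ => false) h y hy e)
      Bool.false_ne_true

theorem cN_cover {g : M24} (hg : g ∈ A22) : ∃ x ∈ cN, ∃ y ∈ A22, y * mc x.1 * y⁻¹ = g := by
  obtain ⟨x, hx, h⟩ := Grp.Cls.cover_of_sum A22 cN.toFinset (fun x => mc x.1) Prod.snd
    (fun x hx => mc_mem_A22 (cN_okS (List.mem_toFinset.1 hx)))
    (fun x hx => cN_card (List.mem_toFinset.1 hx))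
    (fun x hx x' hx' y hy => cN_inj (List.mem_toFinset.1 hx) (List.mem_toFinset.1 hx') hy)
    (by rw [card_A22]; decide +kernel) hg
  exact ⟨x, List.mem_toFinset.1 hx, h⟩

end Cfsg.Agent.J4.Cl
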