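import Cfsg.Agent.J4.ClsA22
import Cfsg.Agent.J4.ClsEng
import Cfsg.Agent.J4.OrdT

/-! The ten classes of elements with a power conjugate to `t`. -/

set_option autoImplicit false

namespace Cfsg.Agent.J4.Cl

open Cfsg Cfsg.Agent.Comp Cfsg.Agent.Spor Cfsg.Agent.Spor.M24C Subgroup J4.Ord Grp.Cls
open scoped Pointwise

/-- The projection onto the even vectors. -/
def mP : ℕ := 0x801401201101081041021011009005003000

theorem app_mP : ∀ v < 4096, dm 4095 v = true → app mP v = v := by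
  have : allB 4096 (fun v => or' (not' (dm 4095 v)) (Nat.beq (app mP v) v)) = true := by
    decide +kernel
  intro v hv e
  have := (allB_iff _ _).1 this v hv
  rw [or'_eq_true, not'_eq_true, beq_iff] at this
  exact this.resolve_left (not_not.2 e)

/-- The certificates. -/
def tC : List Ct := [
  ⟨oneC, 0x800400200100080040020010008004002001, 1,
    0x0, 0x801401201101081041021011009005003,
    0x400200100080040020010008004002001000, 11,
    [], [(1141, 0)]⟩,
  ⟨0xbba69aca117d8ac42a8b399a320440, 0x8000040807b4200040010020008400b66001, 2,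
    0x93005081000000000011000000000000000, 0x101081041011009005003,
    0x7a002020040020010008008004002001000, 7,
    [], []⟩,
  ⟨0xbd670b3e29339076b28b548a408c40, 0x8002000800104000080207b4ecc0043da1ed, 3,
    0xcf0560030930d2044000000000000000000, 0x21011009005003,
    0x1c01a01a00801a004010008004002001000, 5,
    [], [(9, 0)]⟩,
  ⟨0xbc69683eae924a76aa6b6190120c40, 0x8000201004000100082000040407b4b661ed, 4,
    0x8b383d820099090808000810000000000000, 0x21009005003,
    0xe008008008002004008002004002001000, 4,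
    [], []⟩,
  ⟨0xbd64651dc98450f5d18db4c2428c40, 0x800200040eccb1d1ed0047b40100203da008, 4,
    0x8201e84f845000000804009801000000000, 0x81041005003,
    0x6004004008008004002000000002001000, 4,
    [], []⟩,
  ⟨0xbb1cb2cab47a613534f68850620c40, 0x800001004e3ab660402001000087b4010080, 5,
    0x10d0352080120091b622000a000000000000, 0x9005003,
    0x5000002001000007002001004002001000, 3,
    [], [(12, 0)]⟩,
  ⟨0xb9e50b3aafa2571099859a90d20c40, 0x8001ed0400104000042000081007b4e3a020, 6,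
    0xb203c0210b400029d0bd0ac000261000000, 0x81009003,
    0x4004000002004000000002002000001000, 3,
    [], []⟩,
  ⟨0xbb98a31eb19a42f5da4da410520c40, 0x800004001b1decc1ed2000200807b449f008, 7,
    0x13187584f02700918a06f87f801000000000, 0x5003,
    0x2002000002000002000000000002001000, 2,
    [], [(5, 0)]⟩,
  ⟨0xbc4d261d2eb54af5cd4d8508140c40, 0x800020ecc0400011ed7b4004400200b66008, 7,
    0x17a0098040bd8809bd87c810801000000000, 0x5003,
    0x2002000002000002000002001000, 2,
    [], [(5, 0)]⟩,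
  ⟨0xbbd818290b754f3b44b23512d20c40, 0x80000800149f010b1d3dae3a0042001ed080, 8,
    0x2c22792a73560a63fa0000812ab204000000, 0x21003,
    0x3000000001000002002000000000001000, 2,
    [], []⟩,
  ⟨0xb85a65cd2e822365519279ea520c40, 0x80049f002ecce3a0807b40040103da020400, 11,
    0xaf68011e324cb9e3de3e1810018000be3000, 0x5,
    0x1000000001001001000001001001000000, 1,
    [], [(5, 0)]⟩,
  ⟨0x5a69ab230539b243e8b31ca418457, 0xc754000807b4200001020010b1d004002040, 2,
    0x88180082000000003000000000000000000, 0x101081021011009005003,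
    0x6a01a020040020000010008004002001000, 7,
    [(0xc754001ed080ecc49f9b3002001010020d4b, 0x58f33048d642227caaa5a1c32d137),
     (0x80000420049f0801ed6e34003da9b3020ecc, 0xbbaa199c764122652c4f4d1b02c980)], [(387, 0)]⟩,
  ⟨0x46954b2ce3c0b241a6b7a9a320457, 0xc750201002007b40014000041ed010b66040, 2,
    0xa30240a9009000005000000000000000000, 0x81021011009005003,
    0x1801a03803202000a010008004002001000, 6,
    [], []⟩,
  ⟨0x39e654ad19c06c5d4e8a25a520457, 0xc75004008eccb1d0404000200800106e3001, 4,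
    0x11603519b0000091b0014005000000000000, 0x101009005003,
    0xc002004008004000002002004002001000, 4,
    [], []⟩,
  ⟨0x3a70b1d31654af69a8b9290120c57, 0xc750040800104001ed7b4020001200b66008, 4,
    0x8d60740050a50f5864011000000000000000, 0x11009005003,
    0x400600600c00200400c008004002001000, 4,
    [], []⟩,
  ⟨0x3d96845279d56e0aa45a190d20c57, 0xc750080014000100207b41ed080200e3a004, 6,
    0xfa2700050d120d245000088000204000000, 0x21009003,
    0x6002000002002004004002002000001000, 3,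
    [(0xc750080404000100042001ed0807b46e3020, 0x3e5683aa79a47121988a28a20adb7)], [(9, 0)]⟩,
  ⟨0x31ca2b5109a68f5cac70c6a620c57, 0xc75001004b1db660023da0100807b4100008, 8,
    0x3110651b00120090501da0000113a0000000, 0x11003,
    0x2000000001000001003002000000001000, 2,
    [], []⟩,
  ⟨0x42cb546b46a1812bcee94d2620c57, 0xc75010400e3ab1d0202001000023da00149f, 10,
    0x14f0771ab0128491cb18900000a837000000, 0x11003,
    0x3003002003000002003002000001001000, 2,
    [], []⟩,
  ⟨0x15766b2ae5222684a7479d2120c57, 0xc75b66e3a400002001200004b1d3da020ecc, 12,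
    0x11585202212f8fd83d87f86d1d9000000000, 0x5003,
    0x3001001002002003002001003002001000, 2,
    [], []⟩,
  ⟨0x394c93eb1824a75d0cdb4c8140c57, 0xc75004b1d0010400082000200107b4b661ed, 14,
    0x2911ec252b4f8e522a83d262825bd6000000, 0x3,
    0x1000, 1,
    [], [(3, 0)]⟩,
  ⟨0x464653d2ea54275c18d9d90520c57, 0xc75020040eccb1d0087b400410020049f1ed, 14,
    0x15e9dba652621ec22a3e1a7182502e000000, 0x3,
    0x1000, 1,
    [], [(3, 0)]⟩]

/-- The test for `t ∈ ⟨g⟩`. -/
noncomputable def tt (x : Ct) (v : ℕ) : Bool := pv x.A (fun a => Nat.beq a 1141) x.m v 0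

/-- The check of a certificate. -/
noncomputable def okCT (x : Ct) : Bool :=
  and' (okT x.c x.A) (and' (ordOK x.A x.m) (and' (allL x.gens fun g => and' (okT g.2 g.1)
    (Nat.beq (conjC g.2 x.c) x.c)) (and' (allL x.reps fun r => and' (Nat.blt r.1 4096)
      (and' (Nat.beq (par r.1) 0) (tt x r.1))) (eng 4095 mP x (tt x)))))

theorem tC_ok {x : Ct} (hx : x ∈ tC) : okCT x = true :=
  (allL_iff tC okCT).1 (by decide +kernel) x hx

/-- The representatives. -/
def tL : List (ℕ × ℕ) := tC.flatMap fun x => x.reps.map fun r => (x.c, r.1)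

theorem tL_facts {i j : ℕ × ℕ} (hi : i ∈ tL) (hj : j ∈ tL) :
    (∃ x ∈ cN, x.1 = i.1) ∧ (i.1 = j.1 → i = j) := by
  have := (allL_iff tL fun i => and' (anyL cN fun x => Nat.beq x.1 i.1) (allL tL fun j =>
    or' (not' (Nat.beq i.1 j.1)) (Nat.beq i.2 j.2))).1 (by decide +kernel) i hi
  simp only [and'_eq_true, anyL_iff, allL_iff, beq_iff, or'_eq_true, not'_eq_true] at this
  exact ⟨this.1, fun e => Prod.ext e ((this.2 j hj).resolve_left (not_not.2 e))⟩

theorem exists_tC {x : ℕ × ℕ} (hx : x ∈ cN) : ∃ y ∈ tC, y.c = x.1 := by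
  have := (allL_iff cN fun x => anyL tC fun y => Nat.beq y.c x.1).1 (by decide +kernel) x hx
  simpa only [anyL_iff, beq_iff] using this

variable {G : Type*} [Group G] {z : G} {P : Subgroup G} [Finite G] (h : MM z P)
include h

/-- The representative with index `i`. -/
def RepT (i : ℕ × ℕ) (g : G) : Prop := g = nv h i.2 * h.lam (mc i.1)

theorem tt_iff {x : Ct} (hx : x ∈ tC) {v : ℕ} (hv : v < 4096) (e : par v = 0) :
    h.t ∈ zpowers (nv h v * h.lam (mc x.c)) ↔ tt x v = true := by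
  have := tC_ok hx
  simp only [okCT, and'_eq_true] at this
  have h1 := isOrd_of this.2.1
  rw [evalT h (RT_of_okT this.1) hv e, tt, pv_eq', beq_iff]
  exact ⟨fun ⟨m, a1, a2⟩ => a1.unique h1 ▸ a2, fun a => ⟨_, h1, a⟩⟩

theorem mem_tL {i : ℕ × ℕ} (hi : i ∈ tL) :
    i.2 < 4096 ∧ par i.2 = 0 ∧ h.t ∈ zpowers (nv h i.2 * h.lam (mc i.1)) := by
  obtain ⟨x, hx, hi⟩ := List.mem_flatMap.1 hi
  obtain ⟨r, hr, rfl⟩ := List.mem_map.1 hi
  have := tC_ok hx
  simp only [okCT, and'_eq_true, allL_iff, blt_iff, beq_iff] at this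
  obtain ⟨a1, a2, a3⟩ := this.2.2.2.1 r hr
  exact ⟨a1, a2, (tt_iff h hx a1 a2).2 a3⟩

theorem lam_mem_ct {g : M24} (hg : g ∈ A22) : h.lam g ∈ centralizer ({h.t} : Set G) :=
  h.mem_cent_t.2 ⟨∅, g, by simp, hg, by rw [h.nu_empty, one_mul]⟩

theorem cov_tC {x : Ct} (hx : x ∈ tC) : ∀ v < 4096, dm 4095 v = true →
    Cov h.t tL (RepT h) (nv h v * h.lam (mc x.c)) := by
  have := tC_ok hx
  simp only [okCT, and'_eq_true, allL_iff, blt_iff, beq_iff] at this
  obtain ⟨h1, -, h3, h4, h5⟩ := this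
  have r := RT_of_okT h1
  refine eng_spec app_mP h5 (fun v hv w hw ev ew p => ?_) (fun g hg v hv ev p => ?_)
    (fun i hi => ?_) fun v hv ev e1 e2 => ?_
  · rw [dm_full hv] at ev
    rw [dm_full hw] at ew
    have e1 := r.par_app hw ew
    refine p.conj (y := nv h w) (h.mem_cent_t.2 ⟨_, 1, (even_shift hw).2 ew, one_mem _,
      by rw [map_one, mul_one, nv]⟩) ?_
    rw [inv_eq_of_mul_eq_one_right (nv_sq h hw ew), mul_assoc, mul_assoc, lam_nv h r hw ew,
      ← mul_assoc, ← mul_assoc, nv_mul h hw hv ew ev, nv_mul h (xor_lt hw hv) (app_lt _ _)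
        (by rw [par_xor, ev, ew]; rfl) e1, Nat.xor_comm w v, Nat.xor_assoc]
  · rw [dm_full hv] at ev
    obtain ⟨a1, a2⟩ := h3 g hg
    have r1 := RT_of_okT a1
    refine ⟨(dm_full (app_lt _ _)).2 (r1.par_app hv ev), p.conj (lam_mem_ct h r1.1) ?_⟩
    rw [okT, and'_eq_true] at a1 h1
    rw [lam_conj_nv h r1 hv ev, mul_inv_eq_iff_eq_mul.2 ((LA.code_conj_eq_iff
      (okM_of_inH (inH_A22 h1.1))).1 (by rw [code_mc (okM_of_inH (inH_A22 a1.1)), a2]))]
  · obtain ⟨a1, a2, a3⟩ := h4 i hi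
    exact ⟨a1, (dm_full a1).2 a2, fun e => ⟨(x.c, i.1),
      List.mem_flatMap.2 ⟨x, hx, List.mem_map.2 ⟨i, hi, rfl⟩⟩, _, e, rfl, IsConj.refl _⟩⟩
  · exact absurd ((tt_iff h hx hv ((dm_full hv).1 ev)).1 e2) e1

theorem cls_t : cls {g | h.t ∈ zpowers g} = 10 := by
  rw [cls_eq_of_cov h.t_ord tL (RepT h) (fun i hi => ⟨_, (mem_tL h hi).2.2, rfl⟩)
    (fun i hi j hj a b ha hb y hy e => ?_) (fun i _ a b _ _ ha hb => by rw [ha, hb])
    fun g hg => ?_]
  · decide +kernel
  · obtain ⟨⟨x, hx, e1⟩, e2⟩ := tL_facts hi hj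
    obtain ⟨⟨x', hx', e3⟩, -⟩ := tL_facts hj hi
    obtain ⟨u, k, hu, hk, rfl⟩ := h.mem_cent_t.1 hy
    obtain ⟨a1, a2, -⟩ := mem_tL h hi
    obtain ⟨b1, b2, -⟩ := mem_tL h hj
    have a3 := (even_shift a1).2 a2
    have b3 := (even_shift b1).2 b2
    rw [ha, hb, mul_inv_eq_iff_eq_mul, nv, nv, h.nu_lam_mul hu a3, h.nu_lam_mul b3 hu] at e
    have e4 := (h.nu_lam_inj (even_symmDiff hu (even_smul _ a3))
      (even_symmDiff b3 (even_smul _ hu)) e).1
    rw [← e1, ← e3, ← mul_inv_eq_iff_eq_mul] at e4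
    exact e2 (by rw [← e1, ← e3, cN_inj hx hx' hk e4])
  · obtain ⟨u, k, hu, hk, rfl⟩ := h.mem_cent_t.1 hg
    obtain ⟨x, hx, y, hy, rfl⟩ := cN_cover hk
    obtain ⟨c, hc, e⟩ := exists_tC hx
    obtain ⟨v, hv, ev, e1⟩ := exists_nv h (even_smul y⁻¹ hu)
    refine (cov_tC h hc v hv ((dm_full hv).2 ev)).conj (lam_mem_ct h hy) ?_
    rw [← e1, e, ← h.lam_conj _ _ hu]
    simp only [map_mul, map_inv]
    group

end Cfsg.Agent.J4.Cl
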