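import Cfsg.Agent.J4.LocAux

/-! A Sylow 3-subgroup of `M22` and its normaliser in `M22 : 2`. -/

set_option autoImplicit false

namespace Cfsg.Agent.J4

open Cfsg Cfsg.Agent.Comp Cfsg.Agent.Spor Cfsg.Agent.Spor.M24C Subgroup
open scoped Pointwise
open LA VA

namespace L3

/-- An element of order three of `M22`. -/
def pA : ℕ := 964046079391748131510436802311785536
/-- An element of order three commuting with `pA`. -/
def pB : ℕ := 972679049849814778609582601333213216
/-- The elements other than the identity of the group generated by `pA` and `pB`. -/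
def l8 : List ℕ := [972679049849814778609582601333213216, 961029066359601346093702817927759904,
  964046079391748131510436802311785536, 981759386190175716564125263593507904,
  971417756535912339829437079931096128, 967934250094538009460443685707646048,
  979159009073952554146675900596421728, 964944003105871756720595991810606176]
/-- Elements conjugating them to `pA`. -/
def y8 : List ℕ := [16152499869241380896192827480167799, 24066391965667587412811258474965367,
  17333208199838006224390413696308791, 8570998619974311868469840732785751,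
  26088463923065556846062547535941111, 23776816126708388874319134653069879,
  16923358787793146840064189487751671, 29340620570662517957029049942508631]
/-- Maps `0, 1, 2, 3` to `9, 10, 15, 20`. -/
def g0 : ℕ := 361572819222756874201171012549754185

theorem okA : okM pA = true := by decide +kernel
theorem okB : okM pB = true := by decide +kernel
theorem okD : okM muD = true := by decide +kernel
theorem ok0 : okM g0 = true := by decide +kernel

/-- A Sylow 3-subgroup of `M22`. -/
noncomputable def S9 : Subgroup M24 := M22' ⊓ centralizer {mc pA} ⊓ centralizer {mc pB}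

theorem mem_S9 {g : M24} : g ∈ S9 ↔ g ∈ M22' ∧ g * mc pA = mc pA * g ∧ g * mc pB = mc pB * g := by
  simp only [S9, mem_inf, mem_cent, and_assoc]

theorem code_of_mem_S9 {g : M24} (hg : g ∈ S9) (h1 : g ≠ 1) :
    code (g : Equiv.Perm GolayPt) ∈ l8 := by
  obtain ⟨a1, a2, a3⟩ := mem_S9.1 hg
  have := chainA.forall_conj okA okA (fun c => or' (not' (Nat.beq (outC c) 0))
    (or' (not' (Nat.beq (conjC c pB) pB)) (or' (Nat.beq c oneC) (anyL l8 fun x => Nat.beq x c))))
    (by decide +kernel) g (M22'_le a1) (by rw [a2, mul_inv_cancel_right])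
  simp only [or'_eq_true, not'_eq_true, beq_iff, anyL_iff, exists_eq_right] at this
  rcases this with h | h | h | h
  · exact absurd ((outC_eq_zero_iff (M22'_le a1)).2 a1) h
  · exact absurd ((code_conj_eq_iff okB).2 a3) h
  · exact absurd (by rwa [eq_iff_code, code_one']) h1
  · exact h

theorem mem_S9_of_code {g : M24} (hg : code (g : Equiv.Perm GolayPt) ∈ l8) : g ∈ S9 ∧ g ≠ 1 := by
  have := (allL_iff l8 fun c => and' (Nat.beq (Nat.land 8388609 (fixC c)) 8388609)
    (and' (Nat.beq (conjC c pA) pA) (and' (Nat.beq (conjC c pB) pB) (not' (Nat.beq c oneC))))).1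
    (by decide +kernel) _ hg
  simp only [and'_eq_true, not'_eq_true, beq_iff] at this
  refine ⟨mem_S9.2 ⟨(mem_fixS_setOf' (by norm_num) g).2 this.1, (code_conj_eq_iff okA).1 this.2.1,
    (code_conj_eq_iff okB).1 this.2.2.1⟩, fun e => this.2.2.2 (by rw [e, code_one'])⟩

theorem pA_mem : mc pA ∈ S9 ∧ mc pA ≠ 1 := mem_S9_of_code (by rw [code_mc okA]; decide)
theorem pB_mem : mc pB ∈ S9 ∧ mc pB ≠ 1 := mem_S9_of_code (by rw [code_mc okB]; decide)

theorem card_S9 : Nat.card S9 = 9 := by
  rw [← chainA.ncard_conj_list okA [pA]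
    (fun c => and' (Nat.beq (outC c) 0) (Nat.beq (conjC c pB) pB)) (N := 9) (by decide +kernel)]
  refine card_subgroup_eq_ncard fun g => ?_
  simp only [mem_S9, List.mem_singleton, and'_eq_true, beq_iff, code_conj', code_mc okA,
    code_conj_eq_iff okA, code_conj_eq_iff okB]
  exact ⟨fun h => ⟨M22'_le h.1, h.2.1, (outC_eq_zero_iff (M22'_le h.1)).2 h.1, h.2.2⟩,
    fun h => ⟨(outC_eq_zero_iff h.1).1 h.2.2.1, h.2.1, h.2.2.2⟩⟩

theorem S9_comm {a b : M24} (ha : a ∈ S9) (hb : b ∈ S9) : a * b = b * a := by
  have := IsPGroup.isMulCommutative_of_card_eq_prime_sq (p := 3) (G := S9) card_S9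
  exact congrArg Subtype.val (this.is_comm.comm (⟨a, ha⟩ : S9) ⟨b, hb⟩)

theorem card_norm_S9 : Nat.card ↥(A22 ⊓ normalizer (S9 : Set M24)) = 144 := by
  rw [← chainA.ncard_conj_list okA l8
    (fun c => force (conjC c pB) fun y => anyL l8 fun x => Nat.beq x y) (N := 144)
    (by decide +kernel)]
  refine card_subgroup_eq_ncard fun g => ?_
  simp only [mem_inf, force_eq, anyL_iff, beq_iff, exists_eq_right]
  rw [← code_mc okB, ← code_conj']
  refine and_congr_right fun hg => ⟨fun h => ?_, fun h => ?_⟩
  · have key : ∀ x ∈ S9, x ≠ 1 → code ((g * x * g⁻¹ : M24) : Equiv.Perm GolayPt) ∈ l8 :=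
      fun x hx h1 => code_of_mem_S9 ((mem_normalizer_iff.1 h x).1 hx) (by simpa using h1)
    exact ⟨key _ pA_mem.1 pA_mem.2, key _ pB_mem.1 pB_mem.2⟩
  · refine inv_mem_iff.1 (mem_normalizer_fintype fun x hx => mem_S9.2
      ⟨conj_mem_M22' (inv_mem hg) (mem_S9.1 hx).1, ?_, ?_⟩)
    · have := S9_comm hx (mem_S9_of_code h.1).1
      calc g⁻¹ * x * g⁻¹⁻¹ * mc pA = g⁻¹ * (x * (g * mc pA * g⁻¹)) * g := by group
        _ = _ := by rw [this]; group
    · have := S9_comm hx (mem_S9_of_code h.2).1
      calc g⁻¹ * x * g⁻¹⁻¹ * mc pB = g⁻¹ * (x * (g * mc pB * g⁻¹)) * g := by group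
        _ = _ := by rw [this]; group

theorem conj_pA {g : M24} (hg : g ∈ S9) (h1 : g ≠ 1) : ∃ y ∈ A22, y * g * y⁻¹ = mc pA := by
  have := (allL_iff l8 fun c => anyL y8 fun y =>
    and' (Nat.beq (conjC y c) pA) (okS 8388609 y)).1 (by decide +kernel) _ (code_of_mem_S9 hg h1)
  simp only [anyL_iff, and'_eq_true, beq_iff] at this
  obtain ⟨y, -, e1, e2⟩ := this
  exact ⟨mc y, mc_mem_A22 e2, by
    rw [eq_iff_code, code_conj', (inH_A22 e2).code_mc, e1, code_mc okA]⟩

theorem lift_l8 {c A : ℕ} (hc : c ∈ l8)
    (hA : A = liftK c ∨ A = mm mD (liftK c) ∨ A = mm mD2 (liftK c)) : mpow A 3 = mI ∧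
      ¬ (mm A (liftK pA) = mm (liftK pA) A ∧ mm A (liftK pB) = mm (liftK pB) A) := by
  have : force (liftK pA) (fun X => force (liftK pB) fun Y => allL l8 fun c => lifts c fun M =>
      and' (Nat.beq (mpow M 3) mI) (not' (and' (Nat.beq (mm M X) (mm X M))
        (Nat.beq (mm M Y) (mm Y M))))) = true := by decide +kernel
  rw [force_eq, force_eq, allL_iff] at this
  simpa only [and'_eq_true, not'_eq_true, beq_iff] using of_lifts (this c hc) hA

theorem lift_pA {A : ℕ} (hA : A = liftK pA ∨ A = mm mD (liftK pA) ∨ A = mm mD2 (liftK pA)) :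
    ∃ i < 3, mm (mpow (liftK pB) i) A = mm (liftK pA) (mpow (liftK pB) i) := by
  have := of_lifts (show lifts pA (fun M => anyLT 3 fun i =>
    Nat.beq (mm (mpow (liftK pB) i) M) (mm (liftK pA) (mpow (liftK pB) i))) = true by
      decide +kernel) hA
  simpa only [anyLT_iff, beq_iff] using this

end L3

end Cfsg.Agent.J4
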