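import Cfsg.Agent.J4.CentT
import Cfsg.Agent.J4.Loc3Aux
import Cfsg.Agent.Block.ZStar
import Cfsg.Agent.Solv.Coprime3
import Cfsg.Agent.Fus.EssSmall

/-! Centralisers of elements of order 3. -/

set_option autoImplicit false
set_option linter.unusedSectionVars false

namespace Cfsg.Agent.J4

open Cfsg Cfsg.Agent.Comp Cfsg.Agent.Spor Cfsg.Agent.Spor.M24C Subgroup
open scoped Pointwise commutatorElement
open LA VA

open L3

variable {G : Type*} [Group G] {z : G} {P : Subgroup G}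

namespace HM

variable [Finite G] (h : HM z P)
include h

theorem cube_of_mem_P {p : G} (hp : p ∈ P) : p ^ 3 = 1 := by
  rw [← JF.card_P h.jf]
  exact congrArg Subtype.val (pow_card_eq_one' (x := (⟨p, hp⟩ : P)))

theorem mem_P_of_cube {k : G} (hk : k ∈ h.K) (h1 : h.ρ k = 1) (h3 : k ^ 3 = 1) : k ∈ P := by
  obtain ⟨p, hp, e⟩ := (h.ρ_eq_one_K hk).1 h1
  rwa [h.eq_of_odd (h.P_le_H hp) e (by decide) (h.cube_of_mem_P hp) h3]

theorem exists_cube {c : ℕ} (hc : c ∈ l8) : ∃ k, h.R k (liftK c) c ∧ k ^ 3 = 1 := by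
  have ok : okM c = true := (allL_iff l8 okM).1 (by decide +kernel) c hc
  obtain ⟨k, r⟩ := h.exists_R_lift (g := mc c)
    (M22'_le (mem_S9.1 (mem_S9_of_code (by rwa [code_mc ok])).1).1)
  rw [code_mc ok] at r
  exact r.exists_odd (by decide) (lift_l8 hc (Or.inl rfl)).1

/-- A Sylow 3-subgroup of `C`. -/
theorem exists_R0 : ∃ R : Subgroup G, Nat.card R = 27 ∧
    ∀ k, k ∈ R ↔ k ∈ h.C ∧ h.ρ k ∈ S9 ∧ k ^ 3 = 1 := by
  let L : Subgroup G := h.C ⊓ (S9.comap h.ρH).map h.H.subtype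
  have mL : ∀ k, k ∈ L ↔ k ∈ h.C ∧ h.ρ k ∈ S9 := fun k =>
    ⟨fun ⟨h1, a, ha, e⟩ => ⟨h1, e ▸ ha⟩, fun ⟨h1, h2⟩ => ⟨h1, ⟨k, h1.1⟩, h2, rfl⟩⟩
  have cL : Nat.card L = 54 := by
    rw [h.card_of_ρ (L := L) (fun a ha => ha.1.1) (A := S9) (fun a ha => ((mL a).1 ha).2)
      (fun g hg => ?_), h.EP_inf (L := L) (fun a ha => (h.C_le_K ha.1).2)
        ((mL z).2 ⟨h.z_mem_C, h.ρ_z ▸ one_mem _⟩) (fun p hp => (mL p).2 ⟨h.P_le_C hp, by
          rw [(h.ρ_eq_one_K (h.C_le_K (h.P_le_C hp))).2 ⟨p, hp, Or.inl rfl⟩]; exact one_mem _⟩),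
      card_S9, h.card_zP]
    obtain ⟨k, hk, rfl⟩ := h.ρ_surj (M22'_le (mem_S9.1 hg).1)
    exact ⟨k, (mL k).2 ⟨(h.mem_C_iff hk).2 (mem_S9.1 hg).1, hg⟩, rfl⟩
  obtain ⟨T, hT⟩ := Sylow.exists_subgroup_card_pow_prime (G := L) 3 (n := 3) (by rw [cL]; norm_num)
  have hi : T.index = 2 := by
    have := T.card_mul_index
    rw [hT, cL] at this
    omega
  refine ⟨T.map L.subtype, by rw [card_subtype, hT]; norm_num, fun k => ⟨?_, ?_⟩⟩
  · rintro ⟨⟨k, hk⟩, hkT, rfl⟩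
    obtain ⟨h1, h2⟩ := (mL k).1 hk
    refine ⟨h1, h2, ?_⟩
    have h27 : k ^ 27 = 1 := by
      have := pow_card_eq_one' (x := (⟨⟨k, hk⟩, hkT⟩ : T))
      rw [hT] at this
      exact congrArg (fun x : T => ((x : L) : G)) this
    have h3 : k ^ 3 = 1 ∨ k ^ 3 = z := by
      by_cases e : h.ρ k = 1
      · obtain ⟨p, hp, e⟩ := (h.ρ_eq_one_K (h.C_le_K h1)).1 e
        have p3 := h.cube_of_mem_P hp
        rw [h.eq_of_odd (h.P_le_H hp) e (n := 27) (by decide)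
          (by rw [show 27 = 3 * 9 from rfl, pow_mul, p3, one_pow]) h27]
        exact Or.inl p3
      · obtain ⟨A, r⟩ := h.exists_R (h.C_le_K h1)
        exact ((r.pow 3).of_eq (lift_l8 (code_of_mem_S9 h2 e) r.cases).1 rfl).eq_one_or
    exact h.eq_of_odd (one_mem _) (by simpa using h3) (n := 9) (by decide) (one_pow _)
      (by rw [← pow_mul]; exact h27)
  · rintro ⟨h1, h2, h3⟩
    have hk := (mL k).2 ⟨h1, h2⟩
    refine ⟨⟨k, hk⟩, ?_, rfl⟩
    have := T.mul_self_mem_of_index_two hi (⟨k, hk⟩ * ⟨k, hk⟩)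
    have e : k * k * (k * k) = k := by
      rw [show k * k * (k * k) = k ^ 3 * k by simp [pow_succ, mul_assoc], h3, one_mul]
    have e' : (⟨k, hk⟩ : L) * ⟨k, hk⟩ * (⟨k, hk⟩ * ⟨k, hk⟩) = ⟨k, hk⟩ := Subtype.ext e
    rw [e'] at this
    exact this

section R0

variable {R : Subgroup G} (hR : ∀ k, k ∈ R ↔ k ∈ h.C ∧ h.ρ k ∈ S9 ∧ k ^ 3 = 1)
include hR

theorem P_le_R0 : P ≤ R := fun p hp => (hR p).2 ⟨h.P_le_C hp, by
  rw [(h.ρ_eq_one_K (h.C_le_K (h.P_le_C hp))).2 ⟨p, hp, Or.inl rfl⟩]; exact one_mem _,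
    h.cube_of_mem_P hp⟩

theorem mem_R0_of {k : G} {A c : ℕ} (hc : c ∈ l8) (r : h.R k A c) (h3 : k ^ 3 = 1) : k ∈ R := by
  have := (mem_S9_of_code (g := h.ρ k) (by rwa [r.code_eq])).1
  exact (hR k).2 ⟨(h.mem_C_iff r.memK).2 (mem_S9.1 this).1, this, h3⟩

theorem mem_P_of_central {c : G} (hc : c ∈ R) (hz : ∀ x ∈ R, x * c = c * x) : c ∈ P := by
  obtain ⟨h1, h2, h3⟩ := (hR c).1 hc
  refine h.mem_P_of_cube (h.C_le_K h1) (by_contra fun e => ?_) h3
  obtain ⟨A, r⟩ := h.exists_R (h.C_le_K h1)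
  obtain ⟨a, ra, a3⟩ := h.exists_cube (c := pA) (by decide)
  obtain ⟨b, rb, b3⟩ := h.exists_cube (c := pB) (by decide)
  exact (lift_l8 (code_of_mem_S9 h2 e) r.cases).2
    ⟨r.mm_eq_of_comm ra (hz a (h.mem_R0_of hR (by decide) ra a3)).symm,
      r.mm_eq_of_comm rb (hz b (h.mem_R0_of hR (by decide) rb b3)).symm⟩

theorem exists_not_comm_R0 : ∃ a ∈ R, ∃ b ∈ R, a * b ≠ b * a := by
  by_contra hn
  push Not at hn
  obtain ⟨a, ra, a3⟩ := h.exists_cube (c := pA) (by decide)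
  have ha := h.mem_R0_of hR (by decide) ra a3
  have := (h.ρ_eq_one_K ra.memK).2 ⟨a, h.mem_P_of_central hR ha fun x hx => hn x hx a ha, Or.inl rfl⟩
  exact pA_mem.2 (ra.mc_eq.trans this)

theorem norm_R0_le : normalizer (R : Set G) ≤ normalizer (P : Set G) := fun n hn =>
  mem_normalizer_fintype fun p hp => h.mem_P_of_central hR
    ((mem_normalizer_iff.1 hn p).1 (h.P_le_R0 hR hp)) fun x hx => by
      have h1 := (mem_normalizer_iff.1 (inv_mem hn) x).1 hx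
      have h2 := mem_centralizer_iff.1 ((hR _).1 h1).1.2 p hp
      calc x * (n * p * n⁻¹) = n * (n⁻¹ * x * n⁻¹⁻¹ * p) * n⁻¹ := by group
        _ = _ := by rw [← h2]; group

end R0

theorem isConj_d_of_mem_P {p : G} (hp : p ∈ P) (h1 : p ≠ 1) : IsConj h.d p := by
  rcases h.mem_P.1 hp with rfl | rfl | rfl
  · exact absurd rfl h1
  · exact IsConj.refl _
  · refine isConj_iff.2 ⟨h.σ, (h.conj_d h.rep_σ.memN).resolve_left fun e => ?_⟩
    have := (R.cent_iff (h := h) h.rep_σ).1 (h.mem_cent_P.2 e)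
    exact absurd this (by decide +kernel)

theorem cent_d : centralizer ({h.d} : Set G) = centralizer (P : Set G) := by
  conv_rhs => rw [h.P_eq]
  exact (Small.centralizer_zpowers _).symm

/-- The elements of order three of `H` outside `E P` are conjugate. -/
theorem isConj_of_cube {a x : G} (ra : h.R a (liftK pA) pA) (a3 : a ^ 3 = 1) (hx : x ∈ h.H)
    (x3 : x ^ 3 = 1) (h1 : h.ρ x ≠ 1) : IsConj a x := by
  obtain ⟨R, cR, hR⟩ := h.exists_R0
  obtain ⟨c, hc, e⟩ := exists_conj_le_of_card (p := 3) (k := 3) (L := h.H) (R := R)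
    (fun k hk => ((hR k).1 hk).1.1) (zpowers_le.2 hx) cR (by rw [h.card_H]; norm_num)
    (IsPGroup.of_card_dvd_pow (n := 1) (by
      rw [Nat.card_zpowers, pow_one]; exact orderOf_dvd_of_pow_eq_one x3))
  obtain ⟨b1, b2, b3⟩ := (hR _).1 (e x (mem_zpowers x))
  obtain ⟨y, hy, ey⟩ := conj_pA b2 (by rw [h.ρ_conj hc hx]; simpa using h1)
  obtain ⟨k, hk, rfl⟩ := h.ρ_surj hy
  obtain ⟨A, r⟩ := h.exists_R (mul_mem (mul_mem hk (h.C_le_K b1)) (inv_mem hk))
  rw [h.ρ_conj hk.1 b1.1, ey, code_mc okA] at r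
  obtain ⟨b, rb, -⟩ := h.exists_cube (c := pB) (by decide)
  obtain ⟨i, -, ei⟩ := lift_pA r.cases
  rw [← (rb.pow i).conj_of_odd r ra ei (n := 3) (by decide)
    (by rw [conj_pow, b3, mul_one, mul_inv_cancel]) a3]
  exact (((isConj_conj _ _).trans (isConj_conj _ _)).trans (isConj_conj _ _)).symm

end HM

namespace MM

variable [Finite G] (h : MM z P)
include h

theorem g0_z : h.lam (mc g0) * z * (h.lam (mc g0))⁻¹ = h.nu (setOf' 8388616) * z := by
  have e := h.lam_conj_setOf' ok0 (m := 15) (by norm_num) (by decide +kernel)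
  have e' := h.nu_xor (m := 8388616) (m' := 15) (by norm_num) (by norm_num) (by decide +kernel)
    (by decide +kernel)
  rw [h.nu_z] at e e'
  rw [e, e']
  exact (h.nu_setOf'_eq_iff (by decide +kernel) (by decide +kernel) (by decide +kernel)
    (by decide +kernel)).2 (by decide +kernel)

theorem d_comm_nu {a : Finset GolayPt} (ha : Even a.card) (h1 : a ⊆ setOf' 9471496) :
    h.d * h.nu a = h.nu a * h.d := by
  rw [← h.lam_d]
  refine h.lam_comm_nu ha (fixS_le_stabilizer a (fixS_anti h1 ?_))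
  rw [mem_fixS_setOf' (by norm_num), code_mc okD]
  decide +kernel

theorem g0_s : h.d * (h.lam (mc g0) * h.s 81 * (h.lam (mc g0))⁻¹) =
    h.lam (mc g0) * h.s 81 * (h.lam (mc g0))⁻¹ * h.d := by
  have e : h.nu (setOf' 3) = h.s 81 := h.nu_W 1 (by norm_num)
  rw [← e, h.lam_conj_setOf' ok0 (by norm_num) (by decide +kernel)]
  exact h.d_comm_nu ((even_setOf' (by decide +kernel)).2 (by decide +kernel))
    ((setOf'_subset_iff (by decide +kernel)).2 (by decide +kernel))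

theorem not_comm_s81 {g : G} (hg : g ∈ h.H) : h.d * (g * h.s 81 * g⁻¹) ≠ g * h.s 81 * g⁻¹ * h.d := by
  intro e
  have h1 := h.conj_mem_E hg (h.s_mem_E (v := 81) (by norm_num))
  have h2 : g * h.s 81 * g⁻¹ ∈ centralizer (P : Set G) := h.cent_d ▸ mem_cent.2 e.symm
  have h3 : h.s 81 = 1 ∨ h.s 81 = z := by
    rcases JF.eq_of_mem_E_cent h.jf h1 h2 with e | e
    · exact Or.inl (by simpa using e)
    · refine Or.inr ?_
      rw [mul_inv_eq_iff_eq_mul, ← h.mem_H.1 hg] at e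
      exact mul_left_cancel e
  exact absurd (h.s_inj 81 (by norm_num) h3) (by norm_num)

theorem isolated {y : G} (hy : y ∈ centralizer (P : Set G)) (hc : y * z * y⁻¹ ∈ h.H) :
    y * z * y⁻¹ = z := by
  by_contra hne
  obtain ⟨k, hk, e⟩ := h.invol_C ⟨hc, (centralizer _).mul_mem ((centralizer _).mul_mem hy h.z_mem_C.2)
    ((centralizer _).inv_mem hy)⟩
    (h.ord_of_z (isConj_conj _ _)) hne
  have e' := e.resolve_left fun e => h.not_both ((isConj_conj _ _).trans (isConj_conj k _))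
    (e ▸ h.isConj_duad (by rw [card_setOf']; decide +kernel))
  rw [← h.g0_z] at e'
  have hy' := mem_cent.1 (h.cent_d ▸ mul_mem hk.2 hy)
  refine h.not_comm_s81 (g := (k * y)⁻¹ * h.lam (mc g0)) (h.mem_H.2 ?_) ?_
  · calc (k * y)⁻¹ * h.lam (mc g0) * z
        = (k * y)⁻¹ * (h.lam (mc g0) * z * (h.lam (mc g0))⁻¹) * h.lam (mc g0) := by group
      _ = _ := by rw [← e']; group
  · calc h.d * ((k * y)⁻¹ * h.lam (mc g0) * h.s 81 * ((k * y)⁻¹ * h.lam (mc g0))⁻¹)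
        = (k * y)⁻¹ * (k * y * h.d) * (k * y)⁻¹ * (h.lam (mc g0) * h.s 81 * (h.lam (mc g0))⁻¹) *
          (k * y) := by group
      _ = (k * y)⁻¹ * (h.d * (h.lam (mc g0) * h.s 81 * (h.lam (mc g0))⁻¹)) * (k * y) := by
        rw [hy']; group
      _ = (k * y)⁻¹ * (h.lam (mc g0) * h.s 81 * (h.lam (mc g0))⁻¹) * (h.d * (k * y)) := by
        rw [h.g0_s]; group
      _ = _ := by rw [← hy']; group

theorem odd_le_H {O : Subgroup G} (hO : Odd (Nat.card O))
    (hn : centralizer (P : Set G) ≤ normalizer (O : Set G)) : O ≤ h.H := by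
  have hA : h.nuSub (setOf' 1544) ≤ centralizer (P : Set G) := by
    rintro _ ⟨a, ha, ea, rfl⟩
    exact h.cent_d ▸ mem_cent.2 (h.d_comm_nu ea (ha.trans (by decide +kernel))).symm
  have hV := h.nuSub_le (setOf' 1544)
  have : IsMulCommutative (h.nuSub (setOf' 1544)) :=
    ⟨⟨fun a b => Subtype.ext (h.V_comm (hV a.2) (hV b.2))⟩⟩
  have hcop : ∀ X ≤ h.V, (Nat.card X).Coprime (Nat.card O) := fun X hX =>
    Nat.Coprime.coprime_dvd_left (h.card_V ▸ card_dvd_of_le hX)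
      (Nat.Coprime.pow_left _ (Nat.coprime_two_left.2 hO))
  refine Solv.le_of_centralizers_le (h.nuSub (setOf' 1544)) O (fun hc => ?_) (hA.trans hn)
    (hcop _ hV) _ ?_
  · obtain ⟨g, hg⟩ := hc.exists_generator
    have key : ∀ m, m < 2 ^ 24 → pop 24 m = 2 → m &&& 1544 = m → h.nu (setOf' m) = g := by
      intro m h1 h2 h3
      rw [← card_setOf'] at h2
      have h4 : h.nu (setOf' m) ∈ h.nuSub (setOf' 1544) :=
        ⟨_, (setOf'_subset_iff h1).2 h3, by rw [h2]; decide, rfl⟩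
      rcases (TT.mem_zpowers_invol (Subtype.ext (h.V_sq _ (hV g.2)))).1 (hg ⟨_, h4⟩) with e | e
      · exact absurd (congrArg Subtype.val e) (h.nu_ne_one (Or.inl h2))
      · exact congrArg Subtype.val e
    have := (key 520 (by norm_num) (by decide +kernel) (by decide)).trans
      (key 1536 (by norm_num) (by decide +kernel) (by decide)).symm
    rw [h.nu_setOf'_eq_iff (by norm_num) (by norm_num) (by decide +kernel) (by decide +kernel)]
      at this
    exact absurd this (by decide +kernel)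
  · rintro _ ⟨a, ha, ea, rfl⟩ h1 r hr
    have h2 : a.card = 2 := by
      have h3 := Finset.card_le_card ha
      rw [card_setOf', show pop 24 1544 = 3 by decide +kernel] at h3
      have h4 : a.card ≠ 0 := fun e => h1 (by rw [Finset.card_eq_zero.1 e, h.nu_empty])
      obtain ⟨n, hn⟩ := ea
      omega
    have h5 : r * (z * r⁻¹ * z⁻¹) ∈ h.V ⊓ O := by
      refine ⟨?_, O.mul_mem hr.1 ((mem_normalizer_iff.1 (hn h.z_mem_C.2) _).1 (O.inv_mem hr.1))⟩
      rw [show r * (z * r⁻¹ * z⁻¹) = r * z * r⁻¹ * z⁻¹ by group]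
      exact h.V.mul_mem (h.toHM.mem_M.1 (h.cent_duad_le h2 hr.2) z h.z_mem_V) (h.V.inv_mem h.z_mem_V)
    rw [(disjoint_of_coprime_natCard (hcop _ le_rfl)).eq_bot, mem_bot] at h5
    rw [h.mem_H]
    calc r * z = r * (z * r⁻¹ * z⁻¹) * (z * r) := by group
      _ = z * r := by rw [h5, one_mul]

theorem cent_P_le : centralizer (P : Set G) ≤ h.H := by
  intro y hy
  let u : centralizer (P : Set G) := ⟨z, h.z_mem_C.2⟩
  have hu : IsIsolatedInvolution u := ⟨by rw [← orderOf_coe]; exact h.z_ord, fun g hg =>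
    Subtype.ext (h.isolated g.2 (h.mem_H.2 (congrArg Subtype.val hg.eq).symm))⟩
  have hO := h.odd_le_H (O := (pPrimeCore 2 (centralizer (P : Set G))).map (Subgroup.subtype _))
    (by rw [card_subtype]; exact Inv.odd_card_pPrimeCore_two _) (fun g hg =>
      mem_normalizer_fintype (by
        rintro _ ⟨x, hx, rfl⟩
        exact ⟨_, Normal.conj_mem inferInstance x hx ⟨g, hg⟩, rfl⟩))
  have h1 : z * y * z⁻¹ * y⁻¹ ∈ h.H := hO ⟨_, Block.zstar hu ⟨y, hy⟩, rfl⟩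
  have h2 : y * z * y⁻¹ ∈ h.H := by
    have := mul_mem (inv_mem h.z_mem_H) h1
    rwa [show z⁻¹ * (z * y * z⁻¹ * y⁻¹) = y * z⁻¹ * y⁻¹ by group, h.z_inv] at this
  exact h.mem_H.2 (mul_inv_eq_iff_eq_mul.1 (h.isolated hy h2))

theorem cent_P_eq : centralizer (P : Set G) = h.C := (inf_eq_right.2 h.cent_P_le).symm

theorem mem_center_C {k : G} (hk : k ∈ h.C) :
    (∀ x ∈ h.C, x * k = k * x) ↔ h.ρ k = 1 := by
  constructor
  · intro hc
    have key : ∀ {x : G} {A c : ℕ}, h.R x A c → outC c = 0 → h.ρ k * mc c * (h.ρ k)⁻¹ = mc c := by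
      intro x A c r e
      rw [r.mc_eq, ← h.ρ_conj hk.1 r.memH, ← hc x ⟨r.memH, r.cent_iff.2 e⟩, mul_inv_cancel_right]
    exact eq_one_of_cent (h.ρ_mem k hk.1) (key h.rep_x (by decide +kernel))
      (key h.rep_u (by decide +kernel))
  · intro e x hx
    obtain ⟨p, hp, rfl | rfl⟩ := (h.ρ_eq_one_K (h.C_le_K hk)).1 e
    · exact (mem_centralizer_iff.1 hx.2 _ hp).symm
    · rw [← mul_assoc, ← mem_centralizer_iff.1 hx.2 _ hp, mul_assoc, h.mem_H.1 hx.1, mul_assoc]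

theorem norm_P_le : normalizer (P : Set G) ≤ h.H := by
  intro n hn
  have key : ∀ n ∈ normalizer (P : Set G), ∀ x ∈ h.C, n * x * n⁻¹ ∈ h.C := fun n hn x hx => by
    rw [← h.cent_P_eq] at hx ⊢
    refine mem_centralizer_iff.2 fun p hp => ?_
    have := mem_centralizer_iff.1 hx _ ((mem_normalizer_iff.1 (inv_mem hn) p).1 hp)
    calc p * (n * x * n⁻¹) = n * (n⁻¹ * p * n⁻¹⁻¹ * x) * n⁻¹ := by group
      _ = _ := by rw [this]; group
  have h1 := key n hn z h.z_mem_C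
  have h2 := (h.mem_center_C h1).1 fun x hx => by
    have := h.mem_H.1 (key _ (inv_mem hn) x hx).1
    calc x * (n * z * n⁻¹) = n * (n⁻¹ * x * n⁻¹⁻¹ * z) * n⁻¹ := by group
      _ = _ := by rw [this]; group
  have h3 := h.mem_E_of_sq h1.1 (Inv.mul_self_of_orderOf_two (h.ord_of_z (isConj_conj _ _))) h2
  rcases JF.eq_of_mem_E_cent h.jf h3 h1.2 with e | e
  · exact absurd (by simpa using e) h.z_ne
  · exact h.mem_H.2 (mul_inv_eq_iff_eq_mul.1 e)

theorem not_dvd_81 : ¬ 3 ^ 4 ∣ Nat.card G := by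
  obtain ⟨R, cR, hR⟩ := h.exists_R0
  refine not_pow_dvd_of_center (R := R) (X := h.C) (IsPGroup.of_card (n := 3) cR)
    (fun e => by rw [e, card_bot] at cR; omega) (fun c hc h1 => ?_) (by rw [h.card_C]; norm_num)
  have c3 : c ^ 3 = 1 := hc ▸ pow_orderOf_eq_one c
  have h2 : c ∈ h.C := h.cent_P_eq ▸ mem_centralizer_iff.2 fun p hp => h1 p (h.P_le_R0 hR hp)
  have key : ∀ x ∈ l8, h.ρ c * mc x = mc x * h.ρ c := fun x hx => by
    obtain ⟨a, ra, a3⟩ := h.exists_cube hx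
    rw [ra.mc_eq, ← h.ρ_mul _ h2.1 _ ra.memH, ← h1 a (h.mem_R0_of hR hx ra a3),
      h.ρ_mul _ ra.memH _ h2.1]
  have h3 := h.mem_P_of_central hR ((hR c).2 ⟨h2, mem_S9.2 ⟨(h.mem_C_iff (h.C_le_K h2)).1 h2,
    key pA (by decide), key pB (by decide)⟩, c3⟩) h1
  rw [cent_eq_of_mem (h.P_eq.le h3) (hc.trans h.d_ord.symm), h.cent_d, h.cent_P_eq]

theorem isConj_d {g : G} (hg : orderOf g = 3) : IsConj h.d g := by
  obtain ⟨R, cR, hR⟩ := h.exists_R0
  obtain ⟨c, -, e⟩ := exists_conj_le_of_card (p := 3) (k := 3) (L := ⊤) (R := R) (Q := zpowers g)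
    le_top le_top cR (by rw [card_top]; exact h.not_dvd_81)
    (IsPGroup.of_card (n := 1) (by rw [Nat.card_zpowers, hg, pow_one]))
  obtain ⟨b1, -, b3⟩ := (hR _).1 (e g (mem_zpowers g))
  refine IsConj.trans ?_ (isConj_conj c g).symm
  by_cases h1 : h.ρ (c * g * c⁻¹) = 1
  · refine h.isConj_d_of_mem_P (h.mem_P_of_cube (h.C_le_K b1) h1 b3) fun e => ?_
    have : g = 1 := by simpa using e
    rw [this, orderOf_one] at hg
    omega
  obtain ⟨a, ra, a3⟩ := h.exists_cube (c := pA) (by decide)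
  refine IsConj.trans ?_ (h.isConj_of_cube ra a3 b1.1 b3 h1)
  have d3 : h.d ^ 3 = 1 := h.cube_of_mem_P h.d_mem_P
  set m := h.lam (mc g0) with hm
  have hH : m⁻¹ * h.d * m⁻¹⁻¹ ∈ h.H := by
    have e1 := h.d_comm_nu (a := setOf' 8388616) ((even_setOf' (by norm_num)).2 (by decide +kernel))
      ((setOf'_subset_iff (by norm_num)).2 (by decide))
    have e2 := h.mem_H.1 (h.P_le_H h.d_mem_P)
    rw [h.mem_H]
    calc m⁻¹ * h.d * m⁻¹⁻¹ * z = m⁻¹ * (h.d * (m * z * m⁻¹)) * m := by group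
      _ = m⁻¹ * (m * z * m⁻¹ * h.d) * m := by
        rw [h.g0_z, ← mul_assoc h.d, e1, mul_assoc _ h.d, e2, mul_assoc _ z]
      _ = _ := by group
  have x3 : (m⁻¹ * h.d * m⁻¹⁻¹) ^ 3 = 1 := by rw [conj_pow, d3, mul_one, mul_inv_cancel]
  refine (isConj_conj m⁻¹ _).trans (h.isConj_of_cube ra a3 hH x3 fun e1 => ?_).symm
  obtain ⟨k, hk, ek⟩ := exists_conj_le_of_card (p := 3) (k := 1) (L := h.E ⊔ P) (R := P)
    le_sup_right (zpowers_le.2 ((h.ρ_eq_one _ hH).1 e1)) (JF.card_P h.jf)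
    (by rw [JF.card_EP h.jf]; norm_num) (IsPGroup.of_card (n := 1) (by
      rw [Nat.card_zpowers, Inv.orderOf_conj, h.d_ord, pow_one]))
  have hk' : k ∈ h.H := (sup_le h.E_le_H h.P_le_H) hk
  have h2 := h.P_eq.le (ek _ (mem_zpowers _))
  have h3 := cent_eq_of_mem h2 (by rw [Inv.orderOf_conj, Inv.orderOf_conj])
  refine h.not_comm_s81 hk' (mem_cent.1 (h3 ▸ mem_cent.2 ?_)).symm
  calc k * h.s 81 * k⁻¹ * (k * (m⁻¹ * h.d * m⁻¹⁻¹) * k⁻¹)
      = k * m⁻¹ * (m * h.s 81 * m⁻¹ * h.d) * m * k⁻¹ := by group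
    _ = _ := by rw [hm, ← h.g0_s]; group

theorem card_cent_three {g : G} (hg : orderOf g = 3) :
    Nat.card (centralizer ({g} : Set G)) = 2661120 := by
  rw [card_cent_of_isConj (h.isConj_d hg), h.cent_d, h.cent_P_eq, h.card_C]

theorem card_norm_R0 {R : Subgroup G} (hR : ∀ k, k ∈ R ↔ k ∈ h.C ∧ h.ρ k ∈ S9 ∧ k ^ 3 = 1) :
    Nat.card (normalizer (R : Set G)) = 864 := by
  have hK : normalizer (R : Set G) ≤ h.K := fun n hn =>
    ⟨h.norm_P_le (h.norm_R0_le hR hn), h.norm_R0_le hR hn⟩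
  have key : ∀ n ∈ h.K, h.ρ n ∈ normalizer (S9 : Set M24) → n ∈ normalizer (R : Set G) :=
    fun n hn e => mem_normalizer_fintype fun k hk => by
      obtain ⟨a1, a2, a3⟩ := (hR k).1 hk
      have a4 : h.ρ (n * k * n⁻¹) ∈ S9 := by
        rw [h.ρ_conj hn.1 a1.1]; exact (mem_normalizer_iff.1 e _).1 a2
      exact (hR _).2 ⟨(h.mem_C_iff (mul_mem (mul_mem hn (h.C_le_K a1)) (inv_mem hn))).2
        (mem_S9.1 a4).1, a4, by rw [conj_pow, a3, mul_one, mul_inv_cancel]⟩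
  rw [h.card_of_ρ (L := normalizer (R : Set G)) (fun a ha => (hK ha).1)
    (A := A22 ⊓ normalizer (S9 : Set M24)), h.EP_inf (h.norm_R0_le hR)
      (key z (h.C_le_K h.z_mem_C) (h.ρ_z ▸ one_mem _)) ((h.P_le_R0 hR).trans le_normalizer),
    card_norm_S9, h.card_zP]
  · refine fun n hn => ⟨h.ρ_mem n (hK hn).1, mem_normalizer_fintype fun x hx => ?_⟩
    by_cases h1 : x = 1
    · rw [h1]; simp
    obtain ⟨k, r, k3⟩ := h.exists_cube (code_of_mem_S9 hx h1)
    have := (hR _).1 ((mem_normalizer_iff.1 hn k).1 (h.mem_R0_of hR (code_of_mem_S9 hx h1) r k3))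
    rw [h.ρ_conj (hK hn).1 r.memH, ← r.mc_eq, mc_code] at this
    exact this.2.1
  · intro g hg
    obtain ⟨k, hk, rfl⟩ := h.ρ_surj hg.1
    exact ⟨k, key k hk hg.2, rfl⟩

theorem sylow_three (R : Sylow 3 G) (hR : (R : Subgroup G) ≤ h.H) :
    IsExtraspecial 3 ↥(R : Subgroup G) ∧ Nat.card ↥(R : Subgroup G) = 27 ∧
      Monoid.exponent ↥(R : Subgroup G) = 3 ∧ normalizer ((R : Subgroup G) : Set G) ≤ h.H ∧
      Nat.card ↥(normalizer ((R : Subgroup G) : Set G)) = 864 := by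
  obtain ⟨R0, c0, h0⟩ := h.exists_R0
  obtain ⟨c, hc, S, -, hS, e1, e2⟩ := exists_conj_common' hR (fun k hk => ((h0 k).1 hk).1.1)
    R.isPGroup' (IsPGroup.of_card (n := 3) c0)
  obtain ⟨n, hn⟩ := IsPGroup.iff_card.1 R.isPGroup'
  have h3 : n ≤ 3 := by
    by_contra h3
    exact h.not_dvd_81 (((pow_dvd_pow 3 (by omega)).trans hn.symm.dvd).trans
      (card_subgroup_dvd_card _))
  have e : R0.map (MulAut.conj c).toMonoidHom = R := by
    refine eq_of_le_of_card_ge (fun x hx => ?_) (by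
      rw [card_map_conj, c0, hn]; exact Nat.pow_le_pow_right (by norm_num) h3)
    obtain ⟨a, ha, rfl⟩ := mem_map_conj.1 hx
    exact R.is_maximal' hS e1 ▸ e2 a ha
  have cR : Nat.card (R : Subgroup G) = 27 := by rw [← e, card_map_conj, c0]
  refine ⟨?_, cR, ?_, ?_, ?_⟩
  · obtain ⟨a, ha, b, hb, hab⟩ := h.exists_not_comm_R0 h0
    refine Fus.AC.isExtraspecial_of_cube (p := 3) cR ⟨⟨_, e ▸ mem_map_conj.2 ⟨a, ha, rfl⟩⟩,
      ⟨_, e ▸ mem_map_conj.2 ⟨b, hb, rfl⟩⟩, fun e' => hab ?_⟩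
    have := congrArg Subtype.val (commutatorElement_eq_one_iff_mul_comm.1 e')
    simpa [mul_assoc] using (show c * a * b = c * b * a by simpa [← mul_assoc] using this)
  · have : Nontrivial (R : Subgroup G) := Finite.one_lt_card_iff_nontrivial.1 (by rw [cR]; norm_num)
    refine (Monoid.exponent_eq_prime_iff (by norm_num)).2 fun g hg => orderOf_eq_prime ?_ hg
    obtain ⟨a, ha, ea⟩ := mem_map_conj.1 (e.symm ▸ g.2 : (g : G) ∈ R0.map (MulAut.conj c).toMonoidHom)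
    exact Subtype.ext (by
      rw [coe_pow, ← ea, conj_pow, ((h0 a).1 ha).2.2, mul_one, mul_inv_cancel]; rfl)
  · rw [← e, normalizer_map_conj]
    intro x hx
    obtain ⟨a, ha, rfl⟩ := mem_map_conj.1 hx
    exact mul_mem (mul_mem hc (h.norm_P_le (h.norm_R0_le h0 ha))) (inv_mem hc)
  · rw [← e, normalizer_map_conj, card_map_conj, h.card_norm_R0 h0]

theorem C_cover : ⁅h.C, h.C⁆ = h.C ∧ IsCyclic (center h.C) ∧ Nat.card (center h.C) = 6 ∧
    Spor.IsoM22 (h.C ⧸ center h.C) := by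
  let φ : h.C →* M22' := (h.ρH.comp (inclusion inf_le_left)).codRestrict _ fun k =>
    (h.mem_C_iff (h.C_le_K k.2)).1 k.2
  have hs : Function.Surjective φ := fun g => by
    obtain ⟨k, hk, e⟩ := h.ρ_surj (M22'_le g.2)
    exact ⟨⟨k, (h.mem_C_iff hk).2 (e ▸ g.2)⟩, Subtype.ext e⟩
  have hk : φ.ker = center h.C := by
    ext k
    rw [MonoidHom.mem_ker, mem_center_iff, Subtype.ext_iff]
    exact ((h.mem_center_C k.2).symm.trans ⟨fun e x => Subtype.ext (e x x.2), fun e x hx =>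
      congrArg Subtype.val (e ⟨x, hx⟩)⟩)
  have hc : Nat.card (center h.C) = 6 := by
    have := φ.ker.card_mul_index
    rw [index_ker, MonoidHom.range_eq_top.2 hs, card_top, card_M22', h.card_C, hk] at this
    omega
  refine ⟨?_, ?_, hc, ⟨((QuotientGroup.quotientMulEquivOfEq hk.symm).trans
    (QuotientGroup.quotientKerEquivOfSurjective φ hs)).trans m22Equiv.symm⟩⟩
  · refine le_antisymm (commutator_le.2 fun a ha b hb =>
      mul_mem (mul_mem (mul_mem ha hb) (inv_mem ha)) (inv_mem hb)) fun k hk' => ?_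
    have := isSimpleGroup_M22'
    have h1 : _root_.commutator M22' = ⊤ := by
      refine (IsSimpleGroup.eq_bot_or_eq_top_of_normal _ inferInstance).resolve_left fun e => ?_
      have h0 : ⁅(⟨_, pX_mem⟩ : M22'), (⟨_, pF_mem⟩ : M22')⁆ ∈ _root_.commutator M22' :=
        commutator_mem_commutator (mem_top _) (mem_top _)
      rw [e, mem_bot, commutatorElement_eq_one_iff_mul_comm] at h0
      have h2 : mc pX * mc pF = mc pF * mc pX := congrArg Subtype.val h0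
      exact absurd ((code_conj_eq_iff okM_pF).2 h2) (by rw [code_mc okM_pX]; decide +kernel)
    have h2 : (_root_.commutator h.C).map φ = ⊤ := by
      rw [map_commutator_eq, MonoidHom.range_eq_top.2 hs]; exact h1
    obtain ⟨k', hk1, e⟩ := (h2 ▸ mem_top (φ ⟨k, hk'⟩) : φ ⟨k, hk'⟩ ∈ (_root_.commutator h.C).map φ)
    have h3 : (k' : G) ∈ ⁅h.C, h.C⁆ := by
      rw [← map_subtype_commutator]; exact ⟨k', hk1, rfl⟩
    obtain ⟨p, hp, e'⟩ := (h.ρ_eq_one_K (k := (k' : G)⁻¹ * k)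
      (h.C_le_K (mul_mem (inv_mem k'.2) hk'))).1 (by
        rw [h.ρ_mul _ (inv_mem k'.2.1) _ hk'.1, h.ρ_inv k'.2.1,
          show h.ρ k' = h.ρ k from congrArg Subtype.val e, inv_mul_cancel])
    have h4 := h.jf.2.2.2.2.2.2.2.2 hp
    rw [← mul_mem_cancel_left (inv_mem h3)]
    rcases e' with e' | e' <;> rw [e']
    exacts [h4, mul_mem h4 h.z_mem_comm]
  · have hd := h.P_le_C h.d_mem_P
    have hm : (⟨h.d * z, mul_mem hd h.z_mem_C⟩ : h.C) ∈ center h.C := by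
      rw [← hk, MonoidHom.mem_ker, Subtype.ext_iff]
      exact (h.ρ_eq_one_K (h.C_le_K (mul_mem hd h.z_mem_C))).2 ⟨_, h.d_mem_P, Or.inr rfl⟩
    refine isCyclic_of_orderOf_eq_card ⟨_, hm⟩ ?_
    rw [hc, ← orderOf_coe, ← orderOf_coe]
    change orderOf (h.d * z) = 6
    rw [Commute.orderOf_mul_eq_mul_orderOf_of_coprime (h.mem_H.1 hd.1)
      (by rw [h.d_ord, h.z_ord]; norm_num), h.d_ord, h.z_ord]

end MM

end Cfsg.Agent.J4
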