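import Cfsg.Agent.J4.ClsA22
import Cfsg.Agent.J4.ClsEng
import Cfsg.Agent.J4.OrdH
import Cfsg.Agent.J4.Loc3

/-! The 27 classes of elements with a power conjugate to `z`, and the six classes of elements of
odd order divisible by three. -/

set_option autoImplicit false

namespace Cfsg.Agent.J4.Cl

open Cfsg Cfsg.Agent.Comp Cfsg.Agent.Spor Cfsg.Agent.Spor.M24C Subgroup J4.Ord Grp.Cls
open scoped Pointwise

/-- The certificates. -/
def zC : List Ct := [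
  ⟨oneC, 0x800400200100080040020010008004002001, 1,
    0x0, 0x800400200100080040020010008004002001,
    0x800400200100080040020010008004002001, 12,
    [(0x8004003ff200100080040020010008004002, 0xbd6717b56939461b52507314831040),
     (0x23a0018effcbd52fa085cb57ac2c8e926400, 0xbd990592651c695724ea409a67c820)], [(0, 0), (1, 2)]⟩,
  ⟨oneC, 0xc008003712472dc16e0b73a41d20e938b23a, 3,
    0xc008003712472dc16e0b73a41d20e938b23a, 0x0,
    0x0, 0,
    [], [(0, 0)]⟩,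
  ⟨0xbba69aca117d8ac42a8b399a320440, 0x33229c354eebbf261cc2e084874856d1541c, 6,
    0xdaeb32064650cc08806b0191f46d414bb8a5, 0x0,
    0x0, 0,
    [], []⟩,
  ⟨0xbba69aca117d8ac42a8b399a320440, 0x1ae332315417e1c9ee607235e94da8730a9f, 2,
    0x1100901001b000000000000000000000000, 0x80040020010008004002001,
    0xbb002025015080040020010008004002001, 8,
    [(0xcc59a457f85a383008d8439166815633ab88, 0xbd6248290b3cc4f2986d648344d9c0)], [(62, 7)]⟩,
  ⟨0xbd670b3e29339076b28b548a408c40, 0xaa07baf4815edc897715b87fbddc723bfbcf, 3,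
    0xc401d0860e70000be07000900001a000000, 0x80008002001,
    0x500200b001008002003007004003002001, 4,
    [(0x80d70c09d8a46055948559c2b7b817ddfe43, 0xba1636bc81316a7b3053549d14c280)], [(0, 0), (2, 2294)]⟩,
  ⟨0xbc69683eae924a76aa6b6190120c40, 0xbc04868667f369d6f0ee05d96f2b57307ea, 4,
    0xaf0810ce0b70300c90000fa0000d9000000, 0x20008002001,
    0xc00200a002003006008000004003002001, 4,
    [], []⟩,
  ⟨0xbc69683eae924a76aa6b6190120c40, 0xf40bcacf9863077141b51cbf1406da2586a, 12,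
    0x4bcc4848a642178e2e304093ada07d4b97f4, 0x0,
    0x0, 0,
    [], []⟩,
  ⟨0xbd64651dc98450f5d18db4c2428c40, 0xe1294cb6e2d94c3af777b9863295f67023e2, 4,
    0x1950a20a700702b18b0a80000000001a9000, 0x10008004001,
    0xf00c00500900d00c00d008004002001001, 4,
    [(0xf3ebab1d2dbb2ce88a4df03e200bdb4b01d8, 0xb8452b0da6a222a5d66e29e047b120)], [(5, 1211)]⟩,
  ⟨0xbd64651dc98450f5d18db4c2428c40, 0x75ee12e5f08fa03e88b28ff9269984abd1b8, 12,
    0xef1b1bde48326c758e7b4d91b071a0a84fd6, 0x0,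
    0x0, 0,
    [], []⟩,
  ⟨0xbb1cb2cab47a613534f68850620c40, 0x1b83e22405c2d51714eaf944c4abbc1f4562, 15,
    0x677e2380464277f200b4609349f2b6a5cb7a, 0x0,
    0x0, 0,
    [], [(0, 0)]⟩,
  ⟨0xbb1cb2cab47a613534f68850620c40, 0x3e225a05ffbcbe6d6fb3f684b7d67e3fbd77, 5,
    0x3624824127203c06404c025000000000000, 0x8004002001,
    0x800500600200400a000003008004002001, 4,
    [(0xc008003712472dc16e0b73a41d20e938b23a, oneC)], [(0, 0), (2, 173), (5, 2065)]⟩,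
  ⟨0xb9e50b3aafa2571099859a90d20c40, 0x493c5ae5f1bc85c275b3f35557ddaf3fb0cd, 6,
    0x8105806e04303c03d02e00000000008c000, 0x10008004001,
    0x800300700000200400c008004002000001, 4,
    [(0xd90aaf722aa1aa8bcd3e4859b3b9edddb7f9, 0xb9c90b346fa2d226202a994ce95620)], [(4, 274)]⟩,
  ⟨0xb9e50b3aafa2571099859a90d20c40, 0x8c94935312b3ff13dfeaf12fb3b4a61f40b3, 6,
    0x20d00505126830508d3040000a22e6000338, 0x10002,
    0x3002003003003003000002000000001000, 2,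
    [], []⟩,
  ⟨0xbb98a31eb19a42f5da4da410520c40, 0xd509dd21b87f71041e77b3b10fa8cca38a06, 7,
    0x6f6e4400ed089ec162937a2ee7c0abb9fdcd, 0x0,
    0x0, 0,
    [], [(0, 0)]⟩,
  ⟨0xbb98a31eb19a42f5da4da410520c40, 0x48dd500b6ef7a92914b282c32f8e89db0c13, 21,
    0xc0f885804acc1d9ab2b16871ee7440cfa7f4, 0x0,
    0x0, 0,
    [], [(0, 0)]⟩,
  ⟨0xbc4d261d2eb54af5cd4d8508140c40, 0xdbba50e52e254a402268315e16506dab01b8, 21,
    0xd6fa7b47a952e3919f3a56f13f995e27a1c7, 0x0,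
    0x0, 0,
    [], [(0, 0)]⟩,
  ⟨0xbc4d261d2eb54af5cd4d8508140c40, 0xa507eb862b30e2631ee9f3630282b540e3e2, 7,
    0x5b4ed5e92305a3fcbc008a2e401ad6592e8f, 0x0,
    0x0, 0,
    [], [(0, 0)]⟩,
  ⟨0xbbd818290b754f3b44b23512d20c40, 0xf20aa1ddec684c43bf7d31ec2ca2d88650d7, 24,
    0xf4d8146ad79f0ed48a126aba46ac1e2c243f, 0x0,
    0x0, 0,
    [], []⟩,
  ⟨0xbbd818290b754f3b44b23512d20c40, 0xaa158193f863f9f3ccf4219505006d76f199, 8,
    0x37a1c50e52cb1363f43453490b53ed000000, 0x2001,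
    0x2001000001000001001000001000002001, 2,
    [], []⟩,
  ⟨0xb85a65cd2e822365519279ea520c40, 0xb7e68517a38ad5114dc9a76e5db9642caa2a, 33,
    0xfa4810b47a6ca91e2ebe2631ffaa00f2cfd6, 0x0,
    0x0, 0,
    [], [(0, 0)]⟩,
  ⟨0xb85a65cd2e822365519279ea520c40, 0xdfbb7e2631b36b7028721a5fa32f7729ad9f, 11,
    0xc458c906c189c4f82200044386256a00090c, 0x20002,
    0x2002003003002000001001001000, 2,
    [(0xc008003712472dc16e0b73a41d20e938b23a, oneC)], [(0, 0), (2, 814)]⟩,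
  ⟨0xb85a65cd2e822365519279ea520c40, 0x685dfb319239be6165bbbd31fe96130507b5, 33,
    0x58efa5d90bc3aa8720e907b411fa7b096f68, 0x0,
    0x0, 0,
    [], [(0, 0)]⟩,
  ⟨0x5a69ab230539b243e8b31ca418457, 0x18d39ae289098b0458543cfeb7c03dc132f8, 2,
    0x4204001305d016000004000000000000000, 0x40010008004002001,
    0x9018006022026020019010008004002001, 6,
    [], []⟩,
  ⟨0x46954b2ce3c0b241a6b7a9a320457, 0x515b30914d0726712ea98f9e1d858c38b425, 2,
    0x1300100703103400d000000000000000000, 0x20010008004002001,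
    0x2302402501203e03c020010008004002001, 6,
    [(0xbeb5bb7cb6604f7cc15f5895193f0244daed, 0xbccad1b1357515214481858cf3a160),
     (0x6fe96045ccc9f5d709c641abc4ba48c70dfe, 0x5a5248483ae2c4a87379ad075697)], [(2, 2083)]⟩,
  ⟨0x39e654ad19c06c5d4e8a25a520457, 0x3a828fe7b611b80686ed08e45c1a32dfd3cc, 4,
    0x9b00700e01521720d18d11c000000000000, 0x8004002001,
    0xf00400000f00b00900300a008004002001, 4,
    [], []⟩,
  ⟨0x3a70b1d31654af69a8b9290120c57, 0xd5f407f82870e8a988fcdb08baf15900215c, 4,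
    0x1b89e09398911408290000000000b91e1000, 0x20010008001,
    0xa00000800400e002008004002001000001, 4,
    [(0xbe37f11e90d70673d40bd0d22f355558465, 0x260589d685502623da393053abad7)], [(1, 1368)]⟩,
  ⟨0x3d96845279d56e0aa45a190d20c57, 0xe7f5867f11ce588f105524e4ca19ed7424c5, 6,
    0x4287800e1bc1679c80110009440d603d000, 0x10001,
    0x2000000000001000002002000001000001, 2,
    [], []⟩,
  ⟨0x31ca2b5109a68f5cac70c6a620c57, 0x951eb7d0cae70eb5edcdfb5dca5c7fca1ff4, 8,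
    0x1853a41e61cd02428d13e2a500a000000339, 0x4002,
    0x1002003001002002000003003002001000, 2,
    [(0x297351c6885cd0d6ebf0c42e3f781c4ac19e, 0x18543caab40db18288e494337b2d7)], [(4, 2780)]⟩,
  ⟨0x42cb546b46a1812bcee94d2620c57, 0xf7d44a19e4d8c1d1f0907e7019bb205823d0, 10,
    0x49c4cd0242f563a02d0484c742d601000000, 0x2001,
    0x1003001000001003002003001002001, 2,
    [], [(1, 453), (2, 2194)]⟩,
  ⟨0x15766b2ae5222684a7479d2120c57, 0xb37f7dc554df037104fdb4662c79bb2d6a7f, 12,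
    0x51236715825b22d77100016c73c56a00065a, 0x20002,
    0x2003001002000002000001001001000, 2,
    [], [(2, 2399), (32, 241)]⟩,
  ⟨0x394c93eb1824a75d0cdb4c8140c57, 0x3b40105071aeedd454add0da7d323c4bf4e2, 14,
    0x6ced6ce2300dd3f5a30f396c7b8440f34a36, 0x0,
    0x0, 0,
    [], []⟩,
  ⟨0x464653d2ea54275c18d9d90520c57, 0x926d92166fe53663151cd8e423ab20773525, 14,
    0xd9ab8f610043280c10d418d716668c38e458, 0x0,
    0x0, 0,
    [], []⟩]

/-- Elements that fuse lifts. -/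
def zW : List (ℕ × ℕ) := [
  (0x800400200100080040020010008004002001, oneC),
  (0xc008003712472dc16e0b73a41d20e938b23a, oneC),
  (0x400c0017134725c12e0973b41da0ed38923b, oneC),
  (0xc004000040080100200400801002003ff001, 0x5883388a1c8f5140b46cd317aed7),
  (0xc8b6bfb0679e23ebcd5057012b67aea06003, 0x52048a8223a56f2986d931159bad7),
  (0xc8b6bf8712b550670223dbce79da057ad003, 0x52084b0ab3c44f0c9a33288e9d6d7),
  (0x25d2ba1d5c1d76be1550588776e8a50d5f08, 0x2da142882616864bc7091e2e9d6d7),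
  (0xf40485ef483369a063871dce06334625516, 0xc225c88d7952c719103aa74ac6d7),
  (0x861fe3f4fec23152cd872aebb3ec1625aa44, 0x50cf4cd020b5c523071540eb956d7),
  (0x51c8d8dcf5f375f870436435c5c6a05448ff, 0x95123d6793523aba01a20c59b2d7),
  (0x7b394886cca9eb7a8590bb5098a7d5483895, 0x51c77a653b30956aa258190310577),
  (0xafceeb280ca99810fc4d18fb366740dc41d2, 0x19cf3d6ca941095ce2565083105b7),
  (0x7ae9eda3409bebec4a4c334334b27825c7da, 0x51f172653330555c0e155868215b7),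
  (0xaa1f209dfa155453fb5af3d413713de4414e, 0xceba214123586149319c0b573ed7)]

/-- The check of a certificate. -/
noncomputable def okCZ (x : Ct) : Bool :=
  and' (isK x.A x.c) (and' (ordOK x.A x.m) (and' (Nat.beq (mm x.Q (Nat.xor x.A mI)) 0)
    (and' (allL x.gens fun g => and' (isK g.1 g.2) (Nat.beq (mm g.1 x.A) (mm x.A g.1)))
    (and' (allL x.reps fun r => and' (Nat.blt r.1 4096) (and' (tz x.A (outC x.c) x.m r.1)
      (or' (and' (Nat.beq (Nat.mod x.m 2) 1) (pv x.A (fun a => Nat.beq a 0) x.m r.1 0))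
        (and' (Nat.blt r.2 4096) (and' (Nat.beq (app x.A r.2) r.2)
          (Nat.beq (Nat.xor (Nat.mul (outC x.c) (qf r.2)) (bf r.1 r.2)) 1))))))
      (force (outC x.c) fun o => eng 0 mI x (tz x.A o x.m))))))

theorem zC_ok {x : Ct} (hx : x ∈ zC) : okCZ x = true :=
  (allL_iff zC okCZ).1 (by decide +kernel) x hx

/-- The representatives. -/
def zL : List (ℕ × ℕ × ℕ × ℕ) := zC.flatMap fun x => x.reps.map fun r => (x.c, x.A, x.Q, r.1)

/-- Equality of indices. -/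
noncomputable def eq4 (i j : ℕ × ℕ × ℕ × ℕ) : Bool :=
  and' (Nat.beq i.1 j.1) (and' (Nat.beq i.2.1 j.2.1)
    (and' (Nat.beq i.2.2.1 j.2.2.1) (Nat.beq i.2.2.2 j.2.2.2)))

theorem eq4_iff {i j : ℕ × ℕ × ℕ × ℕ} : eq4 i j = true ↔ i = j := by
  simp only [eq4, and'_eq_true, beq_iff, Prod.ext_iff]

/-- Simple obstructions to conjugacy. -/
noncomputable def nc1 (i j : ℕ × ℕ × ℕ × ℕ) : Bool :=
  or' (not' (Nat.beq i.1 j.1)) (or' (and' (Nat.beq i.2.1 mI) (Nat.beq j.2.1 mD))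
    (and' (Nat.beq i.2.2.2 0) (not' (Nat.beq (app j.2.2.1 j.2.2.2) 0))))

/-- The obstruction for the lifts of `b`. -/
noncomputable def nc2 (i j : ℕ × ℕ × ℕ × ℕ) (b : ℕ) : Bool :=
  force (liftK b) fun B => allL [B, mm mD B, mm mD2 B] fun B => force B fun B =>
    or' (not' (Nat.beq (mm B i.2.1) (mm j.2.1 B)))
      (not' (Nat.beq (app j.2.2.1 (Nat.xor j.2.2.2 (app B i.2.2.2))) 0))

theorem zL_facts {i j : ℕ × ℕ × ℕ × ℕ} (hi : i ∈ zL) (hj : j ∈ zL) :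
    (∃ x ∈ cN, x.1 = i.1) ∧ (i = j ∨ nc1 i j = true ∨ nc1 j i = true ∨
      and' (allLT 6 fun j => Nat.blt (dg bA j) 24) (Nat.beq (srch 6 orbA uA (okConj i.1 j.1 bA)
        (fun c => and' (Nat.beq (conjC c i.1) j.1) (not' (nc2 i j c))) 6 oneC) 0) = true) := by
  have := (allL_iff zL fun i => and' (anyL cN fun x => Nat.beq x.1 i.1) (allL zL fun j =>
    or' (eq4 i j) (or' (nc1 i j) (or' (nc1 j i) (and' (allLT 6 fun j => Nat.blt (dg bA j) 24)
      (Nat.beq (srch 6 orbA uA (okConj i.1 j.1 bA)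
        (fun c => and' (Nat.beq (conjC c i.1) j.1) (not' (nc2 i j c))) 6 oneC) 0)))))).1
    (by decide +kernel) i hi
  rw [and'_eq_true, anyL_iff, allL_iff] at this
  have h1 := this.2 j hj
  rw [or'_eq_true, or'_eq_true, or'_eq_true, eq4_iff] at h1
  exact ⟨by simpa only [beq_iff] using this.1, h1⟩

theorem zW_ok {w : ℕ × ℕ} (hw : w ∈ zW) : isK w.1 w.2 = true :=
  (allL_iff zW fun w => isK w.1 w.2).1 (by decide +kernel) w hw

theorem exists_zC {x : ℕ × ℕ} (hx : x ∈ cN) {A : ℕ}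
    (hA : A = liftK x.1 ∨ A = mm mD (liftK x.1) ∨ A = mm mD2 (liftK x.1)) :
    ∃ y ∈ zC, y.c = x.1 ∧ ∃ w ∈ zW, mm w.1 A = mm y.A w.1 := by
  have := (allL_iff cN fun x => force (liftK x.1) fun B => allL [B, mm mD B, mm mD2 B] fun A =>
    force A fun A => anyL zC fun y => and' (Nat.beq y.c x.1)
      (anyL zW fun w => Nat.beq (mm w.1 A) (mm y.A w.1))).1 (by decide +kernel) x hx
  simp only [force_eq, allL_iff, anyL_iff, and'_eq_true, beq_iff] at this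
  exact this A (by simpa using hA)

/-- The representatives of odd order divisible by three. -/
def oL : List (ℕ × ℕ × ℕ × ℕ) := [
  (oneC, mD, 0, 0),
  (0xbb1cb2cab47a613534f68850620c40, 0x1b83e22405c2d51714eaf944c4abbc1f4562, 0, 0),
  (0xbb98a31eb19a42f5da4da410520c40, 0x48dd500b6ef7a92914b282c32f8e89db0c13, 0, 0),
  (0xbc4d261d2eb54af5cd4d8508140c40, 0xdbba50e52e254a402268315e16506dab01b8, 0, 0),
  (0xb85a65cd2e822365519279ea520c40, 0xb7e68517a38ad5114dc9a76e5db9642caa2a, 0, 0),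
  (0xb85a65cd2e822365519279ea520c40, 0x685dfb319239be6165bbbd31fe96130507b5, 0, 0)]

theorem oL_facts {i : ℕ × ℕ × ℕ × ℕ} (hi : i ∈ oL) : i ∈ zL ∧ i.2.2.2 = 0 ∧ isK i.2.1 i.1 = true ∧
    (mpow (mpow (mpow i.2.1 5) 7) 11 = mD ∨ mpow (mpow (mpow i.2.1 5) 7) 11 = mD2) := by
  have := (allL_iff oL fun i => and' (anyL zL fun j => eq4 j i) (and' (Nat.beq i.2.2.2 0)
    (and' (isK i.2.1 i.1) (force (mpow i.2.1 5) fun A => force (mpow A 7) fun A =>
      force (mpow A 11) fun A => or' (Nat.beq A mD) (Nat.beq A mD2))))).1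
    (by decide +kernel) i hi
  simp only [force_eq, anyL_iff, and'_eq_true, or'_eq_true, beq_iff, eq4_iff] at this
  obtain ⟨⟨j, hj, rfl⟩, h⟩ := this
  exact ⟨hj, h⟩

theorem mem_oL {x : Ct} (hx : x ∈ zC) {r : ℕ × ℕ} (hr : r ∈ x.reps) (h2 : x.m % 2 = 1)
    (h3 : x.m % 3 = 0) (h : x.m ≠ 3) : (x.c, x.A, x.Q, r.1) ∈ oL := by
  have := (allL_iff zC fun x => allL x.reps fun r => or' (not' (Nat.beq (Nat.mod x.m 2) 1))
    (or' (not' (Nat.beq (Nat.mod x.m 3) 0)) (or' (Nat.beq x.m 3)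
      (anyL oL fun j => eq4 j (x.c, x.A, x.Q, r.1))))).1 (by decide +kernel) x hx
  simp only [allL_iff, anyL_iff, or'_eq_true, not'_eq_true, beq_iff, eq4_iff] at this
  obtain ⟨j, hj, rfl⟩ := (((this r hr).resolve_left (not_not.2 h2)).resolve_left
    (not_not.2 h3)).resolve_left h
  exact hj

variable {G : Type*} [Group G] {z : G} {P : Subgroup G} [Finite G]

section HM

variable {h : HM z P}

theorem conj_of_mm {y k k' : G} {B b A c A' c' : ℕ} (ry : h.R y B b) (r : h.R k A c)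
    (r' : h.R k' A' c') (e : mm B A = mm A' B) : h.R (y * k * y⁻¹) A' c' := by
  rcases (r'.mul ry).eq_or ((ry.mul r).of_eq e rfl) with e1 | e1
  · rwa [e1, mul_inv_cancel_right]
  · rw [e1, mul_assoc k', h.mem_H.1 ry.memH, ← mul_assoc, mul_inv_cancel_right]
    exact r'.mul_z

omit [Finite G] in
theorem conj_transl {k : G} {A c v w : ℕ} (r : h.R k A c) (hv : v < 4096) (hw : w < 4096) :
    ∃ e, h.s w * (h.s v * k) * (h.s w)⁻¹ = h.s (v ^^^ (w ^^^ app A w)) * (z ^ e * k) := by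
  have h2 := xor_lt hv (xor_lt hw (app_lt A w))
  refine ⟨beta w v + (outC c * qf w ^^^ beta (w ^^^ v) (app A w)) + qf w, ?_⟩
  have h3 := r.mul_s (xor_lt hw hv) hw (z ^ qf w)
  rw [h.s_inv hw, ← mul_assoc (h.s w) (h.s v), h.s_mul _ hw _ hv,
    h.comm_z_pow (h.s_mem_H (xor_lt hw hv)),
    mul_assoc (z ^ _), mul_assoc (z ^ _), h3, Nat.xor_comm w v, Nat.xor_assoc,
    h.comm_z_pow r.memH, ← mul_assoc (z ^ _), ← mul_assoc (z ^ _),
    ← h.comm_z_pow (h.s_mem_H h2), pow_add, pow_add]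
  group

theorem conj_core {y k k' : G} {A c A' c' v v' : ℕ} (hy : y ∈ h.H) (r : h.R k A c)
    (r' : h.R k' A' c') (hv : v < 4096) (hv' : v' < 4096)
    (e : y * (h.s v * k) * y⁻¹ = h.s v' * k') : ∃ k0 B b, h.R k0 B b ∧
      mc b * mc c * (mc b)⁻¹ = mc c' ∧ mm B A = mm A' B ∧
      ∃ w < 4096, v' = app B v ^^^ (w ^^^ app A' w) := by
  obtain ⟨u, hu, k0, hk0, rfl⟩ := h.decomp hy
  obtain ⟨B, r0⟩ := h.exists_R hk0
  obtain ⟨A1, r1⟩ := h.exists_R (mul_mem (mul_mem hk0 r.memK) (inv_mem hk0))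
  obtain ⟨n, e1⟩ := conj_transl (R_zpow r1 (outC (code (h.ρ k0 : Equiv.Perm GolayPt)) * qf v))
    (app_lt B v) hu
  rw [← conj_s_mul r0 hv, show h.s u * (k0 * (h.s v * k) * k0⁻¹) * (h.s u)⁻¹ =
    h.s u * k0 * (h.s v * k) * (h.s u * k0)⁻¹ by group, e] at e1
  have r2 := R_zpow (R_zpow r1 (outC (code (h.ρ k0 : Equiv.Perm GolayPt)) * qf v)) n
  obtain ⟨e2, e3⟩ := h.s_mul_inj hv' (xor_lt (app_lt _ _) (xor_lt hu (app_lt _ _))) r'.memK
    r2.memK e1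
  obtain ⟨rfl, rfl⟩ := r'.unique (e3 ▸ r2)
  refine ⟨k0, B, _, r0, ?_, ?_, u, hu, e2⟩
  · rw [r0.mc_eq, r.mc_eq, r1.mc_eq, h.ρ_conj r0.memH r.memH]
  · exact ((r0.mul r).unique (by simpa using r1.mul r0)).1

omit [Finite G] in
theorem pow_ne_one (h : HM z P) {g : G} (hg : z ∈ zpowers g) (m : ℕ) (hm : m % 2 = 1) :
    g ^ m ≠ 1 := fun e => by
  have h1 := (orderOf_dvd_of_mem_zpowers hg).trans (orderOf_dvd_of_pow_eq_one e)
  rw [h.z_ord] at h1
  omega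

omit [Finite G] in
theorem mul_z_pow {g : G} (hg : g ∈ h.H) {m : ℕ} (hm : m % 2 = 1) : (g * z) ^ m = g ^ m * z := by
  rw [Commute.mul_pow (h.mem_H.1 hg), pow_eq_pow_mod m (show z ^ 2 = 1 by rw [sq, h.z_sq]), hm,
    pow_one]

omit [Finite G] in
theorem z_mem_of_odd {g : G} (hg : g ∈ h.H) {m : ℕ} (hm : m % 2 = 1) (e : g ^ m = 1) :
    z ∈ zpowers (g * z) := by
  have := npow_mem_zpowers (g * z) m
  rwa [mul_z_pow hg hm, e, one_mul] at this

theorem dvd_of_pow {k : G} {A c v m n : ℕ} (r : h.R k A c) (hv : v < 4096) (hm : IsOrd A m)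
    (e : (h.s v * k) ^ n = 1) : m ∣ n := by
  have r1 := R_zpow (r.pow n) (sgn A v (outC c) n)
  rw [s_mul_pow r hv, ← mul_one 1] at e
  nth_rw 1 [← h.s_zero] at e
  have e1 := (h.s_mul_inj (accV_lt A hv n) (by norm_num) r1.memK (one_mem _) e).2
  exact hm.dvd (r1.unique (e1 ▸ h.R_one)).1

theorem pow_mem_E {k : G} {A c v m : ℕ} (r : h.R k A c) (hv : v < 4096) (hm : mpow A m = mI) :
    ∃ e, (h.s v * k) ^ m = h.s (accV A v m) * z ^ e := by
  rw [s_mul_pow r hv]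
  rcases ((r.pow m).of_eq hm rfl).eq_one_or with e | e <;> rw [e]
  · exact ⟨_, by rw [mul_one]⟩
  · exact ⟨_, by rw [← pow_succ]⟩

theorem pow_four {k : G} {A c v m : ℕ} (r : h.R k A c) (hv : v < 4096) (hm : mpow A m = mI) :
    (h.s v * k) ^ (m * 4) = 1 := by
  obtain ⟨e, h1⟩ := pow_mem_E r hv hm
  have h6 := accV_lt A hv m
  have h7 : h.s (accV A v m) * z ^ e * (h.s (accV A v m) * z ^ e) = z ^ qf (accV A v m) := by
    rw [mul_assoc, ← mul_assoc (z ^ e), ← h.comm_z_pow (h.s_mem_H h6), mul_assoc, h.z_pow_sq,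
      mul_one, h.s_sq h6]
  rw [pow_mul, h1, show 4 = 2 * 2 from rfl, pow_mul, sq, sq, h7, h.z_pow_sq]

end HM

variable (h : MM z P)
include h

/-- The representatives with index `i`. -/
def RepZ (i : ℕ × ℕ × ℕ × ℕ) (g : G) : Prop := ∃ k, h.R k i.2.1 i.1 ∧ g = h.s i.2.2.2 * k

theorem ex_z {i : ℕ × ℕ × ℕ × ℕ} (hi : i ∈ zL) : ∃ g, z ∈ zpowers g ∧ RepZ h i g := by
  obtain ⟨x, hx, hi⟩ := List.mem_flatMap.1 hi
  obtain ⟨r, hr, rfl⟩ := List.mem_map.1 hi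
  have := zC_ok hx
  simp only [okCZ, and'_eq_true, allL_iff, blt_iff, tz_iff] at this
  obtain ⟨h1, h2, -, -, h4, -⟩ := this
  obtain ⟨a1, a2, -⟩ := h4 r hr
  obtain ⟨k, rk⟩ := h.exists_R_of_isK h1
  by_cases e : ∀ m, m % 2 = 1 → (h.s r.1 * k) ^ m ≠ 1
  · exact ⟨_, (evalZ (fun _ => h.not_sq) rk a1 e).2 ⟨_, isOrd_of h2, a2⟩, k, rk, rfl⟩
  · push Not at e
    obtain ⟨m, hm, e⟩ := e
    exact ⟨_, z_mem_of_odd (mul_mem (h.s_mem_H a1) rk.memH) hm e, k * z, rk.mul_z, mul_assoc _ _ _⟩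

theorem uniq_z {i : ℕ × ℕ × ℕ × ℕ} (hi : i ∈ zL) {a b : G} (ha : z ∈ zpowers a)
    (hb : z ∈ zpowers b) (h1 : RepZ h i a) (h2 : RepZ h i b) : IsConj a b := by
  obtain ⟨x, hx, hi⟩ := List.mem_flatMap.1 hi
  obtain ⟨r, hr, rfl⟩ := List.mem_map.1 hi
  have := zC_ok hx
  simp only [okCZ, and'_eq_true, allL_iff, blt_iff, beq_iff, or'_eq_true, pv_eq'] at this
  obtain ⟨-, h3, -, -, h4, -⟩ := this
  obtain ⟨a1, -, a2⟩ := h4 r hr
  obtain ⟨k, rk, rfl⟩ := h1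
  obtain ⟨k', rk', rfl⟩ := h2
  have hH := mul_mem (h.s_mem_H a1) rk.memH
  rcases rk.eq_or rk' with rfl | rfl
  · exact IsConj.refl _
  rw [← mul_assoc] at hb ⊢
  rcases a2 with ⟨a2, a3⟩ | ⟨a2, a3, a4⟩
  · obtain ⟨e, h5⟩ := pow_mem_E rk a1 (isOrd_of h3).2.1
    rw [a3, h.s_zero, one_mul] at h5
    rcases zp_cases h.toHM e with e1 | e1 <;> rw [e1] at h5
    · exact absurd h5 (pow_ne_one h.toHM ha _ a2)
    · exact pow_ne_one h.toHM hb _ a2 (by rw [mul_z_pow hH a2, h5, h.z_sq]) |>.elim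
  · have h5 := rk.conj_s a1 a2
    have h6 : outC x.c * qf r.2 ^^^ bf r.1 r.2 = 1 := a4
    rw [a3, h6, pow_one, mul_inv_eq_iff_eq_mul] at h5
    refine isConj_iff.2 ⟨(h.s r.2)⁻¹, ?_⟩
    rw [inv_inv, mul_assoc, h5, mul_assoc, inv_mul_cancel_left, h.mem_H.1 hH]

theorem inj_z {i j : ℕ × ℕ × ℕ × ℕ} (hi : i ∈ zL) (hj : j ∈ zL) {a b : G} (h1 : RepZ h i a)
    (h2 : RepZ h j b) {y : G} (hy : y ∈ h.H) (e : y * a * y⁻¹ = b) : i = j := by
  have lt : ∀ i ∈ zL, i.2.2.2 < 4096 ∧ ∀ w < 4096, app i.2.2.1 (w ^^^ app i.2.1 w) = 0 := by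
    intro i hi
    obtain ⟨x, hx, hi⟩ := List.mem_flatMap.1 hi
    obtain ⟨r, hr, rfl⟩ := List.mem_map.1 hi
    have := zC_ok hx
    simp only [okCZ, and'_eq_true, allL_iff, blt_iff, beq_iff] at this
    refine ⟨(this.2.2.2.2.1 r hr).1, fun w hw => ?_⟩
    have h3 : mm x.Q (x.A ^^^ mI) = 0 := this.2.2.1
    have h4 := app_mm x.Q (x.A ^^^ mI) hw
    rw [h3, zero_app, app_add, app_mI hw, Nat.xor_comm] at h4
    exact h4.symm
  have key : ∀ i ∈ zL, ∀ j ∈ zL, ∀ a b, RepZ h i a → RepZ h j b → ∀ y ∈ h.H, y * a * y⁻¹ = b →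
      ¬ nc1 i j = true := by
    rintro i hi j hj _ _ ⟨k, r, rfl⟩ ⟨k', r', rfl⟩ y hy e e1
    obtain ⟨k0, B, b, r0, a1, a2, w, hw, a3⟩ := conj_core hy r r' (lt i hi).1 (lt j hj).1 e
    simp only [nc1, or'_eq_true, and'_eq_true, not'_eq_true, beq_iff] at e1
    rcases e1 with e1 | ⟨e1, e2⟩ | ⟨e1, e2⟩
    · obtain ⟨x, hx, e2⟩ := (zL_facts hi hj).1
      obtain ⟨x', hx', e3⟩ := (zL_facts hj hi).1
      rw [← e2, ← e3] at a1
      exact e1 (by rw [← e2, ← e3, cN_inj hx hx' r0.inH.mc_mem a1])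
    · rw [e1, e2, mm_mI r0.lt] at a2
      have h3 := app_mm mD B (show 1 < 4096 by norm_num)
      rw [← a2] at h3
      have h4 := app_mD_ne (app_lt _ _) h3.symm
      exact one_ne_zero (r0.app_inj (by norm_num) (by norm_num) (h4.trans (app_zero B).symm))
    · rw [e1, app_zero, Nat.zero_xor] at a3
      exact e2 (a3 ▸ (lt j hj).2 w hw)
  rcases (zL_facts hi hj).2 with e1 | e1 | e1 | e1
  · exact e1
  · exact absurd e1 (key i hi j hj a b h1 h2 y hy e)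
  · exact absurd e1 (key j hj i hi b a h2 h1 y⁻¹ (inv_mem hy) (by rw [← e]; group))
  · obtain ⟨k, r, rfl⟩ := h1
    obtain ⟨k', r', rfl⟩ := h2
    obtain ⟨k0, B, b, r0, a1, a2, w, hw, a3⟩ := conj_core hy r r' (lt i hi).1 (lt j hj).1 e
    have h3 := chainA.forall_conj (okM_of_inH r.inH) (okM_of_inH r'.inH) (nc2 i j) e1 _
      r0.inH.mc_mem a1
    rw [code_mc (okM_of_inH r0.inH)] at h3
    simp only [nc2, force_eq, allL_iff, or'_eq_true, not'_eq_true, beq_iff] at h3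
    refine absurd ?_ ((h3 B (by simpa using r0.cases)).resolve_left (not_not.2 a2))
    have h4 : Nat.xor j.2.2.2 (app B i.2.2.2) = w ^^^ app j.2.1 w := by
      change j.2.2.2 ^^^ _ = _
      rw [a3, Nat.xor_comm, ← Nat.xor_assoc, Nat.xor_self, Nat.zero_xor]
    rw [h4, (lt j hj).2 w hw]

theorem cov_zC {x : Ct} (hx : x ∈ zC) : ∀ v < 4096, dm 0 v = true →
    ∀ k, h.R k x.A x.c → Cov z zL (RepZ h) (h.s v * k) := by
  have := zC_ok hx
  simp only [okCZ, and'_eq_true, allL_iff, blt_iff, beq_iff, force_eq] at this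
  obtain ⟨h1, h2, -, h3, h4, h5⟩ := this
  obtain ⟨k0, r0⟩ := h.exists_R_of_isK h1
  have tr : ∀ v v' k1 y, y ∈ h.H → h.R k1 x.A x.c → y * (h.s v * k0) * y⁻¹ = h.s v' * k1 →
      (∀ k, h.R k x.A x.c → Cov z zL (RepZ h) (h.s v * k)) →
      ∀ k, h.R k x.A x.c → Cov z zL (RepZ h) (h.s v' * k) := fun v v' k1 y hy r1 e p k r => by
    rcases r1.eq_or r with rfl | rfl
    · exact (p _ r0).conj hy e
    · refine (p _ r0.mul_z).conj hy ?_
      rw [← mul_assoc (h.s v'), ← e, mul_assoc _ _ z, h.mem_H.1 (inv_mem hy)]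
      group
  refine eng_spec (fun v hv _ => app_mI hv) h5 (fun v hv w hw _ _ => ?_) (fun g hg v hv _ p => ?_)
    (fun i hi => ?_) fun v hv _ e1 k r e2 => ?_
  · obtain ⟨e, e1⟩ := conj_transl r0 hv hw
    exact tr _ _ _ _ (h.s_mem_H hw) (R_zpow r0 e) e1
  · obtain ⟨a1, a2⟩ := h3 g hg
    obtain ⟨y, ry⟩ := h.exists_R_of_isK a1
    exact ⟨dm_zero_left _, tr _ _ _ _ ry.memH (R_zpow (conj_of_mm ry r0 r0 a2) _)
      (conj_s_mul ry hv _) p⟩
  · exact ⟨(h4 i hi).1, dm_zero_left _, fun k r e => ⟨(x.c, x.A, x.Q, i.1),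
      List.mem_flatMap.2 ⟨x, hx, List.mem_map.2 ⟨i, hi, rfl⟩⟩, _, e, ⟨k, r, rfl⟩, IsConj.refl _⟩⟩
  · obtain ⟨m, a1, a2⟩ := (evalZ (fun _ => h.not_sq) r hv (pow_ne_one h.toHM e2)).1 e2
    exact absurd ((tz_iff _ _ _ _).2 (a1.unique (isOrd_of h2) ▸ a2)) e1

theorem cov_z {g : G} (hg : g ∈ h.H) : Cov z zL (RepZ h) g := by
  obtain ⟨v, hv, k, hk, rfl⟩ := h.decomp hg
  obtain ⟨x, hx, u, hu, e⟩ := cN_cover (h.ρ_mem k hk.1)
  obtain ⟨y0, hy0, rfl⟩ := h.ρ_surj hu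
  obtain ⟨A, r⟩ := h.exists_R (mul_mem (mul_mem (inv_mem hy0) hk) (inv_mem (inv_mem hy0)))
  rw [h.ρ_conj (inv_mem hy0.1) hk.1, h.ρ_inv hy0.1, ← e,
    show ∀ a b : M24, a⁻¹ * (a * b * a⁻¹) * a⁻¹⁻¹ = b from fun a b => by group,
    code_mc (cN_okM hx)] at r
  obtain ⟨c, hc, e1, w, hw, e2⟩ := exists_zC hx r.cases
  obtain ⟨y1, r1⟩ := h.exists_R_of_isK (zW_ok hw)
  have := zC_ok hc
  rw [okCZ, and'_eq_true] at this
  obtain ⟨k0, r0⟩ := h.exists_R_of_isK this.1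
  have r2 := conj_of_mm r1 r r0 e2
  obtain ⟨B, r3⟩ := h.exists_R (mul_mem r1.memK (inv_mem hy0))
  rw [show y1 * (y0⁻¹ * k * y0⁻¹⁻¹) * y1⁻¹ = y1 * y0⁻¹ * k * (y1 * y0⁻¹)⁻¹ by group] at r2
  have := cov_zC h hc _ (app_lt B v) (dm_zero_left _) _
    (R_zpow r2 (outC (code (h.ρ (y1 * y0⁻¹) : Equiv.Perm GolayPt)) * qf v))
  rw [← conj_s_mul r3 hv] at this
  exact this.conj (inv_mem r3.memH) (by group)

theorem cls_z : cls {g | z ∈ zpowers g} = 27 := by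
  rw [cls_eq_of_cov h.z_ord zL (RepZ h) (fun i => ex_z h)
    (fun i hi j hj a b ha hb y => inj_z h hi hj ha hb) (fun i hi a b => uniq_z h hi)
    fun g => cov_z h]
  decide +kernel

theorem odd_rep {i : ℕ × ℕ × ℕ × ℕ} (hi : i ∈ oL) {a : G} (r : h.R a i.2.1 i.1) :
    h.ρ (a ^ 385) = 1 ∧ a ^ 385 ≠ 1 ∧ (a ^ 1155 = 1 ∨ a ^ 1155 = z) := by
  have r1 := ((r.pow 5).pow 7).pow 11
  rw [← pow_mul, ← pow_mul] at r1
  have r2 := r1.pow 3
  rw [← pow_mul] at r2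
  have e0 : mD ≠ mI ∧ mD2 ≠ mI ∧ mpow mD 3 = mI ∧ mpow mD2 3 = mI := by decide +kernel
  rcases (oL_facts hi).2.2.2 with e | e <;> rw [e] at r1 r2
  · refine ⟨?_, fun e1 => e0.1 (r1.unique (e1 ▸ h.R_one)).1, (r2.of_eq e0.2.2.1 rfl).eq_one_or⟩
    rw [← r1.mc_eq, r1.code_eq_of_mat h.rep_d, mc_oneC]
  · refine ⟨?_, fun e1 => e0.2.1 (r1.unique (e1 ▸ h.R_one)).1, (r2.of_eq e0.2.2.2 rfl).eq_one_or⟩
    rw [← r1.mc_eq, r1.code_eq_of_mat h.R_d2, mc_oneC]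

theorem odd_rep' {i : ℕ × ℕ × ℕ × ℕ} (hi : i ∈ oL) {a : G} (r : h.R a i.2.1 i.1)
    (ha : orderOf a % 2 = 1) : a ^ 1155 = 1 ∧ zpowers (a ^ 385) = P := by
  obtain ⟨h1, h2, h3⟩ := odd_rep h hi r
  have h4 := h3.resolve_right fun e => pow_ne_one h.toHM (e ▸ npow_mem_zpowers a 1155) _ ha
    (pow_orderOf_eq_one a)
  have h5 : (a ^ 385) ^ 3 = 1 := by rw [← pow_mul, h4]
  have h6 := h.mem_P_of_cube (pow_mem r.memK 385) h1 h5
  rw [h.P_eq] at h6 ⊢
  have := Fact.mk Nat.prime_three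
  exact ⟨h4, LA.zpowers_eq_of_mem h6 ((orderOf_eq_prime h5 h2).trans h.d_ord.symm)⟩

theorem cls_three : cls {g : G | orderOf g % 2 = 1 ∧ 3 ∣ orderOf g} = 6 := by
  have := Fact.mk Nat.prime_three
  have rep : ∀ i ∈ oL, ∀ a, h.R a i.2.1 i.1 → RepZ h i (a * z) := fun i hi a r =>
    ⟨_, r.mul_z, by rw [(oL_facts hi).2.1, h.s_zero, one_mul]⟩
  rw [cls_eq_of_reps oL.toFinset (fun i a => h.R a i.2.1 i.1) (fun i hi => ?_)
    (fun i hi j hj a ha b hb r r' e => ?_) (fun i hi a ha b hb r r' => ?_) fun g hg => ?_]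
  · decide +kernel
  all_goals simp only [List.mem_toFinset, Set.mem_ofPred_eq] at *
  · obtain ⟨k, r⟩ := h.exists_R_of_isK (oL_facts hi).2.2.1
    obtain ⟨a, r, e⟩ : ∃ a, h.R a i.2.1 i.1 ∧ a ^ 1155 = 1 := by
      rcases (odd_rep h hi r).2.2 with e | e
      · exact ⟨k, r, e⟩
      · exact ⟨_, r.mul_z, by rw [mul_z_pow (h := h.toHM) r.memH rfl, e, h.z_sq]⟩
    have h1 := orderOf_dvd_of_pow_eq_one e
    refine ⟨a, ⟨Nat.odd_iff.1 (Odd.of_dvd_nat (by decide) h1), ?_⟩, r⟩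
    by_contra h2
    exact (odd_rep h hi r).2.1 (orderOf_dvd_iff_pow_eq_one.1 (Nat.Coprime.dvd_of_dvd_mul_left
      ((Nat.prime_three.coprime_iff_not_dvd.2 h2).symm) h1))
  · obtain ⟨y, rfl⟩ := isConj_iff.1 e
    have h1 := (odd_rep' h hi r ha.1).2
    have h2 := (odd_rep' h hj r' hb.1).2
    have h3 : y ∈ h.H := by
      refine h.norm_P_le ?_
      rw [← h1, Small.mem_normalizer_zpowers_iff, h1, ← h2, ← conj_pow]
      exact mem_zpowers _
    refine inj_z h (oL_facts hi).1 (oL_facts hj).1 (rep i hi _ r) (rep j hj _ r') h3 ?_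
    rw [mul_assoc _ _ z, h.mem_H.1 (inv_mem h3)]
    group
  · rw [h.eq_of_odd r.memH (r.eq_or r') (by decide : Odd 1155) (odd_rep' h hi r ha.1).1
      (odd_rep' h hi r' hb.1).1]
  · obtain ⟨n, hn⟩ := hg.2
    have h0 := orderOf_pos g
    have h1 : orderOf (g ^ n) = 3 := by
      rw [orderOf_pow' _ (by omega), hn, Nat.gcd_mul_left_left, Nat.mul_div_cancel _ (by omega)]
    obtain ⟨c, hc⟩ := isConj_iff.1 (h.isConj_d h1).symm
    have h2 : c * g * c⁻¹ ∈ h.H := by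
      refine h.cent_P_le ?_
      rw [← h.cent_d, ← hc, ← conj_pow]
      exact mem_cent_of_mem_zpowers (npow_mem_zpowers _ _)
    have h3 : orderOf (c * g * c⁻¹) = orderOf g :=
      orderOf_injective (MulAut.conj c).toMonoidHom (MulAut.conj c).injective g
    have h4 := z_mem_of_odd h2 hg.1 (h3 ▸ pow_orderOf_eq_one _)
    obtain ⟨i, hi, a, a1, ⟨k, r, rfl⟩, a2⟩ := cov_z h (mul_mem h2 h.z_mem_H) h4
    obtain ⟨y, hy, e⟩ := conj_in_cent h.z_ord a1 h4 a2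
    obtain ⟨x, hx, hi⟩ := List.mem_flatMap.1 hi
    obtain ⟨w, hw, rfl⟩ := List.mem_map.1 hi
    have := zC_ok hx
    simp only [okCZ, and'_eq_true, allL_iff, blt_iff] at this
    have h5 := (this.2.2.2.2.1 w hw).1
    have h6 := isOrd_of this.2.1
    have h7 : IsConj (h.s w.1 * (k * z)) g := by
      refine isConj_iff.2 ⟨c⁻¹ * y, ?_⟩
      rw [show c⁻¹ * y * (h.s w.1 * (k * z)) * (c⁻¹ * y)⁻¹ =
        c⁻¹ * (y * (h.s w.1 * k) * y⁻¹ * (y * z * y⁻¹)) * c by group, e,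
        mul_inv_eq_iff_eq_mul.2 (h.mem_H.1 hy), mul_assoc _ z z, h.z_sq]
      group
    have h8 : orderOf g = x.m := Nat.dvd_antisymm
      (Nat.Coprime.dvd_of_dvd_mul_right (k := orderOf g) (n := 4) (Nat.Coprime.pow_right 2
        (Nat.odd_iff.2 hg.1).coprime_two_right)
        (orderOf_dvd_of_pow_eq_one (LA.pow_eq_one_of_isConj h7 (pow_four r.mul_z h5 h6.2.1))))
      (dvd_of_pow r.mul_z h5 h6 (LA.pow_eq_one_of_isConj h7.symm (pow_orderOf_eq_one g)))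
    by_cases h9 : x.m = 3
    · exact ⟨_, List.mem_cons_self, h.d, by rw [h.d_ord]; norm_num, h.rep_d,
        h.isConj_d (h8.trans h9)⟩
    · have h10 := mem_oL hx hw (h8 ▸ hg.1) (h8 ▸ Nat.mod_eq_zero_of_dvd hg.2) h9
      have h11 : w.1 = 0 := (oL_facts h10).2.1
      rw [h11, h.s_zero, one_mul] at h7
      obtain ⟨u, rfl⟩ := isConj_iff.1 h7
      refine ⟨_, h10, k * z, ?_, r.mul_z, h7⟩
      rwa [← orderOf_injective (MulAut.conj u).toMonoidHom (MulAut.conj u).injective]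

end Cfsg.Agent.J4.Cl
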