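import Cfsg.Prelude.Def_JankoFourType
import Cfsg.Agent.J4.Lin
import Cfsg.Agent.Spor.M24Facts
import Cfsg.Agent.Spor.M24Conj2

/-!
Coordinates for a group of Janko-four type.

* `HM z P`: coordinates on `H = C(z)`: `E = {s v, s v * z}` (`v < 4096`), `ρ : H → A22 ≤ M24`
  with kernel `E P`, and the action on `E` of generators of `K = N_H(P)`.
* `MM z P`: moreover the normaliser `M` of `V` is `{nu s * lam g}` (`s` an even set of points
  modulo the Golay code, `g ∈ M24`), compatible with the coordinates on `H`.
-/

set_option autoImplicit false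

namespace Cfsg.Agent.J4

open Cfsg Cfsg.Agent.Comp Cfsg.Agent.Spor Cfsg.Agent.Spor.M24C Subgroup
open scoped Pointwise

/-- Gram matrix of the commutator form. -/
def gramB : ℕ := 0x4008001ff2ff37f3bf3df3ef3f73fb3fd3fe
/-- Matrix of the cocycle `β v w = B v (d w)`. -/
def gramBeta : ℕ := 0x800c0028e3471a32d13683b41da0ed07623b
/-- The commutator form on `E / ⟨z⟩`. -/
noncomputable def bf (v w : ℕ) : ℕ := bil gramB v w
/-- The cocycle of `E`. -/
noncomputable def beta (v w : ℕ) : ℕ := bil gramBeta v w
/-- The table of the squaring form. -/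
def qT : ℕ := 0x177e7ee87ee8e8817ee8e881e88181177ee8e881e8818117e88181178117177e7ee8e881e8818117e88181178117177ee88181178117177e8117177e177e7ee87ee8e881e8818117e88181178117177ee88181178117177e8117177e177e7ee8e88181178117177e8117177e177e7ee88117177e177e7ee8177e7ee87ee8e881177e7ee87ee8e8817ee8e881e88181177ee8e881e8818117e88181178117177e7ee8e881e8818117e88181178117177ee88181178117177e8117177e177e7ee87ee8e881e8818117e88181178117177ee88181178117177e8117177e177e7ee8e88181178117177e8117177e177e7ee88117177e177e7ee8177e7ee87ee8e881177e7ee87ee8e8817ee8e881e88181177ee8e881e8818117e88181178117177e7ee8e881e8818117e88181178117177ee88181178117177e8117177e177e7ee87ee8e881e8818117e88181178117177ee88181178117177e8117177e177e7ee8e88181178117177e8117177e177e7ee88117177e177e7ee8177e7ee87ee8e881e88181178117177e8117177e177e7ee88117177e177e7ee8177e7ee87ee8e8818117177e177e7ee8177e7ee87ee8e881177e7ee87ee8e8817ee8e881e88181178117177e177e7ee8177e7ee87ee8e881177e7ee87ee8e8817ee8e881e8818117177e7ee87ee8e8817ee8e881e88181177ee8e881e8818117e88181178117177e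
/-- The squaring form on `E / ⟨z⟩` (equal to `beta v v`). -/
noncomputable def qf (v : ℕ) : ℕ := Nat.land (Nat.shiftRight qT v) 1
/-- The 693 vectors `v` with `s v` conjugate to `z`, as a bit mask. -/
def zT : ℕ := 0x2010314340110050a004e02c00014141803481480032024284c20a0000112011400406a28100e10c06e000080032462281048400018c0c000208080000000116614300a08066418601020a000141608804248a0001280488048800000005a64002a48400066008800408080000ca00880a00080002000000000000000000001000012055a01060016052408a00102102c0554600010201e800a8860000011112212082448034840484248a000025c1c200200608034208080c08000000010043c1206320010423e804060008005504028188888000e6000806000800004264240486088003c8040002800800022888800608000000000800000000000e88080008110012c8002010c0442002081100420000c5000020018200680800180021012020042401144000008088081011824080040200120804081600101178000141200122800142002c000402001004400885a000001142008010081811700640400600808010a00c001600101170a20800100818117000101170117177e102014284a48a0000e800080008100051c8080004001001420008102800205202248400000008112c00100018100004a20818102000001140010101c034c60204060880020000103600081060010003008800014810110080110001604461a8088000011801204040006114014062a40000504220258620803200c8010204080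

/-- `x ↦ 2 x`, of order 11. -/
def pX : ℕ := 983435072843990828779021698901151808
/-- Of order 5, `f x f⁻¹ = x ^ 3`; fixes the points `0, 3, 15, 23`. -/
def pF : ℕ := 974380510768821363662145534143076928
/-- Of order 4, `u f u⁻¹ = f ^ 2`. -/
def pU : ℕ := 984447756380300809835322717071984672
/-- `x ↦ -1 / x`, an involution without fixed points commuting with `f` and `u`. -/
def pS : ℕ := 1795248432537898728475572672376535
/-- The matrix of `x`. -/
def mX : ℕ := 0x8004003ff200100080040020010008004002
/-- The matrix of `f`. -/
def mF : ℕ := 0x8004000200043ff080010002200040008001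
/-- The matrix of `u`. -/
def mU : ℕ := 0x23a0018effcbd52fa085cb57ac2c8e926400
/-- The matrix of `σ`. -/
def mS : ℕ := 0xc004000040080100200400801002003ff001
/-- The matrix of `d`. -/
def mD : ℕ := 0xc008003712472dc16e0b73a41d20e938b23a
/-- The matrix of `d ^ 2`. -/
def mD2 : ℕ := 0x400c0017134725c12e0973b41da0ed38923b

/-- The stabiliser of the pair `{0, 23}`: the group `M22 : 2`. -/
noncomputable def A22 : Subgroup M24 := MulAction.stabilizer M24 (setOf' 8388609)
/-- The group `M22` inside `M24`. -/
noncomputable def M22' : Subgroup M24 := fixS (setOf' 8388609)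
/-- `0` if the permutation with code `c` fixes the point `23`, else `1`. -/
noncomputable def outC (c : ℕ) : ℕ := ite' (Nat.beq (dg c 23) 23) 0 1

/-- The octad `{0, 1, 3, 12, 15, 21, 22, 23}`. -/
def oct0 : ℕ := 14716939
/-- The octad `{0, 2, 4, 7, 17, 18, 20, 23}`. -/
def oct1 : ℕ := 9830549
/-- A basis of `W`, the fixed space of `fixS oct0`. -/
def wB : List ℕ := [7, 81, 161, 265, 1025, 2618]
/-- A basis of the fixed space of `fixS oct1`, a complement of `W`. -/
def w1B : List ℕ := [44, 77, 396, 526, 1036, 2203]
/-- A basis of `fixS oct0`. -/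
def fC : List ℕ := [984795341472366346341846312132136992, 984797642623984997567594628879848480, 984800045175449534942630167704616992, 984801637148211260229913135071469600]
/-- The matrices of the involutions over `fC`. -/
def fM : List ℕ := [0x3330a7d64e64021b22426fd5bcb0f44554a6, 0x3330a7c9af6d080b73487f84ac20f34524a6, 0x9af509c6a0afabde8cb14fd50aea9fb90108, 0x9a84563fe40f471b73487b75551a9facf057]
/-- An involution fixing `oct0` and `oct1`, a transposition on the hexad of `oct0`. -/
def pS1 : ℕ := 29415009036994604398546549813068919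
/-- An element fixing `oct0` and `oct1`, a 6-cycle on the hexad of `oct0`. -/
def pS2 : ℕ := 2193294987983039149041304165814391
/-- A matrix over `pS1`. -/
def mS1 : ℕ := 0x1ac117e90165949ebf9a0562be726b77d511
/-- A matrix over `pS2`, with `(mS1 mS2) ^ 5 = 1`. -/
def mS2 : ℕ := 0x4869bec6af08baddbb87ff6788aa6027622b
/-- The even sets for `s w` (`w ∈ wB`). -/
def phiW : List ℕ := [5129, 3, 5, 1049, 1310729, 2359301]
/-- The even sets for the involutions over `fC`. -/
def phiF : List ℕ := [8388616, 2164737, 196625, 9437184]
/-- The images in `M24` of `s w` (`w ∈ w1B`). -/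
def muE : List ℕ := [222521510211855271950402112419037282, 721309179197215149166510279720242177, 714687808069978514226414409217018881, 963721886883755259286232606933354528, 216357873600481717532560151321610272, 237088193432378916389358651429618755]
/-- The image in `M24` of the element over `pS1`. -/
def muS1 : ℕ := 418648474045850967995014854288398539
/-- The image in `M24` of the element over `pS2`. -/
def muS2 : ℕ := 146262413942307955248428692477915271
/-- The image in `M24` of `d`; it fixes `3, 9, 10, 15, 20, 23`. -/
def muD : ℕ := 963926920586958842458237145070010433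

variable {G : Type*} [Group G]

/-- `k ∈ K = N_H(P)` has image with code `c` in `A22` and acts on `E` by the matrix `A`. -/
structure KR (z : G) (P : Subgroup G) (s : ℕ → G) (ρ : G → M24) (k : G) (A c : ℕ) : Prop where
  memH : k ∈ centralizer ({z} : Set G)
  memN : k ∈ normalizer (P : Set G)
  code_eq : code (ρ k : Equiv.Perm GolayPt) = c
  lt : A < 2 ^ 144
  act : ∀ v < 4096, k * s v * k⁻¹ = s (app A v) * z ^ (outC c * qf v)

/-- Coordinates on the centraliser of `z`. -/
structure HM (z : G) (P : Subgroup G) where
  jf : IsOfJankoFourTypeWith z P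
  /-- the section of `E → E / ⟨z⟩` -/
  s : ℕ → G
  /-- the map `H → A22` -/
  ρ : G → M24
  /-- generator of `P` -/
  d : G
  /-- of order 11 -/
  x : G
  /-- of order 5 -/
  f : G
  /-- over `pU` -/
  u : G
  /-- over `pS` -/
  σ : G
  P_eq : P = zpowers d
  d_ord : orderOf d = 3
  x_ord : orderOf x = 11
  f_ord : orderOf f = 5
  s_zero : s 0 = 1
  s_mul : ∀ v < 4096, ∀ w < 4096, s v * s w = s (v ^^^ w) * z ^ beta v w
  mem_E : ∀ g, g ∈ twoCoreOfCentralizer z ↔ ∃ v < 4096, g = s v ∨ g = s v * z
  s_inj : ∀ v < 4096, s v = 1 ∨ s v = z → v = 0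
  ρ_mul : ∀ a ∈ centralizer ({z} : Set G), ∀ b ∈ centralizer ({z} : Set G),
    ρ (a * b) = ρ a * ρ b
  ρ_mem : ∀ a ∈ centralizer ({z} : Set G), ρ a ∈ A22
  ρ_eq_one : ∀ a ∈ centralizer ({z} : Set G), ρ a = 1 ↔ a ∈ twoCoreOfCentralizer z ⊔ P
  rep_d : KR z P s ρ d mD oneC
  rep_x : KR z P s ρ x mX pX
  rep_f : KR z P s ρ f mF pF
  rep_u : KR z P s ρ u mU pU
  rep_σ : KR z P s ρ σ mS pS

namespace HM

variable {z : G} {P : Subgroup G}

/-- `k ∈ K` acts on `E` by the matrix `A` and has image with code `c`. -/
abbrev R (h : HM z P) (k : G) (A c : ℕ) : Prop := KR z P h.s h.ρ k A c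

/-- The elementary abelian group of order `2 ^ 11`: the centraliser of the preimage of `W`. -/
def V (h : HM z P) : Subgroup G := centralizer ({z} ∪ {g | ∃ w ∈ wB, g = h.s w})

/-- The normaliser of `V`. -/
def M (h : HM z P) : Subgroup G := normalizer (h.V : Set G)

end HM

/-- Coordinates on the normaliser of `V`, compatible with those on `H`. -/
structure MM (z : G) (P : Subgroup G) extends HM z P where
  /-- even sets modulo the code parametrise `V` -/
  nu : Finset GolayPt → G
  /-- the complement -/
  lam : M24 →* G
  mem_V : ∀ g, g ∈ toHM.V ↔ ∃ a : Finset GolayPt, Even a.card ∧ g = nu a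
  nu_mul : ∀ a b : Finset GolayPt, Even a.card → Even b.card → nu (symmDiff a b) = nu a * nu b
  nu_eq_one : ∀ a : Finset GolayPt, Even a.card → (nu a = 1 ↔ a ∈ codeSets)
  lam_conj : ∀ (g : M24) (a : Finset GolayPt), Even a.card → lam g * nu a * (lam g)⁻¹ = nu (g • a)
  mem_M : ∀ m, m ∈ toHM.M ↔ ∃ (a : Finset GolayPt) (g : M24), Even a.card ∧ m = nu a * lam g
  nu_z : nu (setOf' 15) = z
  nu_W : ∀ i < 6, nu (setOf' (phiW.getD i 0)) = s (wB.getD i 0)
  rep_F : ∀ i < 4, KR z P s ρ (nu (setOf' (phiF.getD i 0))) (fM.getD i 0) (fC.getD i 0)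
  lam_d : lam (mc muD) = d
  lam_E : ∀ i < 6, lam (mc (muE.getD i 0)) = s (w1B.getD i 0)
  rep_s1 : KR z P s ρ (lam (mc muS1)) mS1 pS1
  rep_s2 : KR z P s ρ (lam (mc muS2)) mS2 pS2

end Cfsg.Agent.J4
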