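import Cfsg.Agent.J4.L11M24
import Cfsg.Agent.J4.Order
import Cfsg.Agent.J4.Loc3
import Cfsg.Agent.J4.Loc5
import Cfsg.Agent.J4.Loc7

/-! The centraliser of the element `x` of order 11. -/

set_option autoImplicit false

namespace Cfsg.Agent.J4

open Cfsg Cfsg.Agent.Comp Cfsg.Agent.Spor Cfsg.Agent.Spor.M24C Subgroup L11

variable {G : Type*} [Group G] {z : G} {P : Subgroup G}

theorem fix_mX {v : ℕ} (hv : v < 4096) : app mX v = v ↔ v ∈ [0, 1024, 2048, 3072] := by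
  have : allB 4096 (fun v => or' (not' (Nat.beq (app mX v) v)) (Nat.beq (Nat.land v 1023) 0)) =
    true := by decide +kernel
  have h := (allB_iff _ _).1 this v hv
  rw [or'_eq_true, not'_eq_true, beq_iff, beq_iff] at h
  refine ⟨fun e => ?_, fun e => ?_⟩
  · have h1 : v &&& (2 ^ 10 - 1) = 0 := h.resolve_left (not_not.2 e)
    rw [Nat.and_two_pow_sub_one_eq_mod] at h1
    simp only [List.mem_cons, List.not_mem_nil]; omega
  · simp only [List.mem_cons, List.not_mem_nil, or_false] at e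
    rcases e with rfl | rfl | rfl | rfl <;> decide +kernel

theorem lt_of_mem {v : ℕ} (hv : v ∈ [0, 1024, 2048, 3072]) : v < 4096 := by
  simp only [List.mem_cons, List.not_mem_nil, or_false] at hv; omega

theorem prime_dvd_G {q : ℕ} (hq : q.Prime) (h : q ∣ 86775571046077562880) :
    q ∈ [2, 3, 5, 7, 11, 23, 29, 31, 37, 43] := by
  have := (Nat.mem_primeFactorsList (by norm_num)).2 ⟨hq, h⟩
  simp only [Nat.primeFactorsList_ofNat] at this
  simp only [List.mem_cons] at this ⊢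
  tauto

namespace HM

variable (h : HM z P)
include h

/-- The quaternion group `C_E(x)`. -/
def Q8 : Subgroup G := h.E ⊓ centralizer {h.x}

theorem x_conj {v : ℕ} (hv : v < 4096) (a : ℕ) :
    h.x * (h.s v * z ^ a) * h.x⁻¹ = h.s (app mX v) * z ^ a := by
  rw [HM.R.act' h.rep_x hv, show outC pX = 0 by decide +kernel, zero_mul, pow_zero, mul_one]

theorem mem_Q8 {g : G} :
    g ∈ h.Q8 ↔ ∃ v ∈ [0, 1024, 2048, 3072], ∃ a < 2, g = h.s v * z ^ a := by
  rw [Q8, mem_inf, h.mem_E', mem_centralizer_singleton_iff, eq_comm, ← mul_inv_eq_iff_eq_mul]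
  constructor
  · rintro ⟨⟨v, hv, a, ha, rfl⟩, e⟩
    rw [h.x_conj hv, h.s_eq_iff (app_lt _ _) hv ha ha] at e
    exact ⟨v, (fix_mX hv).1 e.1, a, ha, rfl⟩
  · rintro ⟨v, hv, a, ha, rfl⟩
    have h1 : v < 4096 := lt_of_mem hv
    exact ⟨⟨v, h1, a, ha, rfl⟩, by rw [h.x_conj h1, (fix_mX h1).2 hv]⟩

theorem s_mem_Q8 {v : ℕ} (hv : v ∈ [0, 1024, 2048, 3072]) : h.s v ∈ h.Q8 :=
  h.mem_Q8.2 ⟨v, hv, 0, by norm_num, by simp⟩

theorem z_mem_pow {a : G} (ha : a ∈ h.Q8) (h1 : a ≠ 1) : a = z ∨ a * a = z := by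
  obtain ⟨v, hv, b, hb, rfl⟩ := h.mem_Q8.1 ha
  rcases (by decide +kernel : ∀ v ∈ [0, 1024, 2048, 3072], v = 0 ∨ v < 4096 ∧ qf v = 1) v hv with
    rfl | ⟨h2, h3⟩
  · rw [h.s_zero, one_mul] at h1 ⊢
    exact Or.inl ((HM.z_pow_cases hb).resolve_left h1)
  · right
    rw [mul_assoc, ← mul_assoc (z ^ b), ← h.comm_z_pow (h.s_mem_H h2), mul_assoc, h.z_pow_sq,
      mul_one, h.s_sq h2, h3, pow_one]

theorem conj_E {e : G} (he : e ∈ h.E) {w : ℕ} (hw : w < 4096) :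
    ∃ b < 2, e * h.s w * e⁻¹ = h.s w * z ^ b := by
  obtain ⟨v, hv, a, -, rfl⟩ := h.mem_E'.1 he
  refine ⟨_, bf_lt v w, ?_⟩
  rw [← h.s_conj hv hw, mul_assoc (h.s v), ← h.comm_z_pow (h.s_mem_H hw)]; group

theorem ρ_x : h.ρ h.x = mc pX := (HM.R.mc_eq h.rep_x).symm

variable [Finite G]

theorem P_le_cx : P ≤ centralizer {h.x} := fun p hp => mem_centralizer_singleton_iff.2
  ((HM.R.cent_iff h.rep_x).2 (by decide +kernel) p hp)

theorem card_Q8 : Nat.card h.Q8 = 8 := by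
  have h1 := card_mod (by norm_num) h.x_ord (JF.H_le_normalizer_E h.rep_x.memH)
  obtain ⟨k, hk, e⟩ := (Nat.dvd_prime_pow Nat.prime_two).1
    (h.card_E ▸ card_dvd_of_le (inf_le_left : h.Q8 ≤ h.E))
  change Nat.card h.Q8 = _ at e
  have h2 : k ≠ 13 := by
    rintro rfl
    have := eq_of_le_of_card_ge (inf_le_left : h.Q8 ≤ h.E) (h.card_E.trans e.symm).le
    obtain ⟨v, hv, a, ha, e⟩ := h.mem_Q8.1 (this.ge (h.s_mem_E (v := 1) (by norm_num)))
    rw [← mul_one (h.s 1), ← pow_zero z, h.s_eq_iff (by norm_num) (lt_of_mem hv)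
      (by norm_num) ha] at e
    rw [← e.1] at hv; simp at hv
  change _ ≡ Nat.card h.Q8 [MOD 11] at h1
  rw [h.card_E, e, Nat.ModEq] at h1
  rw [e]
  interval_cases k <;> simp_all

theorem norm_Q8 : h.H ⊓ normalizer ((zpowers h.x : Subgroup G) : Set G) ≤
    normalizer (h.Q8 : Set G) :=
  (inf_le_inf JF.H_le_normalizer_E (norm_le_norm_cent _)).trans inf_normalizer_le_normalizer_inf

theorem norm_Q8' : h.H ⊓ centralizer {h.x} ≤ normalizer (h.Q8 : Set G) :=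
  (inf_le_inf_left _ (cent_le_norm _)).trans h.norm_Q8

omit [Finite G] in
theorem ρ_cent {a : G} (ha : a ∈ h.H ⊓ centralizer {h.x}) : h.ρ a ∈ zpowers (mc pX) := by
  rw [← centX, mem_centralizer_singleton_iff, ← h.ρ_x, ← h.ρ_mul _ ha.1 _ h.rep_x.memH,
    ← h.ρ_mul _ h.rep_x.memH _ ha.1, mem_centralizer_singleton_iff.1 ha.2]

theorem EP_cent : (h.E ⊔ P) ⊓ (h.H ⊓ centralizer {h.x}) = P ⊔ h.Q8 := by
  refine le_antisymm (fun g hg => ?_) (sup_le (le_inf le_sup_right (le_inf h.P_le_H h.P_le_cx))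
    (le_inf (inf_le_left.trans le_sup_left) (inf_le_inf_right _ h.E_le_H)))
  obtain ⟨e, he, p, hp, rfl⟩ := (JF.mem_EP h.jf).1 hg.1
  exact mul_mem (mem_sup_right ⟨he, by
    simpa using Subgroup.mul_mem _ (mem_inf.1 (mem_inf.1 hg).2).2 (inv_mem (h.P_le_cx hp))⟩) (mem_sup_left hp)

theorem card_PQ : Nat.card (P ⊔ h.Q8 : Subgroup G) = 24 := by
  have := Grp.card_sup_mul_card_inf_of_le_normalizer
    ((le_inf h.P_le_H h.P_le_cx).trans h.norm_Q8')
  rw [JF.card_P h.jf, h.card_Q8, (disjoint_of_coprime_natCard (by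
    rw [JF.card_P h.jf, h.card_Q8]; norm_num)).eq_bot, card_bot, mul_one] at this
  exact this

theorem card_CH : Nat.card (h.H ⊓ centralizer {h.x} : Subgroup G) = 264 := by
  rw [h.card_of_ρ inf_le_left (fun a ha => h.ρ_cent ha) (by
    rintro _ ⟨i, rfl⟩
    exact ⟨h.x ^ i, zpow_mem (mem_inf.2 ⟨h.rep_x.memH, mem_centralizer_singleton_iff.2 rfl⟩) i, by
      have := map_zpow h.ρH ⟨h.x, h.rep_x.memH⟩ i
      exact this.trans (congrArg (· ^ i) h.ρ_x)⟩), h.EP_cent, h.card_PQ, Nat.card_zpowers, ordX]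

theorem eq_z {a : G} (ha : a ∈ h.H ⊓ centralizer {h.x}) (h2 : orderOf a = 2) : a = z := by
  have := normal_subgroupOf_of_le_normalizer h.norm_Q8'
  have h3 := Grp.card_mul_relIndex (H := h.Q8) (inf_le_inf_right _ h.E_le_H)
  rw [h.card_CH, h.card_Q8] at h3
  have h4 : a ^ h.Q8.relIndex (h.H ⊓ centralizer {h.x}) ∈ h.Q8 :=
    pow_index_mem (H := h.Q8.subgroupOf (h.H ⊓ centralizer {h.x})) ⟨a, ha⟩
  rw [show h.Q8.relIndex _ = 33 by omega, ← pow_mod_orderOf, h2, pow_one] at h4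
  exact (h.z_mem_pow h4 (Inv.Count.ne_one_of_orderOf h2)).resolve_right
    (by rw [Inv.Count.mul_self_of_orderOf h2]; exact h.z_ne.symm)

theorem odd_inf {O : Subgroup G} (h1 : O ≤ centralizer {h.x}) (h2 : Odd (Nat.card O))
    (h3 : h.x ∈ O) (h4 : centralizer {h.x} ≤ normalizer (O : Set G)) :
    h.H ⊓ O = zpowers h.x := by
  refine le_antisymm (fun o ho => ?_) (zpowers_le.2 ⟨h.rep_x.memH, h3⟩)
  have hx : h.x ∈ h.H ⊓ centralizer {h.x} := ⟨h.rep_x.memH, h1 h3⟩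
  replace ho := mem_inf.1 ho
  obtain ⟨i, hi⟩ := h.ρ_cent ⟨ho.1, h1 ho.2⟩
  have h5 : o * (h.x ^ i)⁻¹ ∈ h.H ⊓ centralizer {h.x} :=
    mul_mem ⟨ho.1, h1 ho.2⟩ (inv_mem (zpow_mem hx i))
  have h6 : o * (h.x ^ i)⁻¹ ∈ O := mul_mem ho.2 (inv_mem (zpow_mem h3 i))
  have h7 : h.ρ (o * (h.x ^ i)⁻¹) = 1 := by
    have : h.ρ (h.x ^ i) = _ := (map_zpow h.ρH ⟨h.x, h.rep_x.memH⟩ i).trans
      (congrArg (· ^ i) h.ρ_x)
    rw [h.ρ_mul _ ho.1 _ (inv_mem (zpow_mem h.rep_x.memH i)), h.ρ_inv (zpow_mem h.rep_x.memH i),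
      this, ← hi,
      mul_inv_cancel]
  have hb : O ⊓ h.Q8 = ⊥ := (disjoint_of_coprime_natCard (by
    rw [h.card_Q8]; exact (Nat.coprime_two_right.2 h2).pow_right 3)).eq_bot
  generalize e : o * (h.x ^ i)⁻¹ = u at h5 h6 h7
  have hi := h.s_mem_Q8 (v := 1024) (by simp)
  have h8 : u * h.s 1024 * u⁻¹ * (h.s 1024)⁻¹ ∈ O ⊓ h.Q8 := ⟨by
    simpa [mul_assoc] using O.mul_mem h6
      ((mem_normalizer_iff.1 (h4 (mem_inf.1 hi).2) _).1 (O.inv_mem h6)),
    h.Q8.mul_mem ((mem_normalizer_iff.1 (h.norm_Q8' h5) _).1 hi) (h.Q8.inv_mem hi)⟩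
  rw [hb, mem_bot, mul_inv_eq_one] at h8
  obtain ⟨q, hq, p, hp, rfl⟩ := (JF.mem_EP h.jf).1 ((h.ρ_eq_one _ h5.1).1 h7)
  have h9 : ∀ w < 4096, p * h.s 1024 * p⁻¹ = h.s w → w = 1024 := fun w hw e => by
    obtain ⟨b, hb, e'⟩ := h.conj_E hq hw
    rw [← e, show q * (p * h.s 1024 * p⁻¹) * q⁻¹ = q * p * h.s 1024 * (q * p)⁻¹ by group, h8, e,
      ← mul_one (h.s 1024), ← pow_zero z, h.s_eq_iff (by norm_num) hw (by norm_num) hb] at e'
    exact e'.1.symm
  rcases h.mem_P.1 hp with rfl | rfl | rfl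
  · have : q ∈ O ⊓ h.Q8 := ⟨by simpa using h6, hq, by simpa using h5.2⟩
    rw [hb, mem_bot] at this
    rw [this, mul_one, mul_inv_eq_one] at e
    exact ⟨i, e.symm⟩
  · exact absurd (h9 _ (app_lt _ _) (by simpa using h.d_conj (w := 1024) (by norm_num) 0))
      (by decide +kernel)
  · exact absurd (h9 _ (app_lt _ _) (by simpa using h.d2_conj (w := 1024) (by norm_num) 0))
      (by decide +kernel)

theorem conj_x : h.f * h.σ * h.x * (h.f * h.σ)⁻¹ = h.x ^ 8 := by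
  have r := HM.R.mul h.rep_f h.rep_σ
  rcases HM.R.eq_or (((HM.R.pow h.rep_x 8).mul r).of_eq (by decide +kernel) rfl) (r.mul h.rep_x)
    with e | e
  · rw [e, mul_inv_cancel_right]
  · have h1 : h.f * h.σ * h.x * (h.f * h.σ)⁻¹ = h.x ^ 8 * z := by
      rw [e, mul_assoc (h.x ^ 8), h.mem_H.1 r.memH]; group
    have h2 := congrArg (· ^ 11) h1
    simp only [conj_pow] at h2
    rw [(Commute.pow_left (h.mem_H.1 h.rep_x.memH) 8).mul_pow, ← pow_mul, mul_comm, pow_mul,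
      ← h.x_ord, pow_orderOf_eq_one, h.x_ord, ← pow_mod_orderOf z, h.z_ord] at h2
    exact absurd (by simpa using h2.symm) h.z_ne

theorem isConj_x {g : G} (hg : g ∈ h.H) (h1 : orderOf g = 11) : IsConj h.x g := by
  have := Fact.mk (show Nat.Prime 11 by norm_num)
  have hH : Nat.card h.H = 11 * 1981808640 := h.card_H
  obtain ⟨S, hS⟩ := Small.exists_sylow_eq_zpowers hH (by norm_num)
    ((orderOf_mk _ h.rep_x.memH).trans h.x_ord)
  obtain ⟨T, hT⟩ := Small.exists_sylow_eq_zpowers hH (by norm_num) ((orderOf_mk _ hg).trans h1)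
  obtain ⟨k, rfl⟩ := MulAction.exists_smul_eq h.H T S
  obtain ⟨i, hi⟩ : k * ⟨g, hg⟩ * k⁻¹ ∈ zpowers (⟨h.x, h.rep_x.memH⟩ : h.H) := by
    rw [← hS]; exact ⟨_, hT.ge (mem_zpowers _), rfl⟩
  obtain ⟨j, -, e⟩ := exists_conj_eq (u := k * g * (k : G)⁻¹) h.x_ord h.conj_x
    ⟨i, congrArg Subtype.val hi⟩ (by rw [Ne, conj_eq_one_iff]; rintro rfl; simp at h1)
  exact (isConj_iff.2 ⟨_, e⟩).trans (isConj_iff.2 ⟨_, rfl⟩).symm

end HM

namespace MM

variable [Finite G] (h : MM z P)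
include h

theorem cent_dvd {g : G} (hg : orderOf g ∈ [2, 3, 5, 7]) :
    Nat.card (centralizer ({g} : Set G)) ∣ 21799895040 := by
  simp only [List.mem_cons, List.not_mem_nil, or_false] at hg
  rcases hg with hg | hg | hg | hg
  · rcases h.two_classes hg with e | e <;> rw [← Inv.Count.card_centralizer_of_isConj e]
    · exact h.card_H.dvd
    · rw [h.card_cent_t]; norm_num
  · rw [h.card_cent_three hg]; norm_num
  · rw [h.card_cent_five hg]; norm_num
  · rw [h.card_cent_seven hg]; norm_num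

theorem exists_U : ∃ U ≤ centralizer {h.x}, Nat.card U = 11 ^ 3 ∧ h.x ∈ U ∧
    normalizer ((zpowers h.x : Subgroup G) : Set G) ≤ normalizer (U : Set G) ∧
    Nat.card (centralizer ({h.x} : Set G)) = 31944 := by
  obtain ⟨O, h1, h2, h3, h4, h5⟩ := exists_core (x := h.x) (by rw [h.x_ord]; decide) h.z_ord
    (mem_centralizer_singleton_iff.2 (h.mem_H.1 h.rep_x.memH).symm) fun g hg e =>
      h.eq_z (mem_inf.2 ⟨h.mem_H.2 e.eq.symm, mul_mem (mul_mem hg (mem_centralizer_singleton_iff.2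
        (h.mem_H.1 h.rep_x.memH).symm)) (inv_mem hg)⟩) ((Inv.Count.orderOf_conj _ _).trans h.z_ord)
  have h6 := h.odd_inf h1 h2 h3 ((cent_le_norm _).trans h4)
  have hx : Nat.card (zpowers h.x) = 11 := by rw [Nat.card_zpowers, h.x_ord]
  rw [h6, h.card_CH, hx] at h5
  have hQ : h.Q8 ≤ normalizer (O : Set G) := inf_le_right.trans ((cent_le_norm _).trans h4)
  have semi : ∀ a ∈ h.Q8, ∀ s ∈ O, a * s * a⁻¹ = s → a = 1 ∨ s ∈ zpowers h.x := fun a ha s hs e =>
    or_iff_not_imp_left.2 fun h7 => h6 ▸ ⟨by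
      have e' : Commute s a := (mul_inv_eq_iff_eq_mul.1 e).symm
      rcases h.z_mem_pow ha h7 with rfl | e1
      · exact h.mem_H.2 e'.eq
      · exact h.mem_H.2 (e1 ▸ e'.mul_right e').eq, hs⟩
  have hO : Nat.card O ∣ 86775571046077562880 := h.card_G ▸ card_subgroup_dvd_card O
  have h7 : ∀ {q}, q.Prime → q ∣ Nat.card O → q = 11 := fun {q} hq hd => by
    by_contra h11
    have h8 : q ≠ 2 := by rintro rfl; exact (Nat.not_even_iff_odd.2 h2) (even_iff_two_dvd.2 hd)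
    have h9 : q ≠ 3 := by
      rintro rfl
      have a1 := card_mod hq h.d_ord (h4 (cent_le_norm _ (h.P_le_cx h.d_mem_P)))
      have a2 : O ⊓ centralizer {h.d} = zpowers h.x := le_antisymm (h6 ▸ le_inf
        (inf_le_right.trans ((cent_le_norm _).trans (h.P_eq ▸ h.norm_P_le))) inf_le_left)
        (zpowers_le.2 ⟨h3, mem_centralizer_singleton_iff.2
          (mem_centralizer_singleton_iff.1 (h.P_le_cx h.d_mem_P)).symm⟩)
      rw [a2, hx] at a1
      exact absurd ((a1.dvd_iff dvd_rfl).1 hd) (by norm_num)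
    have h10 := prime_dvd_G hq (hd.trans hO)
    obtain ⟨S, a1, a2, a3⟩ := exists_inv_sylow hQ (by
      rw [h.card_Q8]; exact ((Nat.coprime_two_right.2 h2).pow_right 3).symm)
      (Solv.isSolvable_of_isPGroup (IsPGroup.of_card (p := 2) (n := 3) h.card_Q8)) hq
    rw [pow_factorization_eq hq hd hO (by
      simp only [List.mem_cons, List.not_mem_nil] at h10
      rcases h10 with rfl | rfl | rfl | rfl | rfl | rfl | rfl | rfl | rfl | rfl | h <;>
        simp_all)] at a2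
    have a4 := dvd_sub bot_le a3 (by rw [normalizer_eq_top]; exact le_top) fun a ha s hs e =>
      (semi a ha s (a1 hs) e).imp_right fun e' => (disjoint_of_coprime_natCard (H := S) (by
        rw [a2, hx]; exact (Nat.coprime_primes hq (by norm_num)).2 h11)).le_bot ⟨hs, e'⟩
    rw [a2, h.card_Q8, card_bot] at a4
    simp only [List.mem_cons, List.not_mem_nil, or_false] at h10
    rcases h10 with rfl | rfl | rfl | rfl | rfl | rfl | rfl | rfl | rfl | rfl <;> omega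
  have h8 := Nat.eq_prime_pow_of_unique_prime_dvd Nat.card_pos.ne' h7
  generalize (Nat.card O).primeFactorsList.length = k at h8
  have h9 := sq_dvd_cent (by norm_num) (by rw [h.card_G]; norm_num) h.x_ord
  have h10 := dvd_sub (zpowers_le.2 h3) hQ (inf_le_right.trans (cent_le_norm _)) semi
  have h11 : k < 4 := by
    by_contra h
    exact absurd ((pow_dvd_pow 11 (not_lt.1 h)).trans (h8 ▸ hO)) (by norm_num)
  rw [h.card_Q8, hx, h8] at h10
  rw [h8] at h5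
  refine ⟨O, h1, ?_, h3, h4, ?_⟩ <;> interval_cases k <;> omega

end MM

end Cfsg.Agent.J4
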