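import Cfsg.Agent.J4.L11X

/-! The centraliser of the element `x'` of order 11 of the complement `M24`. -/

set_option autoImplicit false

namespace Cfsg.Agent.J4

open Cfsg Cfsg.Agent.Comp Cfsg.Agent.Spor Cfsg.Agent.Spor.M24C Subgroup L11

variable {G : Type*} [Group G] {z : G} {P : Subgroup G}

theorem L11.cover_bound [Finite G] (O Z : Subgroup G) (b : G) :
    {y | y ∈ O ∧ b⁻¹ * (y⁻¹ * b * y) ∈ Z}.ncard ≤
      Nat.card (O ⊓ centralizer {b} : Subgroup G) * Nat.card Z := by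
  classical
  have := Fintype.ofFinite G
  rw [Set.ncard_eq_toFinset_card', ← SetLike.coe_sort_coe Z, Nat.card_coe_set_eq,
    Set.ncard_eq_toFinset_card']
  refine Finset.card_le_mul_card_image_of_maps_to (f := fun y => b⁻¹ * (y⁻¹ * b * y))
    (fun y hy => by simpa using (Set.mem_toFinset.1 hy).2) _ fun w _ => ?_
  rcases Finset.eq_empty_or_nonempty ((Set.toFinset {y | y ∈ O ∧ b⁻¹ * (y⁻¹ * b * y) ∈ Z}).filter
    fun y => b⁻¹ * (y⁻¹ * b * y) = w) with e | ⟨u, hu⟩
  · rw [e]; exact Nat.zero_le _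
  rw [← SetLike.coe_sort_coe, Nat.card_coe_set_eq, Set.ncard_eq_toFinset_card']
  simp only [Finset.mem_filter, Set.mem_toFinset, Set.mem_ofPred_eq] at hu
  refine Finset.card_le_card_of_injOn (· * u⁻¹) (fun y hy => ?_) (mul_left_injective _).injOn
  simp only [Finset.coe_filter, Set.mem_toFinset, Set.mem_ofPred_eq] at hy
  refine Finset.mem_coe.2 (Set.mem_toFinset.2 ⟨O.mul_mem hy.1.1 (O.inv_mem hu.1.1),
    mem_centralizer_singleton_iff.2 ?_⟩)
  have e := mul_left_cancel (hy.2.trans hu.2.symm)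
  calc _ = y * (u⁻¹ * b * u) * u⁻¹ := by group
    _ = _ := by rw [← e]; group

namespace MM

variable (h : MM z P)
include h

/-- The second element of order 11. -/
noncomputable abbrev x' : G := h.lam (mc pX)
/-- Of order 10, normalising `⟨x'⟩`. -/
noncomputable abbrev γ : G := h.lam (mc pG)
/-- The group of order 20 generated by `γ` and `t`. -/
noncomputable def B0 : Subgroup G := zpowers h.γ ⊔ zpowers h.t
/-- The intersection of `M` with a conjugate. -/
def D (y : G) : Subgroup G := h.M ⊓ h.M.map (MulAut.conj y).toMonoidHom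

theorem mem_D {y g : G} : g ∈ h.D y ↔ g ∈ h.M ∧ y⁻¹ * g * y ∈ h.M :=
  and_congr Iff.rfl Grp.mem_map_conj_iff
theorem ord_lam (g : M24) : orderOf (h.lam g) = orderOf g := orderOf_injective _ h.lam_injective g
theorem x'_ord : orderOf h.x' = 11 := (h.ord_lam _).trans ordX
theorem conj_x' : h.γ * h.x' * h.γ⁻¹ = h.x' ^ 8 := by
  rw [← map_inv, ← map_mul, ← map_mul, conjGX, map_pow]
theorem γ_ten : h.γ ^ 10 = 1 := by rw [← map_pow, G_ten, map_one]
theorem lam_mem_zp {g : M24} (hg : g ∈ zpowers (mc pX)) : h.lam g ∈ zpowers h.x' := by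
  obtain ⟨i, rfl⟩ := hg
  exact ⟨i, (map_zpow _ _ _).symm⟩

variable [Finite G]

theorem lam_comm_t {g : M24} (hg : g ∈ A22) : Commute (h.lam g) h.t :=
  mem_centralizer_singleton_iff.1 (h.mem_cent_t.2 ⟨∅, g, by simp, hg, by rw [h.nu_empty, one_mul]⟩)
theorem γ_t : Commute h.γ h.t := h.lam_comm_t (mc_mem_A22 (by decide +kernel))
theorem x'_t : Commute h.x' h.t := h.lam_comm_t (mc_mem_A22 (by decide +kernel))
theorem t_mem_cx : h.t ∈ centralizer {h.x'} := mem_centralizer_singleton_iff.2 h.x'_t.eq.symm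

theorem cent_dvd' {a : G} (ha : a ≠ 1) (hd : orderOf a ∣ 1981808640) :
    Nat.card (centralizer ({a} : Set G)) ∣ 21799895040 := by
  obtain ⟨r, hr, k, hk⟩ := Nat.exists_prime_and_dvd (mt orderOf_eq_one_iff.1 ha)
  have h1 : orderOf (a ^ k) = r := by
    have := orderOf_pos a
    rw [orderOf_pow_of_dvd (by rintro rfl; omega) ⟨r, by rw [hk, mul_comm]⟩, hk,
      Nat.mul_div_cancel _ (Nat.pos_of_ne_zero (by rintro rfl; omega))]
  refine (card_dvd_of_le fun c hc => mem_centralizer_singleton_iff.2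
    (Commute.pow_right (mem_centralizer_singleton_iff.1 hc) k)).trans (h.cent_dvd ?_)
  have := (Nat.mem_primeFactorsList (by norm_num)).2 ⟨hr, (Dvd.intro _ hk.symm).trans hd⟩
  simp only [Nat.primeFactorsList_ofNat] at this
  simp only [List.mem_cons] at this ⊢
  rw [h1]; tauto

theorem dvd_pred {A K : Subgroup G} (hAK : A ≤ normalizer (K : Set G))
    (hc : (Nat.card A).Coprime (Nat.card K)) (hA : Group.IsSolvable A)
    (hd : Nat.card A ∣ 1981808640) {q : ℕ} (hq : q ∈ [23, 29, 31, 37, 43]) (hK : q ∣ Nat.card K) :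
    Nat.card A ∣ q - 1 := by
  obtain ⟨a0, a4, a5⟩ := (by decide +kernel : ∀ q ∈ [23, 29, 31, 37, 43], q.Prime ∧
    ¬ q * q ∣ 86775571046077562880 ∧ q.Coprime 21799895040) q hq
  obtain ⟨S, -, a2, a3⟩ := exists_inv_sylow hAK hc hA a0
  rw [pow_factorization_eq a0 hK (h.card_G ▸ card_subgroup_dvd_card K) a4] at a2
  have := dvd_sub bot_le a3 (by rw [normalizer_eq_top]; exact le_top) fun a ha s hs e =>
    or_iff_not_imp_left.2 fun h1 => (disjoint_of_coprime_natCard (H := S) (by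
      rw [a2]; exact a5.coprime_dvd_right (h.cent_dvd' h1 ((orderOf_dvd_natCard _ ha).trans hd)))).le_bot
      ⟨hs, mem_centralizer_singleton_iff.2 (mul_inv_eq_iff_eq_mul.1 e).symm⟩
  rwa [a2, card_bot] at this

theorem V_cent : h.V ⊓ centralizer {h.x'} = zpowers h.t := by
  have h1 := card_mod (by norm_num) h.x'_ord (h.lam_mem_M (mc pX))
  obtain ⟨k, hk, e⟩ := (Nat.dvd_prime_pow Nat.prime_two).1
    (h.card_V ▸ card_dvd_of_le (inf_le_left : h.V ⊓ centralizer {h.x'} ≤ h.V))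
  have h2 : k ≠ 11 := by
    rintro rfl
    have := eq_of_le_of_card_ge (inf_le_left : h.V ⊓ centralizer {h.x'} ≤ h.V)
      (h.card_V.trans e.symm).le
    have h3 := h.lam_mem_V (g := mc pX) (h.cent_V ▸ fun v hv =>
      mem_centralizer_singleton_iff.1 (this.ge hv).2)
    exact absurd (h3 ▸ ordX) (by simp)
  refine (eq_of_le_of_card_ge (zpowers_le.2 (mem_inf.2 ⟨h.t_mem_V, h.t_mem_cx⟩)) ?_).symm
  rw [h.card_V, e, Nat.ModEq] at h1
  rw [e, Nat.card_zpowers, h.t_ord]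
  interval_cases k <;> simp_all

theorem V_cent' {v : G} (hv : v ∈ h.V) (hc : v ∈ centralizer {h.x'}) : ∃ e < 2, v = h.t ^ e := by
  classical
  obtain ⟨e, he, rfl⟩ := Finset.mem_image.1 (mem_zpowers_iff_mem_range_orderOf.1
    (h.V_cent.le ⟨hv, hc⟩))
  exact ⟨e, h.t_ord ▸ Finset.mem_range.1 he, rfl⟩

omit [Finite G] in
theorem π_lam (g : M24) : h.π ⟨h.lam g, h.lam_mem_M g⟩ = g := h.exists_proj.choose_spec.1 g

theorem M_cent {m : G} (hm : m ∈ h.M) (hc : m ∈ centralizer {h.x'}) :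
    ∃ e < 2, ∃ y ∈ zpowers h.x', m = h.t ^ e * y := by
  obtain ⟨a, g, ha, rfl⟩ := (h.mem_M m).1 hm
  have h1 : g ∈ zpowers (mc pX) := by
    have := congrArg h.π (show (⟨_, hm⟩ * ⟨_, h.lam_mem_M (mc pX)⟩ : h.M) =
      ⟨_, h.lam_mem_M (mc pX)⟩ * ⟨_, hm⟩ from Subtype.ext (mem_centralizer_singleton_iff.1 hc))
    rw [map_mul, map_mul, h.π_nu_lam ha, h.π_lam] at this
    exact centX ▸ mem_centralizer_singleton_iff.2 this
  have h2 := h.lam_mem_zp h1
  obtain ⟨e, he, e1⟩ := h.V_cent' (h.nu_mem_V ha) (by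
    simpa using mul_mem hc (inv_mem (zpowers_le.2 (mem_centralizer_singleton_iff.2 rfl) h2)))
  exact ⟨e, he, _, h2, by rw [e1]⟩

theorem card_CM : Nat.card (centralizer {h.t} ⊓ centralizer {h.x'} : Subgroup G) = 22 := by
  have e : centralizer {h.t} ⊓ centralizer {h.x'} = zpowers h.t ⊔ zpowers h.x' := by
    refine le_antisymm (fun m hm => ?_) (sup_le (zpowers_le.2
      ⟨mem_centralizer_singleton_iff.2 rfl, h.t_mem_cx⟩) (zpowers_le.2
      ⟨mem_centralizer_singleton_iff.2 h.x'_t.eq, mem_centralizer_singleton_iff.2 rfl⟩))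
    obtain ⟨e, -, y, hy, rfl⟩ := h.M_cent (h.cent_t_le hm.1) hm.2
    exact mul_mem (mem_sup_left (npow_mem_zpowers _ _)) (mem_sup_right hy)
  have := Grp.card_sup_mul_card_inf_of_le_normalizer
    (zpowers_le.2 (cent_le_norm _ h.t_mem_cx))
  rw [(disjoint_of_coprime_natCard (by
    rw [Nat.card_zpowers, Nat.card_zpowers, h.t_ord, h.x'_ord]; norm_num)).eq_bot, card_bot,
    Nat.card_zpowers, Nat.card_zpowers, h.t_ord, h.x'_ord, mul_one] at this
  rw [e, this]

theorem eq_t {m : G} (hm : m ∈ h.M) (hc : m ∈ centralizer {h.x'}) (h2 : orderOf m = 2) :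
    m = h.t := by
  obtain ⟨e, he, _, ⟨i, rfl⟩, rfl⟩ := h.M_cent hm hc
  have h3 := pow_mod_orderOf (h.t ^ e * h.x' ^ i) 11
  rw [h2, pow_one, ((h.x'_t.symm.pow_left e).zpow_right i).mul_pow, ← zpow_natCast (_ ^ i),
    ← zpow_mul, mul_comm i, zpow_mul, zpow_natCast, ← h.x'_ord, pow_orderOf_eq_one, one_zpow,
    mul_one, h.x'_ord] at h3
  rw [h3] at h2 ⊢
  interval_cases e
  · simp at h2
  · rw [pow_one, ← pow_mod_orderOf, h.t_ord, pow_one]

theorem odd_inf' {O : Subgroup G} (h1 : O ≤ centralizer {h.x'}) (h2 : Odd (Nat.card O))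
    (h3 : h.x' ∈ O) : h.M ⊓ O = zpowers h.x' := by
  refine le_antisymm (fun m hm => ?_) (zpowers_le.2 ⟨h.lam_mem_M _, h3⟩)
  obtain ⟨e, he, y, hy, rfl⟩ := h.M_cent hm.1 (h1 hm.2)
  interval_cases e
  · simpa using hy
  · have : h.t ∈ O := by simpa using O.mul_mem hm.2 (O.inv_mem (zpowers_le.2 h3 hy))
    exact absurd (even_iff_two_dvd.2 (h.t_ord ▸ orderOf_dvd_natCard O this))
      (Nat.not_even_iff_odd.2 h2)

theorem t_norm : zpowers h.γ ≤ normalizer ((zpowers h.t : Subgroup G) : Set G) :=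
  zpowers_le.2 (cent_le_norm _ (mem_centralizer_singleton_iff.2 h.γ_t.eq))

theorem card_B0 : Nat.card h.B0 = 20 := by
  have := Grp.card_sup_mul_card_inf_of_le_normalizer h.t_norm
  have e : zpowers h.γ ⊓ zpowers h.t = ⊥ := eq_bot_iff.2 fun g hg => by
    obtain ⟨i, rfl⟩ := hg.1
    have := h.lam_mem_V (g := mc pG ^ i) (by rw [map_zpow]; exact zpowers_le.2 h.t_mem_V hg.2)
    exact mem_bot.2 ((map_zpow h.lam _ i).symm.trans (by rw [this, map_one]))
  have e1 : orderOf (mc pG) = 10 := orderOf_eq_of_pow_and_pow_div_prime (by norm_num) G_ten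
    fun p hp hd e => by
      rcases (Nat.Prime.dvd_mul hp).1 (show p ∣ 2 * 5 from hd) with h | h <;>
        rw [(Nat.prime_dvd_prime_iff_eq hp (by norm_num)).1 h] at e
      · exact absurd ((G_five.symm.trans e) ▸ ordS) (by simp)
      · exact absurd (e ▸ ordG2) (by simp)
  rwa [e, card_bot, Nat.card_zpowers, Nat.card_zpowers, h.t_ord, h.ord_lam, e1, mul_one] at this

theorem B0_norm : h.B0 ≤ normalizer ((zpowers h.x' : Subgroup G) : Set G) :=
  sup_le (zpowers_le.2 ((Small.mem_normalizer_zpowers_iff _ _).2 (h.conj_x' ▸ npow_mem_zpowers _ _)))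
    (zpowers_le.2 (cent_le_norm _ h.t_mem_cx))

omit [Finite G] in
theorem B0_le_M : h.B0 ≤ h.M :=
  sup_le (zpowers_le.2 (h.lam_mem_M _)) (zpowers_le.2 (h.V_le_M h.t_mem_V))

theorem D_inf_V {y : G} (hy : y ∉ h.M) (hx : h.x' ∈ h.D y) (ht : h.t ∉ h.D y) :
    h.D y ⊓ h.V = ⊥ := by
  have h1 := card_mod (by norm_num) h.x'_ord (S := h.D y ⊓ h.V)
    (inf_normalizer_le_normalizer_inf ⟨le_normalizer hx, h.lam_mem_M _⟩)
  have h2 : h.D y ⊓ h.V ⊓ centralizer {h.x'} = ⊥ := eq_bot_iff.2 fun v hv => by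
    obtain ⟨e, he, rfl⟩ := h.V_cent' hv.1.2 hv.2
    interval_cases e
    · simp
    · exact absurd (by simpa using hv.1.1) ht
  obtain ⟨k, hk, e⟩ := (Nat.dvd_prime_pow Nat.prime_two).1
    (h.card_V ▸ card_dvd_of_le (inf_le_right : h.D y ⊓ h.V ≤ h.V))
  have h3 : k ≠ 10 := by
    rintro rfl
    exact hy (by simpa using inv_mem (h.mem_M_of_large inf_le_right e.ge (g := y⁻¹) fun v hv => by
      simpa using (h.mem_D.1 hv.1).2))
  rw [h2, card_bot, e, Nat.ModEq] at h1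
  rw [← card_eq_one, e]
  interval_cases k <;> simp_all

omit [Finite G] in
theorem eq_of_π {D : Subgroup G} (hD : D ⊓ h.V = ⊥) {a b : h.M} (ha : (a : G) ∈ D)
    (hb : (b : G) ∈ D) (e : h.π a = h.π b) : (a : G) = b :=
  mul_inv_eq_one.1 (mem_bot.1 (hD.le ⟨D.mul_mem ha (D.inv_mem hb),
    (h.π_eq_one (a * b⁻¹)).1 (by rw [map_mul, map_inv, e, mul_inv_cancel])⟩))

theorem D_cases {y : G} (hy : y ∉ h.M) (hx : h.x' ∈ h.D y) (ht : h.t ∉ h.D y) :
    h.γ ^ 2 ∈ h.D y ∨ h.γ ^ 5 ∈ h.D y ∨ h.γ ^ 5 * h.t ∈ h.D y := by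
  have h1 := h.D_inf_V hy hx ht
  have lift : ∀ j < 10, j ≠ 0 → mc pG ^ j ∈ h.im (h.D y) →
      h.γ ^ 2 ∈ h.D y ∨ h.γ ^ 5 ∈ h.D y ∨ h.γ ^ 5 * h.t ∈ h.D y := fun j hj h0 hm => by
    obtain ⟨a, ha, hm⟩ := h.mem_im.1 hm
    have a1 := (mem_normalizer_iff.1 (inv_mem (h.B0_norm (mem_sup_left (npow_mem_zpowers h.γ j))))
      h.x').1 (mem_zpowers _)
    have a2 := h.eq_of_π h1 (a := ⟨_, h.nu_lam_mem ha (mc pG ^ j)⟩ *
      ⟨_, h.lam_mem_M ((mc pG ^ j)⁻¹ * mc pX * mc pG ^ j)⟩ * (⟨_, h.nu_lam_mem ha (mc pG ^ j)⟩)⁻¹)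
      (b := ⟨_, h.lam_mem_M (mc pX)⟩) (mul_mem (mul_mem hm (zpowers_le.2 hx (by
        simpa using a1))) (inv_mem hm)) hx (by
        rw [map_mul, map_mul, map_inv, h.π_nu_lam ha, h.π_lam, h.π_lam]; group)
    simp only [coe_mul, coe_inv, map_mul, map_inv] at a2
    obtain ⟨e, he, e1⟩ := h.V_cent' (h.nu_mem_V ha) (mem_centralizer_singleton_iff.2
      (mul_inv_eq_iff_eq_mul.1 (Eq.trans (by group) a2)))
    rw [e1, map_pow, ← ((h.γ_t.pow_left j).pow_right e).eq] at hm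
    exact ((ten_cases h.γ_ten h.t_sq h.γ_t hj he hm).resolve_left fun e => h0 e.1).resolve_left ht
  by_contra hn
  have h2 := card_le (D := h.im (h.D y)) (h.mem_im.2 ⟨∅, by simp, by rwa [h.nu_empty, one_mul]⟩)
    (fun e => hn (lift 2 (by norm_num) (by norm_num) e))
    (fun e => hn (lift 5 (by norm_num) (by norm_num) e))
  have h3 := h.card_im (X := h.D y) inf_le_left
  have h4 := Grp.card_mul_card_le_of_le (H := h.M) (K := h.M.map (MulAut.conj y).toMonoidHom)
    le_top le_top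
  rw [Grp.card_map_conj, card_top, h.card_G, h.card_M] at h4
  rw [h1, card_bot, mul_one] at h3
  change _ ≤ Nat.card (h.D y) * _ at h4
  omega

theorem not_isConj_x (e : IsConj h.x h.x') {O : Subgroup G} (h2 : Odd (Nat.card O))
    (h5 : Nat.card (centralizer ({h.x'} : Set G)) = 2 * Nat.card O) : False := by
  obtain ⟨-, -, -, -, -, a⟩ := h.exists_U
  rw [Inv.Count.card_centralizer_of_isConj e, h5] at a
  rw [show Nat.card O = 15972 by omega] at h2
  exact absurd h2 (by decide)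

theorem card_cx' : Nat.card (centralizer ({h.x'} : Set G)) = 242 := by
  obtain ⟨O, h1, h2, h3, h4, h5⟩ := exists_core (x := h.x') (by rw [h.x'_ord]; decide) h.t_ord
    h.t_mem_cx fun g hg e => h.eq_t (h.cent_t_le (mem_centralizer_singleton_iff.2 e.eq.symm))
      (mul_mem (mul_mem hg h.t_mem_cx) (inv_mem hg)) ((Inv.Count.orderOf_conj _ _).trans h.t_ord)
  have h6 := h.odd_inf' h1 h2 h3
  have hx : Nat.card (zpowers h.x') = 11 := by rw [Nat.card_zpowers, h.x'_ord]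
  rw [show centralizer {h.t} ⊓ O = zpowers h.x' from le_antisymm
    (h6 ▸ inf_le_inf_right _ h.cent_t_le) (zpowers_le.2
      ⟨mem_centralizer_singleton_iff.2 h.x'_t.eq, h3⟩), h.card_CM, hx] at h5
  replace h5 : Nat.card (centralizer ({h.x'} : Set G)) = 2 * Nat.card O := by omega
  have hO : Nat.card O ∣ 86775571046077562880 := h.card_G ▸ card_subgroup_dvd_card O
  have small : ∀ q ∈ [2, 3, 5, 7], ¬ q ∣ Nat.card O := fun q hq hd => by
    have := Fact.mk ((by decide : ∀ q ∈ [2, 3, 5, 7], q.Prime) q hq)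
    obtain ⟨⟨u, hu⟩, e⟩ := exists_prime_orderOf_dvd_card' q hd
    rw [orderOf_mk] at e
    have a1 : h.x' ∈ centralizer {u} := mem_centralizer_singleton_iff.2
      (mem_centralizer_singleton_iff.1 (h1 hu)).symm
    have a2 := h.x'_ord ▸ orderOf_dvd_natCard _ a1
    simp only [List.mem_cons, List.not_mem_nil, or_false] at hq
    rcases hq with rfl | rfl | rfl | rfl
    · exact (Nat.not_even_iff_odd.2 h2) (even_iff_two_dvd.2 hd)
    · obtain ⟨c, rfl⟩ := isConj_iff.1 (h.isConj_d e)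
      refine h.not_isConj_x ((h.isConj_x (g := c⁻¹ * h.x' * c) (h.norm_P_le
        ((congrArg (fun Q : Subgroup G => normalizer (Q : Set G)) h.P_eq).ge
          (cent_le_norm _ ((mem_centralizer_singleton_conj _ _ _).1 a1)))) ?_).trans
        (isConj_iff.2 ⟨c, by group⟩)) h2 h5
      simpa [h.x'_ord] using Inv.Count.orderOf_conj c⁻¹ h.x'
    · rw [h.card_cent_five e] at a2; norm_num at a2
    · rw [h.card_cent_seven e] at a2; norm_num at a2
  have hB := h.B0_norm.trans h4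
  have h7 : ∀ {q}, q.Prime → q ∣ Nat.card O → q = 11 := fun {q} hq hd => by
    have h8 := prime_dvd_G hq (hd.trans hO)
    have h9 := small q
    have h10 := fun hq' => h.card_B0 ▸ h.dvd_pred hB (by
      rw [h.card_B0]
      exact Nat.Coprime.mul_left (Nat.Coprime.pow_left 2 ((Nat.Prime.coprime_iff_not_dvd
        Nat.prime_two).2 (small 2 (by simp)))) ((Nat.Prime.coprime_iff_not_dvd Nat.prime_five).2
        (small 5 (by simp)))) (Group.isSolvable_of_comm (by
      have := isMulCommutative_closure (k := {h.γ, h.t}) (by simp [h.γ_t.eq])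
      rw [B0, zpowers_eq_closure, zpowers_eq_closure, ← Subgroup.closure_union]
      exact this.1.1)) (by rw [h.card_B0]; norm_num) hq' hd
    simp only [List.mem_cons, List.not_mem_nil, or_false] at h8
    rcases h8 with rfl | rfl | rfl | rfl | rfl | rfl | rfl | rfl | rfl | rfl <;> simp_all
  have h8 := Nat.eq_prime_pow_of_unique_prime_dvd Nat.card_pos.ne' h7
  generalize (Nat.card O).primeFactorsList.length = k at h8
  have h9 := sq_dvd_cent (by norm_num) (by rw [h.card_G]; norm_num) h.x'_ord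
  have h11 : k < 4 := by
    by_contra h
    exact absurd ((pow_dvd_pow 11 (not_lt.1 h)).trans (h8 ▸ hO)) (by norm_num)
  have h12 : k ≠ 3 := by
    rintro rfl
    have bd : ∀ b ∈ h.B0, b ≠ 1 →
        {y | y ∈ O ∧ b⁻¹ * (y⁻¹ * b * y) ∈ zpowers h.x'}.ncard ≤ 121 := fun b hb e => by
      refine (cover_bound O _ b).trans ?_
      have := Nat.le_of_dvd (by norm_num) (Nat.dvd_gcd
        (h8 ▸ card_dvd_of_le (inf_le_left : O ⊓ centralizer {b} ≤ O))
        ((card_dvd_of_le inf_le_right).trans (h.cent_dvd' e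
          ((orderOf_dvd_natCard _ hb).trans (by rw [h.card_B0]; norm_num)))))
      rw [hx, show 121 = 11 * 11 from rfl]
      exact Nat.mul_le_mul_right _ (this.trans (by norm_num))
    have mem : ∀ b ∈ h.B0, ∀ y ∈ O, b ∈ h.D y → b⁻¹ * (y⁻¹ * b * y) ∈ zpowers h.x' :=
      fun b hb y hy e => h6 ▸ ⟨h.M.mul_mem (h.M.inv_mem (h.B0_le_M hb)) (h.mem_D.1 e).2, by
        simpa [mul_assoc] using O.mul_mem
          ((mem_normalizer_iff.1 (inv_mem (hB hb)) _).1 (O.inv_mem hy)) hy⟩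
    have b1 : h.t ∈ h.B0 := mem_sup_right (mem_zpowers _)
    have b2 : ∀ j : ℕ, h.γ ^ j ∈ h.B0 := fun j => mem_sup_left (npow_mem_zpowers _ _)
    have c2 : h.γ ^ 2 ≠ 1 := fun e => by
      have := h.ord_lam (mc pG ^ 2); rw [map_pow, e, ordG2] at this; simp at this
    have c5 : h.γ ^ 5 ∉ h.V := fun e => by
      have := h.lam_mem_V (g := mc pG ^ 5) (by rwa [map_pow])
      exact absurd ((G_five.symm.trans this) ▸ ordS) (by simp)
    have a1 := bd _ b1 h.t_ne
    have a2 := bd _ (b2 2) c2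
    have a3 := bd _ (b2 5) (fun e => c5 (e ▸ one_mem _))
    have a4 := bd _ (mul_mem (b2 5) b1) (fun e => c5 (by
      rw [eq_inv_of_mul_eq_one_left e]; exact inv_mem h.t_mem_V))
    have a5 : (O : Set G).ncard ≤ _ := (Set.ncard_le_ncard (fun y hy => ?_)).trans
      ((Set.ncard_union_le _ _).trans (add_le_add ((Set.ncard_union_le _ _).trans (add_le_add a1 a2))
      ((Set.ncard_union_le _ _).trans (add_le_add a3 a4))))
    · rw [← Nat.card_coe_set_eq, SetLike.coe_sort_coe, h8] at a5; omega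
    by_cases ht : h.t ∈ h.D y
    · exact Or.inl (Or.inl ⟨hy, mem _ b1 y hy ht⟩)
    rcases h.D_cases (fun e => ht (h.mem_D.2 ⟨h.B0_le_M b1,
      mul_mem (mul_mem (inv_mem e) (h.B0_le_M b1)) e⟩)) (h.mem_D.2 ⟨h.lam_mem_M _, by
        rw [mul_assoc, ← mem_centralizer_singleton_iff.1 (h1 hy), inv_mul_cancel_left]
        exact h.lam_mem_M _⟩) ht with e | e | e
    · exact Or.inl (Or.inr ⟨hy, mem _ (b2 2) y hy e⟩)
    · exact Or.inr (Or.inl ⟨hy, mem _ (b2 5) y hy e⟩)
    · exact Or.inr (Or.inr ⟨hy, mem _ (mul_mem (b2 5) b1) y hy e⟩)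
  rw [h8] at h5
  interval_cases k <;> omega

end MM

end Cfsg.Agent.J4
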