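import Cfsg.Agent.J4.Order
import Cfsg.Agent.J4.Loc3
import Cfsg.Agent.J4.Loc5
import Cfsg.Agent.J4.Loc7
import Cfsg.Agent.J4.L11Y
import Cfsg.Agent.Grp.FourOdd

/-! Centralisers of elements of order 11. -/

set_option autoImplicit false

namespace Cfsg.Agent.J4

open Cfsg Cfsg.Agent.Comp Cfsg.Agent.Spor Cfsg.Agent.Spor.M24C Subgroup
open scoped Pointwise

variable {G : Type*} [Group G] {z : G} {P : Subgroup G}

namespace MM

variable [Finite G] (h : MM z P)
include h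

theorem card_cent_x : Nat.card (centralizer ({h.x} : Set G)) = 31944 :=
  let ⟨_, _, _, _, _, e⟩ := h.exists_U; e
theorem card_cent_x' : Nat.card (centralizer ({h.lam (mc pX)} : Set G)) = 242 := h.card_cx'

theorem not_isConj_xx' : ¬ IsConj h.x h.x' := fun e => by
  have := Inv.Count.card_centralizer_of_isConj e
  rw [h.card_cent_x, h.card_cent_x'] at this; omega

theorem card_norm_x : Nat.card (normalizer ((zpowers h.x : Subgroup G) : Set G)) = 319440 := by
  rw [L11.card_norm h.x_ord h.conj_x, h.card_cent_x]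

theorem isConj_of_mem_zp {u : G} (hu : u ∈ zpowers h.x) (h1 : orderOf u = 11) : IsConj h.x u :=
  h.isConj_x (zpowers_le.2 h.rep_x.memH hu) h1

theorem U_spec : ∃ U : Subgroup G, Nat.card U = 11 ^ 3 ∧
    normalizer (U : Set G) = normalizer ((zpowers h.x : Subgroup G) : Set G) ∧
    (∀ g : G, orderOf g = 11 → ∃ c : G, c * g * c⁻¹ ∈ U) ∧
    ∀ u ∈ U, u ∉ zpowers h.x → IsConj h.x' u := by
  have := Fact.mk (show Nat.Prime 11 by norm_num)
  obtain ⟨U, -, h2, h3, h4, -⟩ := h.exists_U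
  have h5 : ∀ g : G, orderOf g = 11 → ∃ c : G, c * g * c⁻¹ ∈ U := fun g hg => by
    obtain ⟨c, -, e⟩ := LA.exists_conj_le_of_card (p := 11) (L := ⊤) (Q := zpowers g) le_top le_top h2
      (by rw [card_top, h.card_G]; norm_num) (Grp.SelfCent.isPGroup_zp hg)
    exact ⟨c, e g (mem_zpowers g)⟩
  obtain ⟨c, hc⟩ := h5 _ h.x'_ord
  have e1 : IsConj h.x' (c * h.x' * c⁻¹) := isConj_iff.2 ⟨c, rfl⟩
  generalize c * h.x' * c⁻¹ = w at hc e1
  have h6 : ∀ {u}, IsConj h.x' u → u ∉ zpowers h.x := fun {u} e hu => h.not_isConj_xx'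
    ((h.isConj_of_mem_zp hu (by
      obtain ⟨c, rfl⟩ := isConj_iff.1 e
      exact (Inv.Count.orderOf_conj _ _).trans h.x'_ord)).trans e.symm)
  have h7 := Grp.FourOdd.ncard_conj (normalizer ((zpowers h.x : Subgroup G) : Set G)) w
  have h8 := card_le_of_le (inf_le_right : normalizer ((zpowers h.x : Subgroup G) : Set G) ⊓
    centralizer {w} ≤ _)
  rw [← Inv.Count.card_centralizer_of_isConj e1, h.card_cent_x'] at h8
  have h9 := L11.card_diff (zpowers_le.2 h3)
  rw [h2, Nat.card_zpowers, h.x_ord, Nat.card_coe_set_eq] at h9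
  rw [h.card_norm_x] at h7
  have h10 := Set.eq_of_subset_of_ncard_le (s := {t | ∃ k ∈ normalizer
    ((zpowers h.x : Subgroup G) : Set G), k * w * k⁻¹ = t}) (t := (U : Set G) \ zpowers h.x)
    (by rintro _ ⟨k, hk, rfl⟩
        exact ⟨(mem_normalizer_iff.1 (h4 hk) w).1 hc, h6 (e1.trans (isConj_iff.2 ⟨k, rfl⟩))⟩)
    (by have := Nat.mul_le_mul_left {t | ∃ k ∈ normalizer ((zpowers h.x : Subgroup G) : Set G),
          k * w * k⁻¹ = t}.ncard h8
        omega)
  have h11 : ∀ u ∈ U, u ∉ zpowers h.x → IsConj h.x' u := fun u hu e => by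
    obtain ⟨k, -, rfl⟩ := h10.ge ⟨hu, e⟩
    exact e1.trans (isConj_iff.2 ⟨k, rfl⟩)
  refine ⟨U, h2, le_antisymm (fun n hn => (Small.mem_normalizer_zpowers_iff _ _).2 ?_) h4, h5, h11⟩
  by_contra e
  exact h.not_isConj_xx' ((isConj_iff.2 ⟨n, rfl⟩).trans
    (h11 _ ((mem_normalizer_iff.1 hn _).1 h3) e).symm)

theorem eleven_classes {g : G} (hg : orderOf g = 11) :
    IsConj h.x g ∨ IsConj (h.lam (mc pX)) g := by
  obtain ⟨U, -, -, h1, h2⟩ := h.U_spec
  obtain ⟨c, hc⟩ := h1 g hg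
  have e : IsConj (c * g * c⁻¹) g := (isConj_iff.2 ⟨c, rfl⟩).symm
  by_cases h3 : c * g * c⁻¹ ∈ zpowers h.x
  · exact Or.inl ((h.isConj_of_mem_zp h3 ((Inv.Count.orderOf_conj _ _).trans hg)).trans e)
  · exact Or.inr ((h2 _ hc h3).trans e)

end MM

end Cfsg.Agent.J4
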