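import Cfsg.Agent.J4.Loc5
import Cfsg.Agent.Misc.AutElem
import Cfsg.Agent.Class.LinearBasic
import Cfsg.Agent.Grp.Card

/-! The structure of the centraliser and the normaliser of a subgroup of order 5. -/

set_option autoImplicit false
set_option linter.unusedSectionVars false

namespace Cfsg.Agent.J4

open Cfsg Cfsg.Agent.Comp Cfsg.Agent.Spor Cfsg.Agent.Spor.M24C Subgroup
open scoped Pointwise
open LA VA

variable {G : Type*} [Group G] {z : G} {P : Subgroup G}

namespace L5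

theorem card_SL32 : Nat.card (Matrix.SpecialLinearGroup (Fin 3) (ZMod 2)) = 168 := by
  have h := Class.card_units_mul_card_SL (ι := Fin 3) (R := ZMod 2)
  rw [Matrix.card_GL_field, Nat.card_units, Nat.card_eq_fintype_card (α := ZMod 2), ZMod.card] at h
  simpa [Fin.prod_univ_three] using h

theorem exists_injective_SL {V : Type*} [Group V] [Finite V] (h2 : ∀ x : V, x * x = 1)
    (hV : Nat.card V = 8) :
    ∃ f : MulAut V →* Matrix.SpecialLinearGroup (Fin 3) (ZMod 2), Function.Injective f := by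
  obtain ⟨f, hf⟩ := Misc.AutElem.exists_injective_GL (V := V) (p := 2)
    (fun x y => comm_of_sq (h2 x) (h2 y) (h2 _)) (fun x => (sq x).trans (h2 x)) (n := 3) hV.le
  let e := MulEquiv.ofBijective (Matrix.SpecialLinearGroup.toGL (n := Fin 3) (R := ZMod 2))
    ⟨Matrix.SpecialLinearGroup.toGL_injective, fun A => ⟨⟨A, by
      rw [← Matrix.GeneralLinearGroup.val_det_apply, Subsingleton.elim (Matrix.GeneralLinearGroup.det A) 1]
      rfl⟩, Units.ext rfl⟩⟩
  exact ⟨e.symm.toMonoidHom.comp f, e.symm.injective.comp hf⟩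

theorem struct [Finite G] {Q Y U : Subgroup G} (hQ : Nat.card Q = 5) (hQY : Q ≤ Y)
    (hc : ∀ a ∈ Q, ∀ b ∈ Y, a * b = b * a) (hY : Nat.card Y = 6720) (hU : U ≤ Y)
    (hn : Y ≤ normalizer (U : Set G)) (cU : Nat.card U = 8) (h2 : ∀ u ∈ U, u * u = 1)
    (hcU : ∀ y ∈ Y, (∀ u ∈ U, y * u = u * y) → ∃ u ∈ U, ∃ a ∈ Q, y = u * a)
    (nc : ∀ L ≤ Y, Nat.card L = 168 → L ⊓ U ≠ ⊥) :
    ∃ J : Subgroup G, IsInternalDirectProduct Q J Y ∧
      ∃ (E : Subgroup ↥J) (_ : E.Normal), IsElementaryAbelian 2 E ∧ Nat.card ↥E = 8 ∧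
        Nonempty (↥J ⧸ E ≃* Matrix.SpecialLinearGroup (Fin 3) (ZMod 2)) ∧
        ∀ K : Subgroup ↥J, ¬ E.IsComplement' K := by
  obtain ⟨J, hJ, cJ⟩ := exists_direct (m := 1344) hQY hc (by rw [hY, hQ]) (by rw [hQ]; norm_num)
  have h1 : ∀ a ∈ Q, a ∈ J → a = 1 := fun a ha ha' => mem_bot.1 (hJ.2.2.2.1 ▸ ⟨ha, ha'⟩)
  have hUJ : U ≤ J := fun u hu => by
    obtain ⟨a, ha, b, hb, rfl⟩ := direct_decomp hJ (hU hu)
    have e := h2 _ hu
    rw [mul_assoc, ← mul_assoc b, ← hJ.2.2.1 a ha b hb, mul_assoc, ← mul_assoc] at e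
    have e2 := h1 _ (mul_mem ha ha) (by
      rw [eq_inv_of_mul_eq_one_left e]; exact inv_mem (mul_mem hb hb))
    have e5 : a ^ 5 = 1 := congrArg Subtype.val (hQ ▸ pow_card_eq_one' (x := (⟨a, ha⟩ : Q)))
    rw [show a ^ 5 = a * a * (a * a) * a by simp [pow_succ, mul_assoc], e2, one_mul, one_mul] at e5
    rwa [e5, one_mul]
  obtain ⟨f, hf⟩ := exists_injective_SL (V := U) (fun x => Subtype.ext (h2 x x.2)) cU
  let φ := (f.comp U.normalizerMonoidHom).comp (inclusion (hJ.2.1.trans hn))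
  have hk : φ.ker = U.subgroupOf J := by
    ext y
    have : φ y = 1 ↔ ∀ u ∈ U, (y : G) * u = u * y := by
      rw [← map_one f]
      refine hf.eq_iff.trans ⟨fun e u hu => mul_inv_eq_iff_eq_mul.1 ?_, fun e => ?_⟩
      · exact congrArg (fun x : MulAut U => (x ⟨u, hu⟩ : G)) e
      · ext u
        exact mul_inv_eq_iff_eq_mul.2 (e u u.2)
    rw [MonoidHom.mem_ker, this, mem_subgroupOf]
    refine ⟨fun e => ?_, fun e u hu => comm_of_sq (h2 _ e) (h2 _ hu) (h2 _ (mul_mem e hu))⟩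
    obtain ⟨u, hu, a, ha, e'⟩ := hcU y (hJ.2.1 y.2) e
    rwa [e', h1 a ha ((mul_mem_cancel_left (hUJ hu)).1 (e' ▸ y.2)), mul_one]
  have cE : Nat.card φ.ker = 8 := by rw [hk, Nat.card_congr (subgroupOfEquivOfLe hUJ).toEquiv, cU]
  have hs : Function.Surjective φ := by
    have := φ.ker.card_mul_index
    rw [index_ker, cE, cJ] at this
    rw [← MonoidHom.range_eq_top]
    exact eq_top_of_card_eq _ (by rw [card_SL32]; omega)
  have sqE : ∀ a ∈ φ.ker, a * a = 1 := fun a ha => Subtype.ext (h2 _ (by rw [hk] at ha; exact ha))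
  refine ⟨J, hJ, φ.ker, inferInstance, elab_of_sq sqE, cE,
    ⟨QuotientGroup.quotientKerEquivOfSurjective φ hs⟩, fun K hK => ?_⟩
  refine nc (K.map J.subtype) ((map_subtype_le _).trans hJ.2.1) ?_ (eq_bot_iff.2 ?_)
  · have := hK.card_mul_card
    rw [cE, cJ] at this
    rw [card_subtype]
    omega
  · rintro _ ⟨⟨k, hk', rfl⟩, hu⟩
    rw [mem_bot.1 (hK.disjoint.le_bot ⟨show k ∈ φ.ker by rw [hk]; exact hu, hk'⟩)]
    exact one_mem _

theorem exists_twenty [Finite G] {q w : G} (hq : orderOf q = 5) (e : w * q * w⁻¹ = q ^ 2)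
    (hw : w ^ 4 = 1) : ∃ R : Subgroup G, zpowers q ≤ R ∧ R ≤ normalizer (zpowers q : Set G) ∧
      Nat.card ↥R = 20 ∧ R ⊓ centralizer (zpowers q : Set G) = zpowers q := by
  have hp : ∀ j : ℕ, w ^ j * q * (w ^ j)⁻¹ = q ^ 2 ^ j := fun j => by
    induction j with
    | zero => simp
    | succ j ih =>
      rw [pow_succ', show w * w ^ j * q * (w * w ^ j)⁻¹ = w * (w ^ j * q * (w ^ j)⁻¹) * w⁻¹ by group,
        ih, ← conj_pow, e, ← pow_mul, pow_succ']
  have hn : zpowers w ≤ normalizer (zpowers q : Set G) := zpowers_le.2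
    (mem_normalizer_fintype (by
      rintro _ ⟨i, rfl⟩
      rw [← conj_zpow, e]
      exact zpow_mem (pow_mem (mem_zpowers q) 2) i))
  have h1 : ∀ j < 4, w ^ j * q = q * w ^ j → j = 0 := fun j hj h => by
    have := (hp j).symm.trans (mul_inv_eq_iff_eq_mul.2 h)
    rw [← pow_one q, ← pow_mul, pow_eq_pow_iff_modEq, hq] at this
    interval_cases j <;> simp_all [Nat.ModEq]
  have ow : orderOf w = 4 := (orderOf_eq_iff (by norm_num)).2 ⟨hw, fun m h0 h4 e => by
    have := h1 m h0 (by rw [e, one_mul, mul_one]); omega⟩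
  have h2 : ∀ x ∈ zpowers w, x * q = q * x → x = 1 := fun x hx h => by
    obtain ⟨j, hj, rfl⟩ := exists_pow_of_mem (by norm_num) ow hx
    rw [h1 j hj h, pow_zero]
  have h3 : ∀ x ∈ zpowers q, x * q = q * x := by
    rintro _ ⟨i, rfl⟩
    exact (Commute.refl q).zpow_left i
  refine ⟨zpowers w ⊔ zpowers q, le_sup_right, sup_le hn le_normalizer, ?_, le_antisymm ?_
    (le_inf le_sup_right ?_)⟩
  · have := Grp.card_sup_mul_card_inf_of_le_normalizer hn
    rwa [show zpowers w ⊓ zpowers q = ⊥ from eq_bot_iff.2 fun x hx => h2 x hx.1 (h3 x hx.2),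
      card_bot, mul_one, Nat.card_zpowers, Nat.card_zpowers, ow, hq] at this
  · rintro x ⟨hx, hx'⟩
    obtain ⟨a, ha, b, hb, rfl⟩ := (coe_mul_of_left_le_normalizer_right _ _ hn).le hx
    have := mem_centralizer_iff.1 hx' q (mem_zpowers q)
    dsimp only at this ⊢
    rw [mul_assoc, h3 b hb, ← mul_assoc, ← mul_assoc, mul_left_inj] at this
    rwa [h2 a ha this.symm, one_mul]
  · rw [Small.centralizer_zpowers]
    exact fun x hx => mem_cent.2 (h3 x hx)

end L5

namespace MM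

variable [Finite G] (h : MM z P)
include h

theorem orderOf_lam_pF : orderOf (h.lam (mc pF)) = 5 := by
  have : Fact (Nat.Prime 5) := ⟨by norm_num⟩
  rw [h.orderOf_lam]
  refine orderOf_eq_prime ?_ fun e => ?_
  · rw [eq_iff_code, code_pow', code_mc okM_pF, code_one']; decide +kernel
  · rw [eq_iff_code, code_mc okM_pF, code_one'] at e
    exact absurd e (by decide +kernel)

theorem exists_four {q : G} (hq : orderOf q = 5) : ∃ w : G, w * q * w⁻¹ = q ^ 2 ∧ w ^ 4 = 1 := by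
  obtain ⟨g, rfl⟩ := isConj_iff.1 ((h.isConj_f h.orderOf_lam_pF).symm.trans (h.isConj_f hq))
  have ok : okM pU = true := by decide +kernel
  have e1 : mc pU * mc pF * (mc pU)⁻¹ = mc pF ^ 2 := by
    rw [eq_iff_code, code_conj', code_pow', code_mc ok, code_mc okM_pF]; decide +kernel
  have e2 : mc pU ^ 4 = 1 := by
    rw [eq_iff_code, code_pow', code_mc ok, code_one']; decide +kernel
  refine ⟨g * h.lam (mc pU) * g⁻¹, ?_, by rw [conj_pow, ← map_pow, e2, map_one, mul_one,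
    mul_inv_cancel]⟩
  rw [conj_pow, ← map_pow, ← e1, map_mul, map_mul, map_inv]
  group

theorem card_norm_five {q : G} (hq : orderOf q = 5) :
    Nat.card (normalizer (zpowers q : Set G)) = 2 ^ 8 * 3 * 5 * 7 := by
  have : Fact (Nat.Prime 5) := ⟨by norm_num⟩
  have e : {y : G | y ∈ zpowers q ∧ IsConj q y} = (zpowers q : Set G) \ {1} := by
    ext y
    refine and_congr_right fun hy => ⟨fun h1 e => ?_, fun h1 => ?_⟩
    · rw [Set.mem_singleton_iff.1 e, isConj_one_left] at h1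
      rw [h1, orderOf_one] at hq
      omega
    · obtain ⟨i, rfl⟩ := hy
      exact (h.isConj_f hq).symm.trans (h.isConj_f (orderOf_eq_prime (by
        rw [← zpow_natCast, ← zpow_mul, mul_comm, zpow_mul, zpow_natCast, ← hq, pow_orderOf_eq_one,
          one_zpow]) h1))
  rw [Small.card_normalizer_zpowers, h.card_cent_five hq]
  change Nat.card {y : G | y ∈ zpowers q ∧ IsConj q y} * _ = _
  rw [e, Nat.card_coe_set_eq, Set.ncard_sdiff_singleton_of_mem (one_mem _), ← Nat.card_coe_set_eq,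
    SetLike.coe_sort_coe, Nat.card_zpowers, hq]
  norm_num

theorem struct_five {q : G} (hq : orderOf q = 5) :
    ∃ J : Subgroup G, IsInternalDirectProduct (zpowers q) J (centralizer (zpowers q : Set G)) ∧
      ∃ (E : Subgroup ↥J) (_ : E.Normal), IsElementaryAbelian 2 E ∧ Nat.card ↥E = 8 ∧
        Nonempty (↥J ⧸ E ≃* Matrix.SpecialLinearGroup (Fin 3) (ZMod 2)) ∧
        ∀ K : Subgroup ↥J, ¬ E.IsComplement' K := by
  have cY := h.card_cent_five hq
  obtain ⟨g, rfl⟩ := isConj_iff.1 (h.isConj_f hq)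
  have key : ∀ y, y ∈ centralizer ({g * h.f * g⁻¹} : Set G) ↔
      g⁻¹ * y * g ∈ centralizer ({h.f} : Set G) := fun y => by
    rw [mem_cent, mem_cent]
    constructor <;> intro e
    · calc g⁻¹ * y * g * h.f = g⁻¹ * (y * (g * h.f * g⁻¹)) * g := by group
        _ = _ := by rw [e]; group
    · calc y * (g * h.f * g⁻¹) = g * (g⁻¹ * y * g * h.f) * g⁻¹ := by group
        _ = _ := by rw [e]; group
  rw [Small.centralizer_zpowers]
  refine L5.struct (U := h.U.map (MulAut.conj g).toMonoidHom) (by rw [Nat.card_zpowers, hq])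
    (zpowers_le.2 (mem_cent.2 rfl)) ?_ cY (fun u hu => ?_) (fun y hy => ?_)
    (by rw [card_map_conj, h.card_U]) (sq_map_conj (fun _ hu => h.U_sq hu) g) (fun y hy e => ?_)
    fun L hL cL hb => ?_
  · rintro _ ⟨i, rfl⟩ b hb
    exact Commute.zpow_left (mem_cent.1 hb).symm i
  · exact (key u).2 (mem_cent.2 (h.U_comm_f (mem_map_conj'.1 hu)))
  · rw [normalizer_map_conj]
    exact mem_map_conj'.2 (h.cent_f_le ((key y).1 hy))
  · obtain ⟨u, hu, _, ⟨i, rfl⟩, e'⟩ := h.cent_U (mem_cent.1 ((key y).1 hy)) fun u hu => by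
      calc g⁻¹ * y * g * u = g⁻¹ * (y * (g * u * g⁻¹)) * g := by group
        _ = _ := by rw [e _ (mem_map_conj.2 ⟨u, hu, rfl⟩)]; group
    refine ⟨_, mem_map_conj.2 ⟨u, hu, rfl⟩, _, ⟨i, rfl⟩, ?_⟩
    dsimp only at e' ⊢
    rw [conj_zpow]
    calc y = g * (g⁻¹ * y * g) * g⁻¹ := by group
      _ = _ := by rw [e']; group
  · refine h.no_compl_five (L := L.map (MulAut.conj g⁻¹).toMonoidHom) (fun x hx => ?_)
      (by rw [card_map_conj, cL]) (eq_bot_iff.2 fun x hx => ?_)
    · obtain ⟨a, ha, rfl⟩ := mem_map_conj.1 hx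
      simpa using (key a).1 (hL ha)
    · obtain ⟨a, ha, rfl⟩ := mem_map_conj.1 hx.1
      have : a ∈ L ⊓ h.U.map (MulAut.conj g).toMonoidHom :=
        ⟨ha, mem_map_conj'.2 (by simpa using hx.2)⟩
      rw [hb, mem_bot] at this
      rw [this, mul_one, mul_inv_cancel]
      exact one_mem _

end MM

end Cfsg.Agent.J4
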