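import Cfsg.Agent.J4.Loc11

/-! The Sylow subgroups of prime order. -/

set_option autoImplicit false

namespace Cfsg.Agent.J4

open Cfsg Cfsg.Agent.Comp Cfsg.Agent.Spor Cfsg.Agent.Spor.M24C Subgroup L11

variable {G : Type*} [Group G] {z : G} {P : Subgroup G}

theorem exists_ord [Finite G] {q : ℕ} (hq : q.Prime) {y : G}
    (h : q ∣ Nat.card (centralizer ({y} : Set G))) :
    ∃ u : G, orderOf u = q ∧ orderOf y ∣ Nat.card (centralizer ({u} : Set G)) := by
  have := Fact.mk hq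
  obtain ⟨⟨u, hu⟩, e⟩ := exists_prime_orderOf_dvd_card' q h
  exact ⟨u, (orderOf_mk u hu).symm.trans e, orderOf_dvd_natCard _
    (mem_centralizer_singleton_iff.2 (mem_centralizer_singleton_iff.1 hu).symm)⟩

theorem big_arith : ∀ q ∈ [(23, 22), (29, 28), (31, 10), (37, 12), (43, 14)], ∀ a ∈ [1, 23],
    ∀ b ∈ [1, 29], ∀ c ∈ [1, 31], ∀ d ∈ [1, 37], ∀ f ∈ [1, 43], ∀ e < 43,
    q.1 ∣ a * (b * (c * (d * f))) → e ∣ q.1 - 1 →
    86775571046077562880 / (e * (a * (b * (c * (d * f))))) % q.1 = 1 →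
    (2 ∣ e → (q.1 - 1) * (a * (b * (c * (d * f))) / q.1) * 1816657920 ^ 2 ≤
      e * 86775571046077562880) →
    (a * (b * (c * (d * f))) = q.1 ∧ e = q.2) ∨ (q.1 ≠ 43 ∧ 43 ∣ a * (b * (c * (d * f)))) ∨
      (q.1 = 23 ∧ 29 ∣ a * (b * (c * (d * f)))) := by decide +kernel

namespace MM

variable [Finite G] (h : MM z P)
include h

theorem big_cent_dvd {y : G} (hy : (orderOf y).Coprime (21799895040 * 121)) (h1 : y ≠ 1) :
    Nat.card (centralizer ({y} : Set G)) ∣ 23 * (29 * (31 * (37 * 43))) := by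
  refine Nat.Coprime.dvd_of_dvd_mul_left (m := 21799895040 * 121)
    (Nat.coprime_of_dvd fun q hq a1 a2 => h1 (orderOf_eq_one_iff.1 ?_))
    (by have := h.card_G ▸ card_subgroup_dvd_card (centralizer ({y} : Set G)); exact this)
  obtain ⟨u, rfl, hu⟩ := exists_ord hq a1
  refine hy.eq_one_of_dvd (hu.trans ?_)
  have a3 := (Nat.mem_primeFactorsList (by norm_num)).2 ⟨hq, show _ ∣ 2637787299840 from a2⟩
  simp only [Nat.primeFactorsList_ofNat] at a3
  by_cases e : orderOf u = 11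
  · rcases h.eleven_classes e with e | e <;> rw [← Inv.Count.card_centralizer_of_isConj e]
    · rw [h.card_cent_x]; norm_num
    · rw [h.card_cent_x']; norm_num
  · refine (h.cent_dvd ?_).mul_right _
    simp only [List.mem_cons] at a3 ⊢
    tauto

theorem big_data {p e : ℕ} (hp : (p, e) ∈ [(23, 22), (29, 28), (31, 10), (37, 12), (43, 14)])
    {y : G} (hy : orderOf y = p) : (Nat.card (centralizer ({y} : Set G)) = p ∧
      Nat.card (normalizer ((zpowers y : Subgroup G) : Set G)) = p * e) ∨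
    (p ≠ 43 ∧ 43 ∣ Nat.card (centralizer ({y} : Set G))) ∨
    (p = 23 ∧ 29 ∣ Nat.card (centralizer ({y} : Set G))) := by
  obtain ⟨a0, a1, a2, a3, a4⟩ := (by decide +kernel : ∀ q ∈
    [(23, 22), (29, 28), (31, 10), (37, 12), (43, 14)], q.1.Prime ∧
    q.1.Coprime (21799895040 * 121) ∧ q.1 ≤ 43 ∧
    86775571046077562880 = q.1 * (86775571046077562880 / q.1) ∧
    ¬ q.1 ∣ 86775571046077562880 / q.1) _ hp
  simp only at a0 a1 a2 a3 a4
  have := Fact.mk a0
  have b1 := h.big_cent_dvd (hy ▸ a1) (by rintro rfl; exact a0.one_lt.ne (by simpa using hy))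
  obtain ⟨S, hS⟩ := Small.exists_sylow_eq_zpowers (h.card_G.trans a3) a4 hy
  have b2 := Small.card_sylow_mul_card_normalizer S
  have b3 := Small.card_centralizer_mul_relIndex (zpowers y)
  have b4 := Small.relIndex_dvd_of_card_prime (zpowers y) (by rw [Nat.card_zpowers, hy])
  have b5 : Nat.card (Sylow p G) % p = 1 :=
    Eq.trans (card_sylow_modEq_one p G) (Nat.mod_eq_of_lt a0.one_lt)
  rw [hS, h.card_G] at b2
  generalize (centralizer ((zpowers y : Subgroup G) : Set G)).relIndex _ = k at b3 b4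
  rw [Small.centralizer_zpowers, mul_comm] at b3
  obtain ⟨m, hm⟩ : p ∣ Nat.card (centralizer ({y} : Set G)) :=
    hy ▸ orderOf_dvd_natCard _ (mem_centralizer_singleton_iff.2 rfl)
  have b6 : 2 ∣ k → (p - 1) * (Nat.card (centralizer ({y} : Set G)) / p) * 1816657920 ^ 2 ≤
      k * 86775571046077562880 := fun hk => by
    obtain ⟨⟨i, hi⟩, e⟩ := exists_prime_orderOf_dvd_card' 2 (b3 ▸ hk.mul_right _)
    rw [orderOf_mk] at e
    have c1 := real_bound a0 hy (fun c => a4 ((Nat.mul_dvd_mul_iff_left a0.pos).1 (by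
      rw [← a3, ← h.card_G]
      exact (hm ▸ mul_dvd_mul_left p c).trans (card_subgroup_dvd_card _)))) hm (hm ▸ b3.symm)
      (Inv.Count.mul_self_of_orderOf e) hi (disjoint_of_coprime_natCard
        (((by norm_num : Nat.Coprime 21799895040 _).coprime_dvd_left
          (h.cent_dvd (by simp [e]))).coprime_dvd_right b1)).eq_bot
    rw [hm, Nat.mul_div_cancel_left _ a0.pos, ← h.card_G]
    refine le_trans (Nat.mul_le_mul_left _ (Nat.pow_le_pow_left ?_ 2)) c1
    rcases h.two_classes e with e | e <;> rw [← Inv.Count.card_centralizer_of_isConj e]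
    · exact le_of_le_of_eq (by norm_num) h.card_H.symm
    · exact h.card_cent_t.ge
  have b7 : 86775571046077562880 / (k * Nat.card (centralizer ({y} : Set G))) % p = 1 := by
    rw [b3, ← b2, Nat.mul_div_cancel _ Nat.card_pos, b5]
  have b8 : p ∣ _ := ⟨m, hm⟩
  clear hm
  generalize Nat.card (centralizer ({y} : Set G)) = n at *
  obtain ⟨a, _, c1, d1, rfl⟩ := Nat.dvd_mul.1 b1
  obtain ⟨b, _, c2, d2, rfl⟩ := Nat.dvd_mul.1 d1
  obtain ⟨c, _, c3, d3, rfl⟩ := Nat.dvd_mul.1 d2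
  obtain ⟨d, f, c4, c5, rfl⟩ := Nat.dvd_mul.1 d3
  rw [Nat.dvd_prime (by norm_num)] at c1 c2 c3 c4 c5
  refine (big_arith _ hp a (by simpa using c1) b (by simpa using c2) c (by simpa using c3) d
    (by simpa using c4) f (by simpa using c5) k ?_ b8 b4 b7 b6).imp_left fun e => ⟨e.1, ?_⟩
  · have := Nat.le_of_dvd (by have := a0.one_lt; omega) b4
    omega
  · rw [← b3, e.1, e.2, mul_comm]

theorem big_spec {p e : ℕ} (hp : (p, e) ∈ [(23, 22), (29, 28), (31, 10), (37, 12), (43, 14)])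
    {y : G} (hy : orderOf y = p) : Nat.card (centralizer ({y} : Set G)) = p ∧
      Nat.card (normalizer ((zpowers y : Subgroup G) : Set G)) = p * e := by
  have a1 : ∀ {p e : ℕ}, (p, e) ∈ [(23, 22), (29, 28), (31, 10), (37, 12), (43, 14)] →
      ∀ {y : G}, orderOf y = p → ¬ (p ≠ 43 ∧ 43 ∣ Nat.card (centralizer ({y} : Set G))) :=
    fun {p e} hp y hy ⟨b1, b2⟩ => by
      obtain ⟨u, b3, b4⟩ := exists_ord (by norm_num) b2
      rw [((h.big_data (e := 14) (by simp) b3).resolve_right (by simp)).1, hy,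
        Nat.dvd_prime (by norm_num)] at b4
      rw [b4.resolve_right b1] at hp
      simp at hp
  refine (h.big_data hp hy).resolve_right (not_or.2 ⟨a1 hp hy, fun ⟨b1, b2⟩ => ?_⟩)
  obtain ⟨u, b3, b4⟩ := exists_ord (by norm_num) b2
  rw [((h.big_data (e := 28) (by simp) b3).resolve_right
    (not_or.2 ⟨a1 (e := 28) (by simp) b3, by simp⟩)).1, hy, b1] at b4
  norm_num at b4

theorem big_cent {p e : ℕ} (hp : (p, e) ∈ [(23, 22), (29, 28), (31, 10), (37, 12), (43, 14)])
    {y : G} (hy : orderOf y = p) : centralizer ({y} : Set G) = zpowers y :=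
  (eq_of_le_of_card_ge (zpowers_le.2 (mem_centralizer_singleton_iff.2 rfl))
    (by rw [(h.big_spec hp hy).1, Nat.card_zpowers, hy])).symm

theorem big_sylow {p e : ℕ} (hp : (p, e) ∈ [(23, 22), (29, 28), (31, 10), (37, 12), (43, 14)])
    (U : Sylow p G) : centralizer ((U : Subgroup G) : Set G) = U ∧
      Nat.card (normalizer ((U : Subgroup G) : Set G)) = p * e := by
  obtain ⟨a0, a1⟩ := (by decide +kernel : ∀ q ∈
    [(23, 22), (29, 28), (31, 10), (37, 12), (43, 14)], q.1.Prime ∧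
    q.1 ^ Nat.factorization 86775571046077562880 q.1 = q.1) _ hp
  have := Fact.mk a0
  have b1 : Nat.card (U : Subgroup G) = p := by rw [U.card_eq_multiplicity, h.card_G]; exact a1
  obtain ⟨⟨y, hy⟩, e⟩ := exists_prime_orderOf_dvd_card' p b1.symm.dvd
  rw [orderOf_mk] at e
  rw [← eq_of_le_of_card_ge (zpowers_le.2 hy) (by rw [b1, Nat.card_zpowers, e]),
    Small.centralizer_zpowers]
  exact ⟨h.big_cent hp e, (h.big_spec hp e).2⟩

end MM

end Cfsg.Agent.J4
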