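import Cfsg.Agent.J4.Ident
import Cfsg.Agent.Spor.J4.Main
import Cfsg.Agent.Spor.J4.H

/-! The orbits of `2^11 : M24` on its cosets. -/

set_option autoImplicit false
set_option linter.unusedSectionVars false

namespace Cfsg.Agent.J4

open Cfsg Cfsg.Agent.Comp Cfsg.Agent.Spor Cfsg.Agent.Spor.M24C Subgroup
open LA VA ID

variable {G : Type*} [Group G] {z : G} {P : Subgroup G}

theorem exists_quot_equiv_orbit {A B : Type*} [Group A] [Group B] (F : A ≃* B) {H : Subgroup A}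
    {N : Subgroup B} (e : ∀ a, F a ∈ N ↔ a ∈ H) :
    ∃ φ : A ⧸ H ≃ B ⧸ N, ∀ q, φ '' MulAction.orbit H q = MulAction.orbit N (φ q) := by
  refine ⟨Quotient.congr F.toEquiv fun a b => ?_, ?_⟩
  · rw [QuotientGroup.leftRel_apply, QuotientGroup.leftRel_apply, ← e, map_mul, map_inv]
    rfl
  · rintro ⟨q⟩
    ext y
    constructor
    · rintro ⟨_, ⟨k, rfl⟩, rfl⟩
      exact ⟨⟨F k, (e k).2 k.2⟩, congrArg (QuotientGroup.mk (s := N)) (map_mul F k.1 q).symm⟩
    · rintro ⟨k, rfl⟩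
      obtain ⟨k, hk⟩ := k
      obtain ⟨k, rfl⟩ := F.surjective k
      exact ⟨_, ⟨⟨k, (e k).1 hk⟩, rfl⟩, congrArg (QuotientGroup.mk (s := N)) (map_mul F k q)⟩

namespace MM

variable [Finite G] {h : MM z P} {η : G} (rη : h.R η mH cH)
include rη

theorem rel3 {a b : M24} (ha : code (a : Equiv.Perm GolayPt) = cY)
    (hb : code (b : Equiv.Perm GolayPt) = 934818326816783195561181287168722176) :
    (h.lam a * ((h.lam b)⁻¹ * h.τ η 5 * h.lam b)) ^ 3 ∈ h.V := by
  obtain ⟨g, hg⟩ : ∃ g : M24, code (g : Equiv.Perm GolayPt) =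
      585644840152086003106907392774448269 := ⟨mc _, code_mc (by decide +kernel)⟩
  have e1 : h.tt η (g * a * b⁻¹) = h.τ η 2 := tt_eq rη [1] [8, 9, 5, 11, 3] 2 (by
    simp only [code_mulF, code_invF, ha, hb, hg]; decide +kernel)
  have e2 : h.tt η (g * a ^ 2 * b⁻¹) = h.τ η 7 :=
    tt_eq rη [1, 1, 1, 0, 1, 1, 1] [10, 6, 11, 5, 10, 0] 7 (by
      simp only [code_mulF, code_invF, code_powF, ha, hb, hg]; decide +kernel)
  have e3 : h.tt η (g * b⁻¹) = h.τ η 5 := tt_eq rη [] [9, 8, 0, 11, 11, 6, 0] 5 (by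
    simp only [code_mulF, code_invF, hb, hg]; decide +kernel)
  have e4 : h.lam a ^ 3 = 1 := by
    rw [← map_pow, show a ^ 3 = 1 by rw [eq_iff_code, code_powF, ha, code_one']; decide +kernel,
      map_one]
  obtain ⟨a1, a2, -⟩ := tet_spec (j := 2) (by norm_num) (by norm_num)
  obtain ⟨b1, b2, -⟩ := tet_spec (j := 7) (by norm_num) (by norm_num)
  obtain ⟨c1, c2, -⟩ := tet_spec (j := 5) (by norm_num) (by norm_num)
  have e5 : h.τ η 2 * h.τ η 7 * h.τ η 5 = z := by
    calc _ = η⁻¹ * (h.nu (setOf' (tet 2)) * h.nu (setOf' (tet 7)) * h.nu (setOf' (tet 5))) * η := by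
          rw [τ, τ, τ]; group
      _ = z := by
        rw [h.nu_xor a1 b1 a2 b2, h.nu_xor (xor_lt24 a1 b1) c1 (par_xor0 a2 b2) c2,
          nu_eq_z (xor_lt24 (xor_lt24 a1 b1) c1) (par_xor0 (par_xor0 a2 b2) c2) (by decide +kernel),
          mul_assoc, ← h.mem_H.1 rη.memH, inv_mul_cancel_left]
  rw [← e1, ← e2] at e5
  nth_rewrite 1 [← e3] at e5
  simp only [tt, map_mul, map_inv, map_pow] at e5
  have := h.toHM.mem_M.1 (inv_mem (h.lam_mem_M g)) _ (Set.mem_of_eq_of_mem e5 h.z_mem_V)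
  convert this using 1
  calc _ = (h.lam a * ((h.lam b)⁻¹ * h.τ η 5 * h.lam b)) ^ 2 * h.lam a * (h.lam a ^ 3)⁻¹ *
      ((h.lam b)⁻¹ * h.τ η 5 * h.lam b) := by rw [e4, pow_succ]; group
    _ = _ := by simp only [pow_succ]; group

omit rη in
open Cfsg.Agent.Comp.BN Cfsg.Agent.Comp.DCE Cfsg.Agent.Spor.J4C in
theorem exists_cover (h : MM z P) (hJ : IsJ4 Cfsg.Spor.J4) : ∃ (f : Cfsg.Spor.J4 ≃* G)
    (H : Subgroup Cfsg.Spor.J4) (xs : ℕ → Cfsg.Spor.J4 ⧸ H), (∀ a, f a ∈ h.M ↔ a ∈ H) ∧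
      H.index = 173067389 ∧ Cover H xs B.ns := by
  obtain ⟨f, η, rη, e1, e2, e3⟩ := h.exists_equiv hJ
  have hB : Bound B.PH 501397585920 := V.bound A.boundH V.implH
  have sat : Sat B.P J4C.x := A.imp A.boundH _ _ link.1.sat
  obtain ⟨ι, hι⟩ := B.exists_hom hB (B.implH _ _ sat)
  have hc := B.cover hB sat hι link.1.top
  have x0 : f (J4C.x 0) = h.lam (mc cX) := e1
  have x1 : f (J4C.x 1) = h.lam (mc cY) := e2
  have x2 : f (J4C.x 2) = (h.lam (mc cY))⁻¹ := by rw [← e2, ← map_inv]; rfl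
  have x3 : f (J4C.x 3) = h.τ η 5 := e3
  have hle : ι.range ≤ h.M.comap f.toMonoidHom := by
    rw [range_eq (B.mod hB).2.top hι, BN.gen, closure_le]
    rintro _ ⟨k, rfl⟩
    refine nth_prop (fun W => f (ev J4C.x W) ∈ h.M) [] B.wsH (by simp [one_mem]) (fun W hW => ?_) k
    simp only [B.wsH, List.mem_cons, List.not_mem_nil, or_false] at hW
    rcases hW with rfl | rfl | rfl | rfl <;>
      simp only [ev_cons, ev_nil, map_mul, mul_one, x0, x1, x2, x3]
    · exact h.lam_mem_M _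
    · exact h.lam_mem_M _
    · exact inv_mem (h.lam_mem_M _)
    have e4 : (h.lam (mc cX))⁻¹ = h.lam (mc cX) := by
      rw [← map_inv, eq_iff_code.2 (show code ((mc cX)⁻¹ : M24) = code (mc cX) by
        rw [code_invF, cdX]; decide +kernel)]
    have := h.V_le_M (rel3 rη cdY (b := mc cY * mc cX * mc cY * mc cX * mc cY * mc cX * mc cY *
      mc cX * (mc cY)⁻¹ * mc cX) (by simp only [code_mulF, code_invF, cdX, cdY]; decide +kernel))
    simpa only [pow_succ, pow_zero, one_mul, map_mul, map_inv, mul_inv_rev, inv_inv, e4, mul_assoc]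
      using this
  have hi : (h.M.comap f.toMonoidHom).index = 173067389 := by
    have := h.M.card_mul_index
    rw [h.card_M, h.card_G] at this
    rw [index_comap_of_surjective _ f.surjective]
    omega
  have hi' : ι.range.index = 173067389 := by
    have := hc.finite
    exact le_antisymm hc.index_le (hi ▸ Nat.le_of_dvd (Nat.pos_of_ne_zero index_ne_zero_of_finite)
      (index_dvd_of_le hle))
  refine ⟨f, _, _, fun a => ?_, hi', hc⟩
  rw [← relIndex_mul_index hle, hi] at hi'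
  rw [le_antisymm hle (relIndex_eq_one.1 (by omega))]
  rfl

end MM

open Cfsg.Agent.Comp.DCE in
theorem rank_seven [Finite G] (h : MM z P) (hJ : IsJ4 Cfsg.Spor.J4) {V : Subgroup G}
    (hV : IsElementaryAbelian 2 V) (hc : Nat.card V = 2 ^ 11) :
    (normalizer (V : Set G)).index = 173067389 ∧ ∃ c : Fin 7 → G ⧸ normalizer (V : Set G),
      (∀ i j : Fin 7, i ≠ j → MulAction.orbit (normalizer (V : Set G)) (c i) ≠
        MulAction.orbit (normalizer (V : Set G)) (c j)) ∧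
      (∀ q, ∃ i : Fin 7, q ∈ MulAction.orbit (normalizer (V : Set G)) (c i)) ∧
      (List.ofFn fun i => (MulAction.orbit (normalizer (V : Set G)) (c i)).ncard) =
        [1, 15180, 28336, 3400320, 32643072, 54405120, 82575360] := by
  obtain ⟨f, H, xs, e, hi, hc'⟩ := h.exists_cover hJ
  obtain ⟨g, rfl⟩ := h.exists_conj_V hV hc
  obtain ⟨φ, hφ⟩ := exists_quot_equiv_orbit (f.trans (MulAut.conj g)) (H := H)
    (N := normalizer (h.V.map (MulAut.conj g).toMonoidHom : Set G)) fun a => by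
      rw [normalizer_map_conj, mem_map_conj', ← e]
      simp [mul_assoc, HM.M]
  have key : ∀ i : Fin 7, (MulAction.orbit (normalizer (h.V.map (MulAut.conj g).toMonoidHom : Set G))
      (φ (xs i))).ncard = BN.nth 0 J4C.B.ns i := fun i => by
    rw [← hφ, Set.ncard_image_of_injective _ φ.injective, hc'.exact hi i.2]
  refine ⟨by rw [← hi]; exact Nat.card_congr φ.symm, fun i => φ (xs i), fun i j hij e => hij ?_,
    fun q => ?_, ?_⟩
  · have := key i
    rw [e, key j] at this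
    clear hij e
    revert i j
    decide
  · obtain ⟨i, hi, e⟩ := hc'.cov (φ.symm q)
    exact ⟨⟨i, hi⟩, hφ _ ▸ ⟨_, e, φ.apply_symm_apply q⟩⟩
  · simp only [key]
    rfl

end Cfsg.Agent.J4
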