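import Cfsg.Agent.J4.ClsA22
import Cfsg.Agent.Block.FixCount

/-! Facts on elements of order two and three in `M22`. -/

set_option autoImplicit false

namespace Cfsg.Agent.J4.Rc

open Cfsg Cfsg.Agent.Comp Cfsg.Agent.Spor Cfsg.Agent.Spor.M24C Subgroup Cl
open scoped Pointwise

/-- An element of order three. -/
def e3 : ℕ := 0xbd670b3e29339076b28b548a408c40
/-- An involution. -/
def e2 : ℕ := 0xbba69aca117d8ac42a8b399a320440
/-- An outer involution centralising `e3`. -/
def eo : ℕ := 0x5aa299c83539a65bc28930b185137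
/-- An involution centralising `e3`. -/
def v1 : ℕ := 0xbc133a49d67c46c12aa1398856ad00
/-- An involution centralising `e3`. -/
def v2 : ℕ := 0xbb5025c883796cc9a835399d185120

theorem ok3 : okM e3 = true := by decide +kernel
theorem ok2 : okM e2 = true := by decide +kernel

theorem mul_mem_of_not {g k : M24} (hg : g ∈ A22) (hk : k ∈ A22) (h1 : g ∉ M22') (h2 : k ∉ M22') :
    g * k ∈ M22' := by
  rw [← outC_eq_zero_iff hg] at h1
  rw [← outC_eq_zero_iff hk] at h2
  rw [← outC_eq_zero_iff (mul_mem hg hk), code_mul', outC_mul hg hk]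
  have := outC_lt (code (g : Equiv.Perm GolayPt))
  have := outC_lt (code (k : Equiv.Perm GolayPt))
  rw [show outC (code (g : Equiv.Perm GolayPt)) = 1 by omega,
    show outC (code (k : Equiv.Perm GolayPt)) = 1 by omega]
  rfl

theorem conj_e3 {g : M24} (hg : g ∈ M22') (h3 : orderOf g = 3) :
    ∃ y ∈ M22', y * mc e3 * y⁻¹ = g := by
  obtain ⟨x, hx, y, hy, rfl⟩ := cN_cover (M22'_le hg)
  have ox := cN_okM hx
  rw [show y * mc x.1 * y⁻¹ = MulAut.conj y (mc x.1) from rfl, MulEquiv.orderOf_eq] at h3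
  have h1 : powC x.1 3 = oneC := by
    rw [← code_mc ox, ← code_pow', ← h3, pow_orderOf_eq_one, code_one']
  have h2 : x.1 ≠ oneC := fun e => by
    rw [e, mc_oneC, orderOf_one] at h3
    omega
  have h4 := (allL_iff cN fun x => or' (not' (Nat.beq (powC x.1 3) oneC))
    (or' (Nat.beq x.1 oneC) (Nat.beq x.1 e3))).1 (by decide +kernel) x hx
  simp only [or'_eq_true, not'_eq_true, beq_iff] at h4
  rw [((h4.resolve_left (not_not.2 h1)).resolve_left h2 :)]
  by_cases hM : y ∈ M22'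
  · exact ⟨y, hM, rfl⟩
  · have oo : okM eo = true := by decide +kernel
    have ho : mc eo ∈ A22 := mc_mem_A22 (by decide +kernel)
    refine ⟨y * mc eo, mul_mem_of_not hy ho hM ?_, ?_⟩
    · rw [← outC_eq_zero_iff ho, code_mc oo]; decide +kernel
    · have : mc eo * mc e3 * (mc eo)⁻¹ = mc e3 := by
        rw [eq_iff_code, code_conj', code_mc oo, code_mc ok3]; decide +kernel
      conv_rhs => rw [← this]
      group

theorem conj_three {g g' : M24} (hg : g ∈ M22') (h3 : orderOf g = 3) (hg' : g' ∈ M22')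
    (h3' : orderOf g' = 3) : ∃ y ∈ M22', y * g * y⁻¹ = g' := by
  obtain ⟨y, hy, rfl⟩ := conj_e3 hg h3
  obtain ⟨y', hy', rfl⟩ := conj_e3 hg' h3'
  exact ⟨y' * y⁻¹, mul_mem hy' (inv_mem hy), by group⟩

theorem conj_e2 {g : M24} (hg : g ∈ M22') (h2 : g * g = 1) (h1 : g ≠ 1) :
    ∃ y ∈ A22, y * mc e2 * y⁻¹ = g := by
  obtain ⟨x, hx, y, hy, rfl⟩ := cN_cover (M22'_le hg)
  have ox := cN_okM hx
  have e1 : mulC x.1 x.1 = oneC := by
    rw [← code_mc ox, ← code_mul', ← code_one', ← eq_iff_code]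
    calc _ = y⁻¹ * (y * mc x.1 * y⁻¹ * (y * mc x.1 * y⁻¹)) * y := by group
      _ = 1 := by rw [h2]; group
  have e2' : x.1 ≠ oneC := fun e => h1 (by rw [e, mc_oneC]; group)
  have e3' : outC x.1 = 0 := by
    have := conj_mem_M22' (inv_mem hy) hg
    rw [show y⁻¹ * (y * mc x.1 * y⁻¹) * y⁻¹⁻¹ = mc x.1 by group,
      ← outC_eq_zero_iff (mc_mem_A22 (cN_okS hx)), code_mc ox] at this
    exact this
  have h4 := (allL_iff cN fun x => or' (not' (Nat.beq (mulC x.1 x.1) oneC))
    (or' (Nat.beq x.1 oneC) (or' (not' (Nat.beq (outC x.1) 0)) (Nat.beq x.1 e2)))).1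
    (by decide +kernel) x hx
  simp only [or'_eq_true, not'_eq_true, beq_iff] at h4
  rw [(((h4.resolve_left (not_not.2 e1)).resolve_left e2').resolve_left (not_not.2 e3') :)]
  exact ⟨y, hy, rfl⟩

theorem card_cent_dvd {g : M24} (hg : g ∈ M22') (h2 : g * g = 1) (h1 : g ≠ 1) :
    Nat.card ↥(M22' ⊓ centralizer {g}) ∣ 384 := by
  obtain ⟨y, hy, rfl⟩ := conj_e2 hg h2 h1
  have a1 : Nat.card ↥(M22' ⊓ centralizer {y * mc e2 * y⁻¹}) ∣ 443520 :=
    card_M22' ▸ card_dvd_of_le inf_le_left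
  have a2 : Nat.card ↥(M22' ⊓ centralizer {y * mc e2 * y⁻¹}) ∣ 768 := by
    have b1 : Nat.card ↥(A22 ⊓ centralizer {mc e2}) = 768 :=
      cN_card (x := (e2, 768)) (by simp [cN, e2])
    rw [← b1, ← card_map_of_injective (f := (MulAut.conj y).toMonoidHom)
      (K := A22 ⊓ centralizer {mc e2}) (MulAut.conj y).injective]
    refine card_dvd_of_le fun x hx => ⟨y⁻¹ * x * y, ⟨A22.mul_mem (A22.mul_mem (A22.inv_mem hy)
      (M22'_le hx.1)) hy, LA.mem_cent.2 ?_⟩, by simp [mul_assoc]⟩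
    have := LA.mem_cent.1 hx.2
    calc _ = y⁻¹ * (x * (y * mc e2 * y⁻¹)) * y := by group
      _ = _ := by rw [this]; group
  exact Nat.dvd_gcd a1 a2

theorem card_fix_invol {g : M24} (hg : g ∈ M22') (h2 : g * g = 1) (h1 : g ≠ 1) :
    (fixSet g).card = 8 := by
  obtain ⟨y, -, rfl⟩ := conj_e2 hg h2 h1
  refine (card_fixSet_conj (y : Equiv.Perm GolayPt) _).trans ?_
  rw [card_fixSet_mc ok2]
  decide +kernel

/-- `M22` has no elementary abelian subgroup of order 32. -/
theorem card_ne_32 {T : Subgroup M24} (hT : T ≤ M22') (h2 : ∀ x ∈ T, x * x = 1) :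
    Nat.card T ≠ 32 := fun h => by
  classical
  have := Fintype.ofFinite T
  have := Fintype.ofFinite (Quotient (MulAction.orbitRel T GolayPt))
  have e := MulAction.sum_card_fixedBy_eq_card_orbits_mul_card_group T GolayPt
  have e1 : ∀ g : T, Fintype.card (MulAction.fixedBy GolayPt g) = if g = 1 then 24 else 8 :=
    fun g => by
      have : Fintype.card (MulAction.fixedBy GolayPt g) = (fixSet (g : M24)).card := by
        rw [← Set.toFinset_card]
        congr 1
        ext p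
        rw [mem_fixSet, Set.mem_toFinset]
        rfl
      rw [this]
      split_ifs with h1
      · subst h1
        rw [show ((1 : T) : M24) = mc oneC from mc_oneC.symm, card_fixSet_mc (by decide +kernel)]
        decide +kernel
      · exact card_fix_invol (hT g.2) (h2 _ g.2) fun e => h1 (Subtype.ext e)
  rw [Finset.sum_congr rfl fun g _ => e1 g, Finset.sum_ite, Finset.sum_const, Finset.sum_const,
    Finset.filter_eq', if_pos (Finset.mem_univ _), Finset.filter_ne', Finset.card_erase_of_mem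
    (Finset.mem_univ _), Finset.card_univ, ← Nat.card_eq_fintype_card, h] at e
  simp only [Finset.card_singleton, smul_eq_mul] at e
  omega

theorem exists_other {a t : M24} (ha : a ∈ M22') (h3 : orderOf a = 3) (ht : t ∈ M22')
    (h2 : t * t = 1) (hc : a * t = t * a) :
    ∃ w ∈ M22', w * w = 1 ∧ w * a = a * w ∧ w * t = t * w ∧ w ≠ 1 ∧ w ≠ t := by
  obtain ⟨y, hy, rfl⟩ := conj_e3 ha h3
  obtain ⟨t, rfl⟩ : ∃ s, t = y * s * y⁻¹ := ⟨y⁻¹ * t * y, by group⟩
  have ht' : t ∈ M22' := by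
    have := mul_mem (mul_mem (inv_mem hy) ht) hy
    rwa [show y⁻¹ * (y * t * y⁻¹) * y = t by group] at this
  have h2' : t * t = 1 := by
    calc _ = y⁻¹ * (y * t * y⁻¹ * (y * t * y⁻¹)) * y := by group
      _ = 1 := by rw [h2]; group
  have hc' : t * mc e3 * t⁻¹ = mc e3 := by
    calc _ = y⁻¹ * (y * t * y⁻¹ * (y * mc e3 * y⁻¹)) * y * t⁻¹ := by group
      _ = _ := by rw [← hc]; group
  suffices ∃ w ∈ M22', w * w = 1 ∧ w * mc e3 = mc e3 * w ∧ w * t = t * w ∧ w ≠ 1 ∧ w ≠ t by
    obtain ⟨w, hw, a1, a2, a3, a4, a5⟩ := this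
    refine ⟨y * w * y⁻¹, mul_mem (mul_mem hy hw) (inv_mem hy), ?_, ?_, ?_, ?_, ?_⟩
    · calc _ = y * (w * w) * y⁻¹ := by group
        _ = 1 := by rw [a1]; group
    · calc _ = y * (w * mc e3) * y⁻¹ := by group
        _ = _ := by rw [a2]; group
    · calc _ = y * (w * t) * y⁻¹ := by group
        _ = _ := by rw [a3]; group
    · simpa using a4
    · simpa using a5
  have h4 := chainA.forall_conj ok3 ok3 (fun c => or' (not' (Nat.beq (mulC c c) oneC))
    (or' (not' (Nat.beq (outC c) 0)) (or' (and' (Nat.beq (mulC v1 c) (mulC c v1))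
      (not' (Nat.beq v1 c))) (and' (Nat.beq (mulC v2 c) (mulC c v2)) (not' (Nat.beq v2 c))))))
    (by decide +kernel) t (M22'_le ht') hc'
  simp only [or'_eq_true, and'_eq_true, not'_eq_true, beq_iff] at h4
  have key : ∀ v, and' (and' (okM v) (Nat.beq (Nat.land 8388609 (fixC v)) 8388609))
      (and' (Nat.beq (mulC v v) oneC) (and' (Nat.beq (mulC v e3) (mulC e3 v))
        (not' (Nat.beq v oneC)))) = true →
      mulC v (code (t : Equiv.Perm GolayPt)) = mulC (code (t : Equiv.Perm GolayPt)) v ∧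
        ¬ v = code (t : Equiv.Perm GolayPt) →
      ∃ w ∈ M22', w * w = 1 ∧ w * mc e3 = mc e3 * w ∧ w * t = t * w ∧ w ≠ 1 ∧ w ≠ t := by
    intro v h b
    rw [and'_eq_true] at h
    have ov : okM v = true := ((and'_eq_true _ _).1 h.1).1
    have h5 := h.2
    simp only [and'_eq_true, not'_eq_true, beq_iff] at h5
    refine ⟨mc v, mc_mem_M22' h.1, ?_⟩
    simp only [ne_eq, eq_iff_code, code_mul', code_mc ov, code_mc ok3, code_one']
    exact ⟨h5.1, h5.2.1, b.1, h5.2.2, b.2⟩
  rcases (h4.resolve_left (not_not.2 (by rw [← code_mul', h2', code_one']))).resolve_left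
    (not_not.2 ((outC_eq_zero_iff (M22'_le ht')).2 ht')) with h | h
  exacts [key v1 (by decide +kernel) h, key v2 (by decide +kernel) h]

/-- A 2-subgroup of `M22` on which an element of order three fixes only a central involution. -/
theorem card_cases {T : Subgroup M24} (hT : T ≤ M22') (hp : IsPGroup 2 T) {t a : M24} (ht : t ∈ T)
    (h2 : t * t = 1) (h1 : t ≠ 1) (hc : ∀ x ∈ T, x * t = t * x) (ha : a ∈ M22')
    (h3 : orderOf a = 3) (hat : a * t = t * a) (hn : ∀ x ∈ T, a * x * a⁻¹ ∈ T)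
    (hf : ∀ x ∈ T, x * a = a * x → x = 1 ∨ x = t) : Nat.card T ∣ 32 := by
  have : Fact (Nat.Prime 3) := ⟨by norm_num⟩
  have hX := card_cent_dvd (hT ht) h2 h1
  set X : Subgroup M24 := M22' ⊓ centralizer {t}
  have hTX : T ≤ X := fun x hx => ⟨hT hx, LA.mem_cent.2 (hc x hx)⟩
  have haN : a ∈ normalizer (T : Set M24) := mem_normalizer_fintype hn
  obtain ⟨n, hn'⟩ := IsPGroup.iff_card.1 hp
  have m3 : Nat.card T ≡ 2 [MOD 3] := by
    have e := Block.card_modEq_card_centralizer (P := zpowers a) (p := 3)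
      (IsPGroup.of_card (n := 1) (by rw [Nat.card_zpowers, h3, pow_one])) (· ∈ T) fun u hu x hx =>
        ((zpowers_le.2 haN : zpowers a ≤ _) hu x).1 hx
    refine e.trans ?_
    rw [show Nat.card {x // x ∈ T ∧ x ∈ centralizer (zpowers a : Set M24)} =
      ({1, t} : Set M24).ncard from ?_, Set.ncard_pair h1.symm]
    rw [← Nat.card_coe_set_eq]
    refine Nat.card_congr (Equiv.subtypeEquivRight fun x => ?_)
    rw [TT.centralizer_zpowers_eq, LA.mem_cent]
    refine ⟨fun h => hf x h.1 h.2, ?_⟩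
    rintro (rfl | rfl)
    exacts [⟨one_mem _, by simp⟩, ⟨ht, hat.symm⟩]
  have d7 : n ≤ 7 := by
    by_contra h
    have := (pow_dvd_pow 2 (by omega : 8 ≤ n)).trans (hn' ▸ (card_dvd_of_le hTX).trans hX)
    omega
  have n7 : n ≠ 7 := fun e => by
    subst e
    obtain ⟨w, hw, a1, a2, a3, a4, a5⟩ := exists_other ha h3 (hT ht) h2 hat
    have hwX : w ∈ X := ⟨hw, LA.mem_cent.2 a3⟩
    have hN : X ⊓ normalizer (T : Set M24) = X := by
      refine eq_of_le_of_card_ge inf_le_left (Nat.le_of_dvd Nat.card_pos (hX.trans ?_))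
      refine Nat.Coprime.mul_dvd_of_dvd_of_dvd (m := 2 ^ 7) (n := 3) (by norm_num)
        (hn' ▸ card_dvd_of_le (le_inf hTX le_normalizer)) ?_
      rw [← h3]
      exact orderOf_dvd_natCard _ ⟨⟨ha, LA.mem_cent.2 hat⟩, haN⟩
    have hwN : zpowers w ≤ normalizer (T : Set M24) := zpowers_le.2 (hN.ge hwX).2
    have hp' : IsPGroup 2 (zpowers w ⊔ T : Subgroup M24) :=
      IsPGroup.to_sup_of_normal_right' (IsPGroup.of_card (n := 1) (by
        rw [Nat.card_zpowers, orderOf_eq_prime (by rw [pow_two, a1]) a4, pow_one])) hp hwN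
    obtain ⟨m, hm⟩ := IsPGroup.iff_card.1 hp'
    have d1 := (card_dvd_of_le (sup_le (zpowers_le.2 hwX) hTX)).trans hX
    have : m ≤ 7 := by
      by_contra h
      have := (pow_dvd_pow 2 (by omega : 8 ≤ m)).trans (hm ▸ d1)
      omega
    have e : T = zpowers w ⊔ T := eq_of_le_of_card_ge le_sup_right (by
      rw [hm, hn']; exact Nat.pow_le_pow_right (by norm_num) this)
    rcases hf w (e ▸ mem_sup_left (mem_zpowers w)) a2 with h | h
    exacts [a4 h, a5 h]
  rw [hn'] at m3 ⊢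
  have : n ≤ 6 := by omega
  interval_cases n <;> first | decide | exact absurd m3 (by decide)

end Cfsg.Agent.J4.Rc
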