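import Cfsg.Agent.J4.Rec1
import Cfsg.Agent.J4.Conv
import Cfsg.Agent.LES.OddUtil
import Cfsg.Agent.Fus.EssSmall

/-! Groups with an element of order three whose centraliser is `6 · M22`. -/

set_option autoImplicit false

namespace Cfsg.Agent.J4.Rc

open Cfsg Cfsg.Agent.Comp Cfsg.Agent.Spor Cfsg.Agent.Spor.M24C Subgroup
open scoped commutatorElement

variable {G : Type*} [Group G]

/-- The centraliser of `d` is a perfect central extension of `M22` by `⟨d⟩ × ⟨z⟩`. -/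
structure Six (d z : G) where
  /-- the map onto `M22` -/
  π : G → M24
  d_ord : orderOf d = 3
  z_ord : orderOf z = 2
  zc : ∀ k, k * d = d * k → k * z = z * k
  zd : z * d = d * z
  π_mul : ∀ a b, a * d = d * a → b * d = d * b → π (a * b) = π a * π b
  mem : ∀ k, k * d = d * k → π k ∈ M22'
  surj : ∀ g ∈ M22', ∃ k, k * d = d * k ∧ π k = g
  ker : ∀ k, k * d = d * k → (π k = 1 ↔ ∃ p ∈ zpowers d, k = p ∨ k = p * z)
  perf : centralizer ({d} : Set G) ≤ ⁅centralizer ({d} : Set G), centralizer ({d} : Set G)⁆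

theorem comm_mul_central' {a b k l : G} (h1 : Commute k b) (h2 : Commute k l) (h3 : Commute l a) :
    ⁅a * k, b * l⁆ = ⁅a, b⁆ := by
  calc _ = a * (k * (b * l) * k⁻¹) * a⁻¹ * l⁻¹ * b⁻¹ := by group
    _ = a * b * (l * a⁻¹ * l⁻¹) * b⁻¹ := by rw [(h1.mul_right h2).eq]; group
    _ = _ := by rw [h3.inv_right.eq]; group

theorem mc' {a g : G} : g ∈ centralizer ({a} : Set G) ↔ g * a = a * g := LA.mem_cent

namespace Six

variable {d z : G} (h : Six d z)

/-- The map onto `M22` as a homomorphism. -/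
def hom : centralizer ({d} : Set G) →* M24 :=
  MonoidHom.mk' (fun k => h.π k) fun a b => h.π_mul _ _ (mc'.1 a.2) (mc'.1 b.2)

theorem hom_apply (k : centralizer ({d} : Set G)) : h.hom k = h.π k := rfl

theorem π_one : h.π 1 = 1 := h.hom.map_one

theorem π_inv {a : G} (ha : a * d = d * a) : h.π a⁻¹ = (h.π a)⁻¹ := h.hom.map_inv ⟨a, mc'.2 ha⟩

theorem π_pow {a : G} (ha : a * d = d * a) (n : ℕ) : h.π (a ^ n) = h.π a ^ n :=
  h.hom.map_pow ⟨a, mc'.2 ha⟩ n

theorem π_conj {a b : G} (ha : a * d = d * a) (hb : b * d = d * b) :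
    h.π (a * b * a⁻¹) = h.π a * h.π b * (h.π a)⁻¹ := by
  rw [h.π_mul _ _ (mc'.1 (mul_mem (mc'.2 ha) (mc'.2 hb))) (mc'.1 (inv_mem (mc'.2 ha))),
    h.π_mul _ _ ha hb, h.π_inv ha]

include h

theorem z_sq : z * z = 1 := (orderOf_two_iff.1 h.z_ord).2

theorem z_ne : z ≠ 1 := (orderOf_two_iff.1 h.z_ord).1

theorem d_ne : d ≠ 1 := (orderOf_three_iff.1 h.d_ord).1

theorem d_cube : d ^ 3 = 1 := by rw [← h.d_ord, pow_orderOf_eq_one]

theorem cube_of_mem {p : G} (hp : p ∈ zpowers d) : p ^ 3 = 1 :=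
  orderOf_dvd_iff_pow_eq_one.1 (h.d_ord ▸ orderOf_dvd_of_mem_zpowers hp)

omit h in
theorem comm_of_mem {p k : G} (hp : p ∈ zpowers d) (hk : k * d = d * k) : Commute p k := by
  obtain ⟨n, rfl⟩ := hp
  exact (Commute.symm hk).zpow_left n

theorem central {c k : G} (hc : c * d = d * c) (e : h.π c = 1) (hk : k * d = d * k) :
    Commute c k := by
  obtain ⟨p, hp, rfl | rfl⟩ := (h.ker c hc).1 e
  exacts [comm_of_mem hp hk, (comm_of_mem hp hk).mul_left (h.zc k hk).symm]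

theorem ker_three {c : G} (hc : c * d = d * c) (e : h.π c = 1) {n : ℕ} (hn : Odd n)
    (h3 : c ^ n = 1) : c ∈ zpowers d := by
  obtain ⟨p, hp, rfl | rfl⟩ := (h.ker c hc).1 e
  · exact hp
  · exfalso
    obtain ⟨m, rfl⟩ := hn
    have := congrArg (· ^ 3) h3
    simp only [← pow_mul, one_pow] at this
    rw [(comm_of_mem hp h.zd).mul_pow, mul_comm _ 3, pow_mul, h.cube_of_mem hp, one_pow, one_mul,
      show 3 * (2 * m + 1) = 2 * (3 * m + 1) + 1 by ring, pow_succ, pow_mul, pow_two, h.z_sq,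
      one_pow, one_mul] at this
    exact h.z_ne this

theorem ker_two {c : G} (hc : c * d = d * c) (e : h.π c = 1) {n : ℕ} (h2 : c ^ 2 ^ n = 1) :
    c = 1 ∨ c = z := by
  have key : ∀ p ∈ zpowers d, p ^ 2 ^ (n + 1) = 1 → p = 1 := fun p hp e =>
    pow_eq_one_iff_of_coprime (Nat.Coprime.pow_left (n + 1) (by norm_num : Nat.Coprime 2 3)) |>.1
      ⟨e, h.cube_of_mem hp⟩
  have h3 : c ^ 2 ^ (n + 1) = 1 := by rw [pow_succ, pow_mul, h2, one_pow]
  obtain ⟨p, hp, rfl | rfl⟩ := (h.ker c hc).1 e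
  · exact Or.inl (key _ hp h3)
  · rw [(comm_of_mem hp h.zd).mul_pow, pow_succ' 2, pow_mul z, pow_two, h.z_sq, one_pow, mul_one,
      ← pow_succ'] at h3
    rw [key _ hp h3, one_mul]
    exact Or.inr rfl

theorem π_d : h.π d = 1 := (h.ker d rfl).2 ⟨d, mem_zpowers d, Or.inl rfl⟩

theorem π_z : h.π z = 1 := (h.ker z h.zd).2 ⟨1, one_mem _, Or.inr (one_mul _).symm⟩

theorem range_hom : h.hom.range = M22' := by
  ext g
  refine ⟨?_, fun hg => ?_⟩
  · rintro ⟨k, rfl⟩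
    exact h.mem _ (mc'.1 k.2)
  · obtain ⟨k, hk, rfl⟩ := h.surj g hg
    exact ⟨⟨k, mc'.2 hk⟩, rfl⟩

theorem normal_cases {L : Subgroup G} (hL : ∀ k, k * d = d * k → ∀ l ∈ L, k * l * k⁻¹ ∈ L) :
    (∀ l ∈ L, l * d = d * l → h.π l = 1) ∨ centralizer ({d} : Set G) ≤ L := by
  have := isSimpleGroup_M22'
  let A : Subgroup M22' := ((L.subgroupOf (centralizer {d})).map h.hom).subgroupOf M22'
  have hA : A.Normal := ⟨by
    rintro ⟨_, h0⟩ ⟨l, hl, rfl⟩ ⟨g, hg⟩
    obtain ⟨k, hk, rfl⟩ := h.surj g hg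
    exact ⟨⟨k, mc'.2 hk⟩ * l * (⟨k, mc'.2 hk⟩)⁻¹, hL k hk _ hl, by
      rw [map_mul, map_mul, map_inv]; rfl⟩⟩
  rcases hA.eq_bot_or_eq_top with e | e
  · exact Or.inl fun l hl hd => congrArg Subtype.val
      (mem_bot.1 (e.le (show (⟨h.π l, h.mem l hd⟩ : M22') ∈ A from ⟨⟨l, mc'.2 hd⟩, hl, rfl⟩)))
  · have key : ∀ k, k * d = d * k → ∃ l ∈ L, l * d = d * l ∧ ∃ c, c * d = d * c ∧ h.π c = 1 ∧
        k = l * c := fun k hk => by
      obtain ⟨l, hl, e'⟩ : (⟨h.π k, h.mem k hk⟩ : M22') ∈ A := e ▸ mem_top _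
      have h1 := mc'.1 (inv_mem l.2)
      refine ⟨l, hl, mc'.1 l.2, (l : G)⁻¹ * k, mc'.1 (mul_mem (inv_mem l.2) (mc'.2 hk)), ?_,
        by group⟩
      rw [h.π_mul _ _ h1 hk, h.π_inv (mc'.1 l.2), inv_mul_eq_one]
      exact e'
    refine Or.inr (h.perf.trans (commutator_le.2 fun a ha b hb => ?_))
    obtain ⟨l, hl, l1, c, c1, c2, rfl⟩ := key a (mc'.1 ha)
    obtain ⟨l', hl', l1', c', c1', c2', rfl⟩ := key b (mc'.1 hb)
    rw [comm_mul_central' (h.central c1 c2 l1') (h.central c1 c2 c1') (h.central c1' c2' l1)]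
    exact mul_mem (mul_mem (mul_mem hl hl') (inv_mem hl)) (inv_mem hl')

theorem not_mem_two {O : Subgroup G} (hO : IsPGroup 2 O) {p : G} (hp : p ∈ zpowers d)
    (h1 : p ∈ O) : p = 1 :=
  TT.eq_one_of_mem_odd_of_isPGroup (by rw [Nat.card_zpowers, h.d_ord]; decide) hO hp h1

theorem normal_two {O : Subgroup G} (hO : IsPGroup 2 O)
    (hn : ∀ k, k * d = d * k → ∀ l ∈ O, k * l * k⁻¹ ∈ O) {o : G} (ho : o ∈ O)
    (hd : o * d = d * o) : o = 1 ∨ o = z := by
  rcases h.normal_cases hn with e | e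
  · obtain ⟨n, hn⟩ := hO ⟨o, ho⟩
    exact h.ker_two hd (e o ho hd) (congrArg Subtype.val hn)
  · exact absurd (h.not_mem_two hO (mem_zpowers d) (e (mc'.2 rfl))) h.d_ne

theorem conj_cases {n : G} (hn : n ∈ normalizer (zpowers d : Set G)) :
    n * d = d * n ∨ n * d * n⁻¹ = d⁻¹ := by
  rcases (JF.mem_zpowers_three h.d_ord).1 ((hn d).1 (mem_zpowers d)) with e | e | e
  · exact absurd (by simpa using e) h.d_ne
  · exact Or.inl (by rw [← e, inv_mul_cancel_right, e])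
  · refine Or.inr (e.trans (eq_inv_of_mul_eq_one_left ?_))
    rw [← h.d_cube, pow_three, mul_assoc]

omit h in
theorem conj_K {n k : G} (e : n * d = d * n ∨ n * d * n⁻¹ = d⁻¹) (hk : k * d = d * k) :
    n * k * n⁻¹ * d = d * (n * k * n⁻¹) := by
  rcases e with e | e
  · exact mc'.1 (mul_mem (mul_mem (mc'.2 e) (mc'.2 hk)) (inv_mem (mc'.2 e)))
  · have : Commute (n * k * n⁻¹) d⁻¹ := by
      rw [← e]
      change _ * _ = _ * _
      calc _ = n * (k * d) * n⁻¹ := by group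
        _ = _ := by rw [hk]; group
    exact (Commute.inv_right_iff.1 this).eq

omit h in
theorem inv_cases {n : G} (e : n * d = d * n ∨ n * d * n⁻¹ = d⁻¹) :
    n⁻¹ * d = d * n⁻¹ ∨ n⁻¹ * d * n⁻¹⁻¹ = d⁻¹ := by
  rcases e with e | e
  · exact Or.inl (mc'.1 (inv_mem (mc'.2 e)))
  · refine Or.inr ?_
    calc _ = n⁻¹ * (d⁻¹)⁻¹ * n := by group
      _ = n⁻¹ * (n * d * n⁻¹)⁻¹ * n := by rw [e]
      _ = _ := by group

theorem comm_z {n : G} (e : n * d = d * n ∨ n * d * n⁻¹ = d⁻¹) : n * z = z * n := by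
  have h1 : ∀ k, k * d = d * k → Commute k (n * z * n⁻¹) := fun k hk => by
    have := h.zc _ (conj_K (inv_cases e) hk)
    change _ * _ = _ * _
    calc _ = n * (n⁻¹ * k * n⁻¹⁻¹ * z) * n⁻¹ := by group
      _ = _ := by rw [this]; group
  have h2 : orderOf (n * z * n⁻¹) = 2 := (MulEquiv.orderOf_eq (MulAut.conj n) z).trans h.z_ord
  rcases h.normal_two (O := zpowers (n * z * n⁻¹))
    (.of_card (n := 1) (by rw [Nat.card_zpowers, h2, pow_one])) (fun k hk l hl => by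
      obtain ⟨m, rfl⟩ := hl
      rw [((h1 k hk).zpow_right m).eq, mul_inv_cancel_right]
      exact ⟨m, rfl⟩) (mem_zpowers _) (h1 d rfl).symm with e' | e'
  · exact absurd (by simpa using e') h.z_ne
  · rw [← e', inv_mul_cancel_right, e']

/-- Transport along a conjugation. -/
def conj (g : G) : Six (g * d * g⁻¹) (g * z * g⁻¹) :=
  have key : ∀ k, k * (g * d * g⁻¹) = g * d * g⁻¹ * k → g⁻¹ * k * g * d = d * (g⁻¹ * k * g) :=
    fun k hk => by
      calc _ = g⁻¹ * (k * (g * d * g⁻¹)) * g := by group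
        _ = _ := by rw [hk]; group
  have key' : ∀ k, k * d = d * k → g * k * g⁻¹ * (g * d * g⁻¹) = g * d * g⁻¹ * (g * k * g⁻¹) :=
    fun k hk => by
      calc _ = g * (k * d) * g⁻¹ := by group
        _ = _ := by rw [hk]; group
  { π k := h.π (g⁻¹ * k * g)
    d_ord := (MulEquiv.orderOf_eq (MulAut.conj g) d).trans h.d_ord
    z_ord := (MulEquiv.orderOf_eq (MulAut.conj g) z).trans h.z_ord
    zc k hk := by
      calc _ = g * (g⁻¹ * k * g * z) * g⁻¹ := by group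
        _ = _ := by rw [h.zc _ (key k hk)]; group
    zd := key' z h.zd
    π_mul a b ha hb := by
      rw [← h.π_mul _ _ (key a ha) (key b hb)]
      exact congrArg _ (by group)
    mem k hk := h.mem _ (key k hk)
    surj x hx := by
      obtain ⟨k, hk, rfl⟩ := h.surj x hx
      exact ⟨g * k * g⁻¹, key' k hk, congrArg _ (by group)⟩
    ker k hk := by
      rw [h.ker _ (key k hk)]
      constructor
      · rintro ⟨_, ⟨n, rfl⟩, e⟩
        refine ⟨_, ⟨n, rfl⟩, ?_⟩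
        simp only [conj_zpow]
        rcases e with e | e
        exacts [Or.inl (by rw [← show _ = d ^ n from e]; group),
          Or.inr (by
            calc _ = g * (g⁻¹ * k * g) * g⁻¹ := by group
              _ = _ := by rw [show _ = d ^ n * z from e]; group)]
      · rintro ⟨_, ⟨n, rfl⟩, e⟩
        refine ⟨_, ⟨n, rfl⟩, ?_⟩
        simp only [conj_zpow] at e
        rcases e with rfl | rfl
        exacts [Or.inl (by group), Or.inr (by group)]
    perf k hk := by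
      have h1 : (centralizer ({d} : Set G)).map (MulAut.conj g).toMonoidHom ≤
          centralizer {g * d * g⁻¹} := by
        rintro _ ⟨a, ha, rfl⟩
        exact mc'.2 (key' a (mc'.1 ha))
      refine commutator_mono h1 h1 ?_
      rw [← map_commutator]
      exact ⟨_, h.perf (mc'.2 (key k (mc'.1 hk))), by simp [mul_assoc]⟩ }

/-- Restriction to a subgroup containing the centraliser. -/
def restrict {L : Subgroup G} (hL : centralizer ({d} : Set G) ≤ L) :
    Six (⟨d, hL (mc'.2 rfl)⟩ : L) ⟨z, hL (mc'.2 h.zd)⟩ where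
  π k := h.π k
  d_ord := (orderOf_coe _).symm.trans h.d_ord
  z_ord := (orderOf_coe _).symm.trans h.z_ord
  zc k hk := Subtype.ext (h.zc _ (congrArg Subtype.val hk))
  zd := Subtype.ext h.zd
  π_mul a b ha hb := h.π_mul _ _ (congrArg Subtype.val ha) (congrArg Subtype.val hb)
  mem k hk := h.mem _ (congrArg Subtype.val hk)
  surj x hx := by
    obtain ⟨k, hk, rfl⟩ := h.surj x hx
    exact ⟨⟨k, hL (mc'.2 hk)⟩, Subtype.ext hk, rfl⟩
  ker k hk := by
    rw [h.ker _ (congrArg Subtype.val hk)]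
    constructor
    · rintro ⟨_, ⟨n, rfl⟩, e⟩
      exact ⟨_, ⟨n, rfl⟩, e.imp (fun e => Subtype.ext e) fun e => Subtype.ext e⟩
    · rintro ⟨_, ⟨n, rfl⟩, e⟩
      exact ⟨_, ⟨n, rfl⟩, e.imp (congrArg Subtype.val) (congrArg Subtype.val)⟩
  perf k hk := by
    have h1 : (centralizer ({⟨d, hL (mc'.2 rfl)⟩} : Set L)).map L.subtype = centralizer {d} := by
      refine le_antisymm ?_ fun a ha => ⟨⟨a, hL ha⟩, mc'.2 (Subtype.ext (mc'.1 ha)), rfl⟩
      rintro _ ⟨a, ha, rfl⟩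
      exact mc'.2 (congrArg Subtype.val (mc'.1 ha))
    have h2 := h.perf (mc'.2 (congrArg Subtype.val (mc'.1 hk)))
    rw [← h1, ← map_commutator] at h2
    obtain ⟨k', hk', e⟩ := h2
    exact Subtype.ext e ▸ hk'

theorem card_K : Nat.card (centralizer ({d} : Set G)) = 2661120 := by
  have h1 : h.hom.ker.map (centralizer ({d} : Set G)).subtype = zpowers d ⊔ zpowers z := by
    have hn : zpowers z ≤ normalizer (zpowers d : Set G) := zpowers_le.2
      (centralizer_le_normalizer _ (by rw [TT.centralizer_zpowers_eq]; exact mc'.2 h.zd))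
    ext k
    rw [JF.mem_sup_iff hn]
    constructor
    · rintro ⟨k, hk, rfl⟩
      obtain ⟨p, hp, e | e⟩ := (h.ker k (mc'.1 k.2)).1 hk
      exacts [⟨p, hp, 1, one_mem _, by rw [mul_one]; exact e⟩, ⟨p, hp, z, mem_zpowers z, e⟩]
    · rintro ⟨p, hp, c, hc, rfl⟩
      have hd : p * d = d * p := (comm_of_mem hp rfl).eq
      rcases (TT.mem_zpowers_invol h.z_sq).1 hc with rfl | rfl
      · exact ⟨⟨p, mc'.2 hd⟩, (h.ker p hd).2 ⟨p, hp, Or.inl rfl⟩, (mul_one _).symm⟩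
      · exact ⟨⟨_, mul_mem (mc'.2 hd) (mc'.2 h.zd)⟩, (h.ker _ (mc'.1 (mul_mem (mc'.2 hd)
          (mc'.2 h.zd)))).2 ⟨p, hp, Or.inr rfl⟩, rfl⟩
  have h2 : Nat.card (zpowers d ⊔ zpowers z : Subgroup G) = 6 := by
    have e := Grp.card_sup_mul_card_inf_of_le_normalizer (H := zpowers d) (N := zpowers z)
      (zpowers_le.2 (centralizer_le_normalizer _ (by
        rw [TT.centralizer_zpowers_eq]; exact mc'.2 h.zd.symm)))
    rwa [disjoint_iff.1 (disjoint_of_coprime_natCard (by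
      rw [Nat.card_zpowers, Nat.card_zpowers, h.d_ord, h.z_ord]; norm_num)), card_bot,
      mul_one, Nat.card_zpowers, Nat.card_zpowers, h.d_ord, h.z_ord] at e
  rw [← h.hom.ker.card_mul_index, index_ker, h.range_hom, card_M22',
    ← card_map_of_injective (centralizer ({d} : Set G)).subtype_injective, h1, h2]

theorem orderOf_π {y : G} (hy : y * d = d * y) (h3 : orderOf y = 3) (hn : y ∉ zpowers d) :
    orderOf (h.π y) = 3 :=
  have e : y ^ 3 = 1 := h3 ▸ pow_orderOf_eq_one y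
  orderOf_eq_prime (hp := ⟨by norm_num⟩) (by rw [← h.π_pow hy, e, h.π_one])
    fun e' => hn (h.ker_three hy e' (by decide) e)

omit h in
theorem exists_sylow {Q : Subgroup G} (hQ : IsPGroup 3 Q) (hle : Q ≤ centralizer {d}) :
    ∃ R : Sylow 3 (centralizer ({d} : Set G)), ∀ q (hq : q ∈ Q), ⟨q, hle hq⟩ ∈ R := by
  obtain ⟨R, hR⟩ := (hQ.comap_subtype (K := centralizer ({d} : Set G))).exists_le_sylow
  exact ⟨R, fun q hq => hR hq⟩

variable [Finite G]

/-- The Sylow 3-subgroups of the centraliser. -/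
theorem sylow (R : Sylow 3 (centralizer ({d} : Set G))) :
    (⟨d, mc'.2 rfl⟩ : centralizer ({d} : Set G)) ∈ R ∧
    (∀ c ∈ R, (∀ r ∈ R, r * c = c * r) → (c : G) ∈ zpowers d) ∧
    ∀ a ∈ R, ∀ b ∈ R, ⁅(a : G), (b : G)⁆ ∈ zpowers d := by
  have : Fact (Nat.Prime 3) := ⟨by norm_num⟩
  set d' : centralizer ({d} : Set G) := ⟨d, mc'.2 rfl⟩
  have o3 : orderOf d' = 3 := (orderOf_coe _).symm.trans h.d_ord
  have hz : d' ∈ center _ := mem_center_iff.2 fun k => Subtype.ext (mc'.1 k.2)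
  have hR : Nat.card R = 3 ^ 3 := by
    rw [R.card_eq_multiplicity, h.card_K, show 2661120 = 3 ^ 3 * 98560 by norm_num,
      Nat.factorization_mul (by norm_num) (by norm_num), Nat.factorization_pow]
    simp [Nat.Prime.factorization_self Nat.prime_three,
      Nat.factorization_eq_zero_of_not_dvd (show ¬ 3 ∣ 98560 by norm_num)]
  have hd : d' ∈ R := by
    have : (zpowers d').Normal := ⟨fun n hn g => by
      rw [mem_center_iff.1 (zpowers_le.2 hz hn) g, mul_inv_cancel_right]; exact hn⟩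
    exact (IsPGroup.le_sylow_of_normal (N := zpowers d')
      (.of_card (n := 1) (by rw [Nat.card_zpowers, o3, pow_one])) R) (mem_zpowers _)
  have hna : ∃ x y : R, ⁅x, y⁆ ≠ 1 := by
    by_contra hc
    push Not at hc
    have hcm : d' ∈ commutator _ := by
      have h2 := h.perf d'.2
      rw [← map_subtype_commutator] at h2
      obtain ⟨k, hk, e⟩ := h2
      exact Subtype.ext e ▸ hk
    have h1 := Transfer.pow_index_mem_commutator_of_central (R : Subgroup _) hz hcm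
    have h2 : d' ^ (R : Subgroup (centralizer ({d} : Set G))).index = 1 :=
      mem_bot.1 ((commutator_le.2 fun x hx y hy => mem_bot.2
        (congrArg Subtype.val (hc ⟨x, hx⟩ ⟨y, hy⟩)) : _ ≤ ⊥) h1)
    exact R.not_dvd_index (o3.symm.dvd.trans (orderOf_dvd_of_pow_eq_one h2))
  refine ⟨hd, fun c hc hc' => ?_, fun a ha b hb => ?_⟩
  · have h1 := (Fus.AC.index_center_of_cube hR hna).2
    have h2 : zpowers (⟨d', hd⟩ : R) = center R := eq_of_le_of_card_ge (zpowers_le.2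
      (mem_center_iff.2 fun k => Subtype.ext (mem_center_iff.1 hz k)))
      (h1.trans (by rw [Nat.card_zpowers]; exact ((orderOf_coe _).symm.trans o3).symm)).le
    obtain ⟨n, hn⟩ : (⟨c, hc⟩ : R) ∈ zpowers (⟨d', hd⟩ : R) :=
      h2 ▸ mem_center_iff.2 fun k => Subtype.ext (hc' k k.2)
    exact ⟨n, congrArg (fun x : R => ((x : centralizer ({d} : Set G)) : G)) hn⟩
  · have h1 : Nat.card ((R : Subgroup _).map h.hom) ∣ 3 ^ 2 := by
      obtain ⟨n, hn⟩ := IsPGroup.iff_card.1 (R.isPGroup'.map h.hom)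
      have := card_dvd_of_le ((map_le_range h.hom (R : Subgroup _)).trans h.range_hom.le)
      rw [hn, card_M22'] at this
      rw [hn]
      refine pow_dvd_pow 3 ?_
      by_contra hc
      exact absurd ((pow_dvd_pow 3 (by omega : 3 ≤ n)).trans this) (by norm_num)
    have h2 := LES.comm_of_card_dvd_sq h1 ⟨a, ha, rfl⟩ ⟨b, hb, rfl⟩
    have h3 : ⁅a, b⁆ ∈ R := mul_mem (mul_mem (mul_mem ha hb) (inv_mem ha)) (inv_mem hb)
    obtain ⟨n, hn⟩ := R.isPGroup' ⟨_, h3⟩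
    refine h.ker_three (mc'.1 (⁅a, b⁆).2) ?_ (Odd.pow (by decide : Odd 3))
      (congrArg (fun x : R => ((x : centralizer ({d} : Set G)) : G)) hn)
    rw [← commutatorElement_eq_one_iff_mul_comm, ← map_commutatorElement] at h2
    exact h2

/-- A Sylow 3-subgroup of the group with centre generated by `d`. -/
theorem exists_sylow_G : ∃ S : Sylow 3 G, (S : Subgroup G) ≤ centralizer {d} ∧ d ∈ S ∧
    ∀ c ∈ S, (∀ r ∈ S, r * c = c * r) → c ∈ zpowers d := by
  have : Fact (Nat.Prime 3) := ⟨by norm_num⟩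
  obtain ⟨R⟩ : Nonempty (Sylow 3 (centralizer ({d} : Set G))) := inferInstance
  obtain ⟨h1, h2, -⟩ := h.sylow R
  obtain ⟨S, hS⟩ := (R.isPGroup'.map (centralizer ({d} : Set G)).subtype).exists_le_sylow
  have hd : d ∈ S := hS ⟨_, h1, rfl⟩
  have key : ∀ c ∈ S, (∀ r ∈ S, r * c = c * r) → c ∈ zpowers d := fun c hc hc' => by
    have e : (R : Subgroup _) = (S : Subgroup G).subgroupOf (centralizer {d}) :=
      (R.is_maximal' S.isPGroup'.comap_subtype fun r hr => hS ⟨r, hr, rfl⟩).symm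
    exact h2 ⟨c, mc'.2 (hc' d hd).symm⟩ (e.ge hc)
      fun r hr => Subtype.ext (hc' r (hS ⟨r, hr, rfl⟩))
  refine ⟨S, fun s hs => ?_, hd, key⟩
  obtain ⟨c, hc, o3, hc'⟩ := LA.exists_center_orderOf S.isPGroup'
    fun e => h.d_ne (mem_bot.1 (e ▸ hd))
  rw [← LA.cent_eq_of_mem (key c hc hc') (o3.trans h.d_ord.symm)]
  exact mc'.2 (hc' s hs)

theorem not_dvd_card : ¬ 3 ^ 4 ∣ Nat.card G := fun hc => by
  have : Fact (Nat.Prime 3) := ⟨by norm_num⟩
  obtain ⟨S, hS, -⟩ := h.exists_sylow_G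
  have := (S.pow_dvd_card_of_pow_dvd_card hc).trans (card_dvd_of_le hS)
  rw [h.card_K] at this
  norm_num at this

theorem exists_conj_mul {y : G} (hy : y * d = d * y) (h3 : orderOf y = 3) (hn : y ∉ zpowers d)
    {p : G} (hp : p ∈ zpowers d) : ∃ r, r * d = d * r ∧ r * y * r⁻¹ = y * p := by
  obtain ⟨R, hR⟩ := exists_sylow (Q := zpowers y)
    (.of_card (n := 1) (by rw [Nat.card_zpowers, h3, pow_one])) (zpowers_le.2 (mc'.2 hy))
  obtain ⟨-, h2, h4⟩ := h.sylow R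
  have hyR := hR y (mem_zpowers y)
  obtain ⟨r, hr, e⟩ : ∃ r ∈ R, r * ⟨y, mc'.2 hy⟩ ≠ ⟨y, mc'.2 hy⟩ * r := by
    by_contra hc
    push Not at hc
    exact hn (h2 _ hyR hc)
  have h5 := h4 _ hr _ hyR
  have h6 : (⁅(r : G), y⁆) ≠ 1 := fun e' =>
    e (Subtype.ext (commutatorElement_eq_one_iff_mul_comm.1 e'))
  set c : G := ⁅(r : G), y⁆ with hc
  have h7 : (r : G) * y * (r : G)⁻¹ = y * c := by
    rw [← (comm_of_mem h5 hy).eq, hc]; group
  have h8 : ∀ n : ℕ, (r : G) ^ n * y * ((r : G) ^ n)⁻¹ = y * c ^ n := fun n => by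
    induction n with
    | zero => simp
    | succ n ih =>
      calc _ = r * ((r : G) ^ n * y * ((r : G) ^ n)⁻¹) * (r : G)⁻¹ := by group
        _ = (r * y * (r : G)⁻¹) * (r * c ^ n * (r : G)⁻¹) := by rw [ih]; group
        _ = _ := by
          rw [h7, ← (Commute.pow_left (show Commute c r from comm_of_mem h5 (mc'.1 r.2)) n).eq]
          group
  have o3 : orderOf c = 3 := orderOf_eq_prime (hp := ⟨by norm_num⟩) (h.cube_of_mem h5) h6
  rw [← LA.zpowers_eq_of_mem h5 (o3.trans h.d_ord.symm), ← mem_powers_iff_mem_zpowers] at hp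
  obtain ⟨n, rfl⟩ := hp
  exact ⟨r ^ n, mc'.1 (pow_mem r.2 n), h8 n⟩

theorem conj_three {y y' : G} (hy : y * d = d * y) (h3 : orderOf y = 3) (hn : y ∉ zpowers d)
    (hy' : y' * d = d * y') (h3' : orderOf y' = 3) (hn' : y' ∉ zpowers d) :
    ∃ k, k * d = d * k ∧ k * y * k⁻¹ = y' := by
  obtain ⟨g, hg, e⟩ := Rc.conj_three (h.mem _ hy') (h.orderOf_π hy' h3' hn') (h.mem _ hy)
    (h.orderOf_π hy h3 hn)
  obtain ⟨k, hk, rfl⟩ := h.surj g hg
  have h1 := conj_K (Or.inl hk) hy'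
  have h2 := mc'.1 (mul_mem (inv_mem (mc'.2 hy)) (mc'.2 h1))
  have h4 : h.π (y⁻¹ * (k * y' * k⁻¹)) = 1 := by
    rw [h.π_mul _ _ (mc'.1 (inv_mem (mc'.2 hy))) h1, h.π_inv hy, h.π_conj hk hy', e,
      inv_mul_cancel]
  have h5 : (y⁻¹ * (k * y' * k⁻¹)) ^ 3 = 1 := by
    have c1 : Commute y⁻¹ (k * y' * k⁻¹) := by
      have := (h.central h2 h4 hy).symm
      rw [show k * y' * k⁻¹ = y * (y⁻¹ * (k * y' * k⁻¹)) by group]
      exact ((Commute.refl y).mul_right this).inv_left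
    rw [c1.mul_pow, conj_pow, inv_pow, ← h3, pow_orderOf_eq_one, h3, ← h3', pow_orderOf_eq_one]
    group
  obtain ⟨r, hr, e'⟩ := h.exists_conj_mul hy h3 hn (h.ker_three h2 h4 (by decide) h5)
  refine ⟨k⁻¹ * r, mc'.1 (mul_mem (inv_mem (mc'.2 hk)) (mc'.2 hr)), ?_⟩
  calc _ = k⁻¹ * (r * y * r⁻¹) * k := by group
    _ = _ := by rw [e']; group

theorem exists_inv {g : G} (hy : g * d * g⁻¹ * d = d * (g * d * g⁻¹))
    (hn : g * d * g⁻¹ ∉ zpowers d) : ∃ σ, σ * d * σ⁻¹ = d⁻¹ := by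
  have o3 := (h.conj g).d_ord
  obtain ⟨k, -, e⟩ := h.conj_three hy o3 hn (mc'.1 (inv_mem (mc'.2 hy))) (by rwa [orderOf_inv])
    (by rwa [inv_mem_iff])
  refine ⟨g⁻¹ * k * g, ?_⟩
  calc _ = g⁻¹ * (k * (g * d * g⁻¹) * k⁻¹) * g := by group
    _ = _ := by rw [e]; group

end Six

end Cfsg.Agent.J4.Rc
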