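import Cfsg.Agent.J4.Rec2

/-! From `C(d) = 6 · M22` and an extraspecial group of order `2 ^ 13` to the Janko-four type. -/

set_option autoImplicit false

namespace Cfsg.Agent.J4.Rc

open Cfsg Cfsg.Agent.Comp Cfsg.Agent.Spor Cfsg.Agent.Spor.M24C Subgroup
open scoped commutatorElement

variable {G : Type*} [Group G] [Finite G]

theorem exists_six {x : G} (hx : orderOf x = 3)
    (hperf : ⁅(⊤ : Subgroup (centralizer ({x} : Set G))), (⊤ : Subgroup (centralizer {x}))⁆ = ⊤)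
    (hZc : Nat.card (center (centralizer ({x} : Set G))) = 6)
    (e : centralizer ({x} : Set G) ⧸ center (centralizer ({x} : Set G)) ≃* Cfsg.Spor.M22) :
    ∃ z, Nonempty (Six x z) := by
  classical
  obtain ⟨z, hz⟩ := exists_prime_orderOf_dvd_card' (G := center (centralizer ({x} : Set G))) 2
    (by rw [hZc]; norm_num)
  have oz : orderOf ((z : centralizer ({x} : Set G)) : G) = 2 := by
    rw [orderOf_coe, orderOf_coe, hz]
  let ψ : centralizer ({x} : Set G) →* M24 := M22'.subtype.comp (m22Equiv.toMonoidHom.comp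
    (e.toMonoidHom.comp (QuotientGroup.mk' _)))
  have hψ : ∀ k, ψ k = 1 ↔ k ∈ center _ := fun k => by
    simp [ψ]
  let x' : centralizer ({x} : Set G) := ⟨x, mc'.2 rfl⟩
  have hx' : x' ∈ center _ := mem_center_iff.2 fun k => Subtype.ext (mc'.1 k.2)
  have hZ : zpowers x' ⊔ zpowers (z : centralizer ({x} : Set G)) = center _ := by
    refine eq_of_le_of_card_ge (sup_le (zpowers_le.2 hx') (zpowers_le.2 z.2))
      (Nat.le_of_dvd Nat.card_pos (hZc ▸ Nat.Coprime.mul_dvd_of_dvd_of_dvd (m := 2) (n := 3)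
        (by norm_num) ?_ ?_))
    · rw [← hz, ← orderOf_coe]
      exact orderOf_dvd_natCard _ (mem_sup_right (mem_zpowers _))
    · rw [← hx, show orderOf x = orderOf x' from orderOf_coe x']
      exact orderOf_dvd_natCard _ (mem_sup_left (mem_zpowers _))
  refine ⟨(z : centralizer ({x} : Set G)), ⟨⟨fun k => if hk : k * x = x * k then ψ ⟨k, mc'.2 hk⟩
    else 1, hx, oz, fun k hk => congrArg Subtype.val (mem_center_iff.1 z.2 ⟨k, mc'.2 hk⟩),
    mc'.1 (z : centralizer ({x} : Set G)).2, fun a b ha hb => ?_, fun k hk => ?_, fun g hg => ?_,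
    fun k hk => ?_, fun k hk => ?_⟩⟩⟩
  · rw [dif_pos ha, dif_pos hb, dif_pos (mc'.1 (mul_mem (mc'.2 ha) (mc'.2 hb))), ← map_mul]
    rfl
  · rw [dif_pos hk]
    exact Subtype.prop _
  · obtain ⟨k, hk⟩ := (m22Equiv.surjective.comp (e.surjective.comp
      (QuotientGroup.mk'_surjective _))) ⟨g, hg⟩
    exact ⟨k, mc'.1 k.2, by rw [dif_pos (mc'.1 k.2)]; exact congrArg Subtype.val hk⟩
  · rw [dif_pos hk, hψ, ← SetLike.ext_iff.1 hZ,
      JF.mem_sup_iff (zpowers_le.2 (center_le_normalizer _ z.2))]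
    have sq : (z : centralizer ({x} : Set G)) * z = 1 :=
      Subtype.ext (orderOf_two_iff.1 oz).2
    constructor
    · rintro ⟨_, ⟨n, rfl⟩, c, hc, e⟩
      refine ⟨_, ⟨n, rfl⟩, ?_⟩
      rcases (TT.mem_zpowers_invol sq).1 hc with rfl | rfl
      exacts [Or.inl (by simpa using congrArg Subtype.val e), Or.inr (congrArg Subtype.val e)]
    · rintro ⟨_, ⟨n, rfl⟩, e | e⟩
      exacts [⟨_, ⟨n, rfl⟩, 1, one_mem _, Subtype.ext (by simpa using e)⟩,
        ⟨_, ⟨n, rfl⟩, _, mem_zpowers _, Subtype.ext e⟩]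
  · rw [← map_subtype_commutator]
    exact ⟨⟨k, hk⟩, hperf.ge (mem_top _), rfl⟩

namespace Six

variable {d z : G} (h : Six d z)
include h

omit [Finite G] in
theorem not_inv {O : Subgroup G} (hO : IsPGroup 2 O) {a : G} (h1 : a * d * a⁻¹ * d⁻¹ ∈ O)
    (e : a * d * a⁻¹ = d⁻¹) : False := by
  rw [e] at h1
  have := h.not_mem_two hO (mul_mem (inv_mem (mem_zpowers d)) (inv_mem (mem_zpowers d))) h1
  rw [← mul_inv_rev, inv_eq_one] at this
  have h3 := h.d_cube
  rw [pow_three, this, mul_one] at h3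
  exact h.d_ne h3

theorem jf {σ : G} (hσ : σ * d * σ⁻¹ = d⁻¹) {E : Subgroup G} (xs : TT.XS E z)
    (hcard : Nat.card E = 2 ^ 13) (hn : ∀ a, a * z = z * a → ∀ e ∈ E, a * e * a⁻¹ ∈ E)
    (hc : ∀ a, a * z = z * a → (∀ e ∈ E, e * a = a * e) → a ∈ E)
    (hH : ∀ a, a * z = z * a → ∃ e ∈ E, ∃ n, (n * d = d * n ∨ n * d * n⁻¹ = d⁻¹) ∧ a = e * n) :
    IsOfJankoFourTypeWith z (zpowers d) := by
  have h2 := xs.isPGroup
  have hEH : E ≤ centralizer {z} := fun e he => mc'.2 (xs.z_comm e he)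
  have hnE : centralizer {z} ≤ normalizer (E : Set G) := fun a ha =>
    mem_normalizer_fintype (hn a (mc'.1 ha))
  have hd : d ∈ centralizer {z} := mc'.2 h.zd.symm
  have CE : ∀ e ∈ E, e * d = d * e → e = 1 ∨ e = z := fun e he =>
    h.normal_two h2 (fun k hk => hn k (h.zc k hk)) he
  have eE : twoCoreOfCentralizer z = E := by
    have h1 : E ≤ twoCoreOfCentralizer z := Grp.le_map_pCore hEH hnE h2
    refine le_antisymm (fun o ho => ?_) h1
    obtain ⟨e, he, n, hn', rfl⟩ := hH o (mc'.1 (JF.E_le_H ho))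
    have h3 : n ∈ twoCoreOfCentralizer z := (mul_mem_cancel_left (h1 he)).1 ho
    rcases hn' with h4 | h4
    · rcases h.normal_two (Grp.map_pCore_isPGroup 2 _)
        (fun k hk _ => JF.conj_mem_E (mc'.2 (h.zc k hk))) h3 h4 with rfl | rfl
      exacts [by rwa [mul_one], mul_mem he xs.z_mem]
    · refine (h.not_inv (O := twoCoreOfCentralizer z) (Grp.map_pCore_isPGroup 2 _) ?_ h4).elim
      have := mul_mem h3 (JF.conj_mem_E hd (inv_mem h3))
      rwa [← mul_assoc, ← mul_assoc] at this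
  have memN : ∀ {g}, g ∈ E ⊔ zpowers d ↔ ∃ e ∈ E, ∃ p ∈ zpowers d, g = e * p :=
    JF.mem_sup_iff ((zpowers_le.2 hd).trans hnE)
  have conjN : ∀ a ∈ centralizer {z}, ∀ g ∈ E ⊔ zpowers d, a * g * a⁻¹ ∈ E ⊔ zpowers d := by
    intro a ha g hg
    obtain ⟨e, he, n, hn', rfl⟩ := hH a (mc'.1 ha)
    obtain ⟨e', he', _, ⟨m, rfl⟩, rfl⟩ := memN.1 hg
    have h3 : n * d * n⁻¹ ∈ zpowers d := by
      rcases hn' with h4 | h4
      exacts [by rw [h4, mul_inv_cancel_right]; exact mem_zpowers d,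
        h4 ▸ inv_mem (mem_zpowers d)]
    rw [show e * n * (e' * d ^ m) * (e * n)⁻¹ =
      e * (n * e' * n⁻¹ * (n * d * n⁻¹) ^ m) * e⁻¹ by rw [conj_zpow]; group]
    exact mul_mem (mul_mem (mem_sup_left he) (mul_mem (mem_sup_left (hn n (h.comm_z hn') _ he'))
      (mem_sup_right (zpow_mem h3 m)))) (mem_sup_left (inv_mem he))
  have hN : ((E ⊔ zpowers d).subgroupOf (centralizer {z})).Normal :=
    ⟨fun n hn g => conjN g g.2 n hn⟩
  have kerN : ∀ k, k * d = d * k → (k ∈ E ⊔ zpowers d ↔ h.π k = 1) := fun k hk => by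
    rw [h.ker k hk, memN]
    constructor
    · rintro ⟨e, he, p, hp, rfl⟩
      have h3 := mc'.2 (comm_of_mem hp rfl).eq
      refine ⟨p, hp, ?_⟩
      rcases CE e he (mc'.1 ((mul_mem_cancel_right h3).1 (mc'.2 hk))) with rfl | rfl
      exacts [Or.inl (one_mul _), Or.inr (comm_of_mem hp h.zd).eq.symm]
    · rintro ⟨p, hp, rfl | rfl⟩
      exacts [⟨1, one_mem _, _, hp, (one_mul _).symm⟩,
        ⟨z, xs.z_mem, p, hp, (comm_of_mem hp h.zd).eq⟩]
  set N := (E ⊔ zpowers d).subgroupOf (centralizer {z})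
  set K := (centralizer {d}).subgroupOf (centralizer ({z} : Set G))
  have memM : ∀ a : centralizer ({z} : Set G), a ∈ K ⊔ N ↔
      ∃ e ∈ E, ∃ k, k * d = d * k ∧ (a : G) = e * k := fun a => by
    rw [sup_comm, mem_sup_of_normal_left]
    constructor
    · rintro ⟨y, hy, k, hk, rfl⟩
      obtain ⟨e, he, p, hp, e'⟩ := memN.1 hy
      exact ⟨e, he, p * k, mc'.1 (mul_mem (mc'.2 (comm_of_mem hp rfl).eq) hk), by
        rw [coe_mul, show (y : G) = _ from e', mul_assoc]⟩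
    · rintro ⟨e, he, k, hk, e'⟩
      exact ⟨⟨e, hEH he⟩, mem_sup_left (S := E) he, ⟨k, mc'.2 (h.zc k hk)⟩, mc'.2 hk,
        Subtype.ext e'.symm⟩
  have notM : ∀ a : centralizer ({z} : Set G), ∀ e ∈ E, ∀ n, n * d * n⁻¹ = d⁻¹ → (a : G) = e * n →
      a ∉ K ⊔ N := fun a e he n h3 e1 ha => by
    obtain ⟨e', he', k, hk, e2⟩ := (memM a).1 ha
    refine h.not_inv h2 ?_ h3
    have h4 : n = e⁻¹ * e' * k := by rw [mul_assoc, ← e2, e1]; group
    rw [h4, show e⁻¹ * e' * k * d * (e⁻¹ * e' * k)⁻¹ * d⁻¹ =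
      e⁻¹ * e' * (k * d * k⁻¹ * (e⁻¹ * e')⁻¹ * d⁻¹) by group, hk, mul_inv_cancel_right]
    exact mul_mem (mul_mem (inv_mem he) he') (hn d h.zd.symm _ (inv_mem (mul_mem (inv_mem he) he')))
  have hM : (K ⊔ N).index = 2 := by
    refine index_eq_two_iff.2 ⟨⟨σ, mc'.2 (h.comm_z (Or.inr hσ))⟩, fun b => ?_⟩
    obtain ⟨e, he, n, h3 | h3, e1⟩ := hH b (mc'.1 b.2)
    · refine Or.inr ⟨(memM _).2 ⟨e, he, n, h3, e1⟩, notM _ e he (n * σ) ?_ (by
        rw [coe_mul, e1, mul_assoc])⟩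
      calc _ = n * (σ * d * σ⁻¹) * n⁻¹ := by group
        _ = (n * d * n⁻¹)⁻¹ := by rw [hσ]; group
        _ = _ := by rw [h3, mul_inv_cancel_right]
    · refine Or.inl ⟨(memM _).2 ⟨e, he, n * σ, ?_, by rw [coe_mul, e1, mul_assoc]⟩,
        notM _ e he n h3 e1⟩
      calc _ = n * (σ * d * σ⁻¹) * n⁻¹ * (n * σ) := by group
        _ = (n * d * n⁻¹)⁻¹ * (n * σ) := by rw [hσ]; group
        _ = _ := by rw [h3, inv_inv]
  have hMn : (K ⊔ N).Normal := normal_of_index_eq_two hM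
  have hiso : Cfsg.Spor.IsoM22 (↥(K ⊔ N) ⧸ N.subgroupOf (K ⊔ N)) := by
    let ψ : K →* M22' := MonoidHom.mk' (fun k => ⟨h.π k.1.1, h.mem _ (mc'.1 k.2)⟩)
      fun a b => Subtype.ext (h.π_mul _ _ (mc'.1 a.2) (mc'.1 b.2))
    have h3 : N.subgroupOf K = ψ.ker := by
      ext k
      exact (kerN _ (mc'.1 k.2)).trans ⟨fun e => Subtype.ext e, congrArg Subtype.val⟩
    have h4 : Function.Surjective ψ := fun g => by
      obtain ⟨k, hk, e⟩ := h.surj g g.2
      exact ⟨⟨⟨k, mc'.2 (h.zc k hk)⟩, mc'.2 hk⟩, Subtype.ext e⟩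
    exact ⟨(QuotientGroup.quotientInfEquivProdNormalQuotient K N).symm.trans
      ((QuotientGroup.quotientMulEquivOfEq h3).trans
        ((QuotientGroup.quotientKerEquivOfSurjective ψ h4).trans m22Equiv.symm))⟩
  have hq := exists_quot_equiv (N := N) le_sup_right hM (fun c hc => by
    obtain ⟨e, he, n, h3 | h3, e1⟩ := hH c (mc'.1 c.2)
    · exact (memM _).2 ⟨e, he, n, h3, e1⟩
    · have key : ∀ k, k * d = d * k → ∃ l, l * d = d * l ∧ h.π l = 1 ∧ n * k * n⁻¹ = k * l := by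
        intro k hk
        have h4 : (c : G) * k * (c : G)⁻¹ * k⁻¹ ∈ E ⊔ zpowers d :=
          hc ⟨k, mc'.2 (h.zc k hk)⟩ (mem_sup_left (S := K) (mc'.2 hk))
        have h5 := conj_K (Or.inr h3) hk
        have h6 := mc'.1 (mul_mem (inv_mem (mc'.2 hk)) (mc'.2 h5))
        refine ⟨_, h6, (kerN _ h6).1 ?_, by group⟩
        have h7 := conjN _ (inv_mem (mc'.2 (h.zc k hk))) _ (mul_mem (mul_mem
          (mem_sup_left (inv_mem he)) h4) (mem_sup_left (hn k (h.zc k hk) e he)))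
        rwa [e1, show k⁻¹ * (e⁻¹ * (e * n * k * (e * n)⁻¹ * k⁻¹) * (k * e * k⁻¹)) * k⁻¹⁻¹ =
          k⁻¹ * (n * k * n⁻¹) by group] at h7
      have h4 : ⁅centralizer ({d} : Set G), centralizer ({d} : Set G)⁆ ≤ centralizer {n} :=
        commutator_le.2 fun a ha b hb => by
          obtain ⟨k, k1, k2, k3⟩ := key a (mc'.1 ha)
          obtain ⟨l, l1, l2, l3⟩ := key b (mc'.1 hb)
          have := comm_mul_central' (h.central k1 k2 (mc'.1 hb)) (h.central k1 k2 l1)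
            (h.central l1 l2 (mc'.1 ha))
          rw [← k3, ← l3, ← conjugate_commutatorElement] at this
          exact mc'.2 (by rw [← this, inv_mul_cancel_right, this])
      have h5 := mc'.1 (h4 (h.perf (mc'.2 rfl)))
      exact (h.not_inv (O := ⊥) .of_bot (by rw [← h5]; simp) h3).elim) hiso
  have eC : centralizer ({z} : Set G) ⊓ centralizer (zpowers d : Set G) = centralizer {d} := by
    rw [TT.centralizer_zpowers_eq]
    exact inf_eq_right.2 fun k hk => mc'.2 (h.zc k (mc'.1 hk))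
  refine ⟨h.z_ord, ?_, ?_, ?_, ⟨E ⊔ zpowers d, ?_, sup_le hEH (zpowers_le.2 hd),
    fun a ha => mem_normalizer_fintype (conjN a ha), ?_, ⟨hN, hq⟩, le_sup_right⟩, ?_, ?_, ?_, ?_⟩
  · exact eE ▸ xs.isExtraspecial
  · exact eE ▸ hcard
  · exact eE ▸ fun a ha => hc a (mc'.1 ha.1) ha.2
  · exact eE ▸ le_sup_left
  · have e := Grp.card_sup_mul_card_inf_of_le_normalizer ((zpowers_le.2 hd).trans hnE)
    rw [show zpowers d ⊓ E = ⊥ from eq_bot_iff.2 fun p hp => h.not_mem_two h2 hp.1 hp.2,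
      card_bot, mul_one, Nat.card_zpowers, h.d_ord, sup_comm] at e
    rwa [eE]
  · rw [Nat.card_zpowers, h.d_ord]
  · rw [eE, TT.centralizer_zpowers_eq]
    exact le_antisymm (fun e he => (TT.mem_zpowers_invol h.z_sq).2 (CE e he.1 (mc'.1 he.2)))
      (zpowers_le.2 ⟨xs.z_mem, mc'.2 h.zd⟩)
  · intro e
    have h3 : σ ∈ normalizer (zpowers d : Set G) := mem_normalizer_fintype (by
      rintro _ ⟨m, rfl⟩
      rw [← conj_zpow, hσ]
      exact zpow_mem (inv_mem (mem_zpowers d)) m)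
    have h4 := mc'.1 (eC.le (e.le ⟨mc'.2 (h.comm_z (Or.inr hσ)), h3⟩))
    exact h.not_inv (O := ⊥) .of_bot (by rw [h4]; simp) hσ
  · rw [eC]
    exact zpowers_le.2 (h.perf (mc'.2 rfl))

end Six

end Cfsg.Agent.J4.Rc
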