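import Cfsg.Agent.J4.Rec3
import Cfsg.Agent.S0058

/-! The largest normal 2-subgroup of `C(z)` when `C(d) = 6 · M22`. -/

set_option autoImplicit false

namespace Cfsg.Agent.J4.Rc.Six

open Cfsg Cfsg.Agent.Comp Cfsg.Agent.Spor Cfsg.Agent.Spor.M24C Subgroup
open scoped commutatorElement

variable {G : Type*} [Group G] [Finite G] {d z : G} (h : Six d z)
include h

/-- The order of a 2-subgroup normalised by `C(d)`. -/
theorem card_ge {F : Subgroup G} (hF : IsPGroup 2 F) (hz : z ∈ F)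
    (hn : ∀ k, k * d = d * k → ∀ l ∈ F, k * l * k⁻¹ ∈ F) {f : G} (hf : f ∈ F) (h1 : f ≠ 1)
    (h2 : f ≠ z) : 2 ^ 13 ∣ Nat.card F := by
  obtain ⟨n, e⟩ := IsPGroup.iff_card.1 hF
  have m9 : 9 ∣ Nat.card {l // l ∈ F ∧ l ≠ 1 ∧ l ≠ z} := by
    let _ : MulAction (centralizer ({d} : Set G)) {l // l ∈ F ∧ l ≠ 1 ∧ l ≠ z} :=
      { smul k l := ⟨k * l * (k : G)⁻¹, hn k (mc'.1 k.2) l l.2.1, by simpa using l.2.2.1,
          fun e => l.2.2.2 (by
            rw [mul_inv_eq_iff_eq_mul, ← h.zc k (mc'.1 k.2)] at e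
            exact mul_left_cancel e)⟩
        one_smul l := Subtype.ext (by change _ * _ * _ = _; simp)
        mul_smul a b l := Subtype.ext (by
          change ((a : G) * b) * l * ((a : G) * b)⁻¹ = a * (b * l * (b : G)⁻¹) * (a : G)⁻¹
          group) }
    refine nine_dvd_card (Γ := centralizer ({d} : Set G)) (d := ⟨d, mc'.2 rfl⟩)
      ((orderOf_coe _).symm.trans h.d_ord) (mem_center_iff.2 fun k => Subtype.ext (mc'.1 k.2)) ?_
      fun l e => ?_
    · have h2 := h.perf (mc'.2 rfl)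
      rw [← map_subtype_commutator] at h2
      obtain ⟨k, hk, e⟩ := h2
      exact (Subtype.ext e : k = ⟨d, _⟩) ▸ hk
    · have : d * l * d⁻¹ = l := congrArg Subtype.val e
      rcases h.normal_two hF hn l.2.1 (by rw [← this, inv_mul_cancel_right, this]) with e | e
      exacts [l.2.2.1 e, l.2.2.2 e]
  have m2 : Nat.card {l // l ∈ F ∧ l ≠ 1 ∧ l ≠ z} + 2 = 2 ^ n := by
    rw [← e, ← Set.ncard_pair h.z_ne.symm, show Nat.card {l // l ∈ F ∧ l ≠ 1 ∧ l ≠ z} =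
      ((F : Set G) \ {1, z}).ncard from ?_, Set.ncard_sdiff_add_ncard_of_subset]
    · rfl
    · rintro _ (rfl | rfl)
      exacts [one_mem F, hz]
    · rw [← Nat.card_coe_set_eq]
      exact Nat.card_congr (Equiv.subtypeEquivRight fun x => by simp [not_or])
  have hle : zpowers z < F := lt_of_le_of_ne (zpowers_le.2 hz) fun e' => by
    rcases (TT.mem_zpowers_invol h.z_sq).1 (e'.ge hf) with e | e
    exacts [h1 e, h2 e]
  have n1 : n ≠ 1 := fun e' => hle.ne (eq_of_le_of_card_ge hle.le (by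
    rw [e, e', Nat.card_zpowers, h.z_ord, pow_one]))
  have n7 : n ≠ 7 := fun e' => by
    obtain ⟨k, hk, ek⟩ := h.surj _ pX_mem
    have oX : orderOf (mc pX) = 11 := orderOf_mc_prime (by norm_num) okM_pX (by decide +kernel)
    have k6 : k ^ 6 * d = d * k ^ 6 := mc'.1 (pow_mem (mc'.2 hk) 6)
    have ne : h.π (k ^ 6) ≠ 1 := fun e => by
      rw [h.π_pow hk, ek, ← orderOf_dvd_iff_pow_eq_one, oX] at e
      norm_num at e
    have o11 : orderOf (k ^ 6) = 11 := by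
      refine orderOf_eq_prime (hp := ⟨by norm_num⟩) ?_ fun e => ne (by rw [e, h.π_one])
      obtain ⟨p, hp, e⟩ := (h.ker (k ^ 11) (mc'.1 (pow_mem (mc'.2 hk) 11))).1 (by
        rw [h.π_pow hk, ek, ← oX, pow_orderOf_eq_one])
      have p6 : p ^ 6 = 1 := by
        rw [show 6 = 3 * 2 from rfl, pow_mul, h.cube_of_mem hp, one_pow]
      rw [← pow_mul, mul_comm, pow_mul]
      rcases e with e | e <;> rw [e]
      · exact p6
      · rw [(comm_of_mem hp h.zd).mul_pow, p6, show 6 = 2 * 3 from rfl, pow_mul, pow_two, h.z_sq,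
          one_pow, one_mul]
    obtain ⟨j, e1, e2⟩ := card_cent_modEq o11 hF (hn _ k6)
    have hj : j ≤ 7 := (Nat.pow_dvd_pow_iff_le_right (by norm_num : 1 < 2)).1
      (e1 ▸ e' ▸ e ▸ card_dvd_of_le inf_le_left)
    have j7 : j = 7 := by
      rw [e, e'] at e2
      interval_cases j <;> first | rfl | exact absurd e2 (by decide)
    have e3 : F ⊓ centralizer {k ^ 6} = F :=
      eq_of_le_of_card_ge inf_le_left (by rw [e1, e, e', j7])
    rcases h.normal_cases (L := centralizer (F : Set G)) (fun a ha l hl x hx => by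
      have := hl _ (hn _ (mc'.1 (inv_mem (mc'.2 ha))) x hx)
      calc _ = a * (a⁻¹ * x * a⁻¹⁻¹ * l) * a⁻¹ := by group
        _ = _ := by rw [this]; group) with e4 | e4
    · exact ne (e4 _ (fun x hx => mc'.1 (e3.ge hx).2) k6)
    · rcases h.normal_two hF hn hf (e4 (mc'.2 rfl) f hf) with e | e
      exacts [h1 e, h2 e]
  rw [e]
  refine pow_dvd_pow 2 ?_
  by_contra hc
  have : n ≤ 12 := by omega
  interval_cases n <;> omega

omit [Finite G] in
theorem not_mem_zpowers {y : G} (h3 : orderOf y = 3) (hn : y ∉ zpowers d) : d ∉ zpowers y :=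
  fun e => by
    have : Finite (zpowers y) := Nat.finite_of_card_ne_zero (by rw [Nat.card_zpowers, h3]; norm_num)
    exact hn ((eq_of_le_of_card_ge (zpowers_le.2 e) (by
      rw [Nat.card_zpowers, Nat.card_zpowers, h3, h.d_ord])).ge (mem_zpowers y))

/-- Generation by the fixed points of the non-central elements of a group of order nine. -/
theorem gen {y : G} (hy : y * d = d * y) (h3 : orderOf y = 3) (hny : y ∉ zpowers d)
    {F B : Subgroup G} (hF : IsPGroup 2 F) (hn : ∀ k, k * d = d * k → ∀ l ∈ F, k * l * k⁻¹ ∈ F)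
    (hz : z ∈ B) (hB : ∀ p ∈ zpowers d, F ⊓ centralizer {y * p} ≤ B) : F ≤ B := by
  have : Fact (Nat.Prime 3) := ⟨by norm_num⟩
  have hN : zpowers d ≤ normalizer (zpowers y : Set G) := zpowers_le.2
    (centralizer_le_normalizer _ (by rw [TT.centralizer_zpowers_eq]; exact mc'.2 hy.symm))
  have hA : IsPGroup 3 (zpowers d ⊔ zpowers y : Subgroup G) := IsPGroup.to_sup_of_normal_right'
    (.of_card (n := 1) (by rw [Nat.card_zpowers, h.d_ord, pow_one]))
    (.of_card (n := 1) (by rw [Nat.card_zpowers, h3, pow_one])) hN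
  have mem : ∀ {a}, a ∈ zpowers d ⊔ zpowers y → ∃ q ∈ zpowers y, ∃ p ∈ zpowers d, a = q * p :=
    fun ha => (JF.mem_sup_iff hN).1 (sup_comm (zpowers d) _ ▸ ha)
  have hK : zpowers d ⊔ zpowers y ≤ centralizer {d} :=
    sup_le (zpowers_le.2 (mc'.2 rfl)) (zpowers_le.2 (mc'.2 hy))
  have hcm : IsMulCommutative (zpowers d ⊔ zpowers y : Subgroup G) := by
    rw [zpowers_eq_closure, zpowers_eq_closure, ← Subgroup.closure_union]
    refine isMulCommutative_closure ?_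
    rintro a (rfl | rfl) b (rfl | rfl)
    exacts [rfl, hy.symm, hy, rfl]
  have y3 : y ^ 3 = 1 := h3 ▸ pow_orderOf_eq_one y
  rw [← S0058.result (zpowers d ⊔ zpowers y) F (fun hc => ?_)
    (hK.trans fun k hk => mem_normalizer_fintype (hn k (mc'.1 hk)))
    (IsPGroup.coprime_card_of_ne 3 2 (by norm_num) _ _ hA hF)]
  · refine iSup₂_le fun a ha => ?_
    obtain ⟨q, hq, p, hp, rfl⟩ := mem ha.1
    rcases (JF.mem_zpowers_three h3).1 hq with rfl | rfl | rfl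
    · have h1 := ha.2
      rw [one_mul] at h1 ⊢
      rw [LA.cent_eq_of_mem hp ((orderOf_eq_prime (h.cube_of_mem hp) h1).trans h.d_ord.symm)]
      intro l hl
      rcases h.normal_two hF hn hl.1 (mc'.1 hl.2) with rfl | rfl
      exacts [one_mem _, hz]
    · exact hB p hp
    · refine fun l hl => hB _ (mul_mem hp hp) ⟨hl.1, mc'.2 ?_⟩
      have := (Commute.pow_right (mc'.1 hl.2) 2).eq
      rwa [((comm_of_mem hp hy).symm.mul_left (comm_of_mem hp hy).symm).mul_pow, ← pow_two,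
        ← pow_mul, pow_succ y 3, y3, one_mul, pow_two] at this
  · obtain ⟨⟨c, hc⟩, e⟩ := hc.exists_generator
    have c3 : c ^ 3 = 1 := by
      obtain ⟨q, hq, p, hp, rfl⟩ := mem hc
      obtain ⟨m, rfl⟩ := hq
      rw [((comm_of_mem hp hy).symm.zpow_left m).mul_pow, h.cube_of_mem hp, mul_one,
        ← zpow_natCast, ← zpow_mul, mul_comm, zpow_mul, zpow_natCast, y3, one_zpow]
    obtain ⟨m, e1⟩ := e ⟨d, mem_sup_left (mem_zpowers d)⟩
    obtain ⟨m', e2⟩ := e ⟨y, mem_sup_right (mem_zpowers y)⟩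
    have h1 : d ∈ zpowers c := ⟨m, congrArg Subtype.val e1⟩
    have h2 : orderOf c = 3 := orderOf_eq_prime c3 fun e => h.d_ne (by simpa [e] using h1)
    exact hny ((LA.zpowers_eq_of_mem h1 (h.d_ord.trans h2.symm)).ge ⟨m', congrArg Subtype.val e2⟩)

variable {E : Subgroup G} (hE : IsPGroup 2 E) (hz : z ∈ E) (hEz : ∀ e ∈ E, e * z = z * e)
  (hn : ∀ a, a * z = z * a → ∀ e ∈ E, a * e * a⁻¹ ∈ E)
include hE hz hEz hn

omit [Finite G] in
/-- The fixed points on `E` of a non-central conjugate of `d`. -/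
theorem card_fix {g : G} (hy : g * d * g⁻¹ * d = d * (g * d * g⁻¹))
    (hny : g * d * g⁻¹ ∉ zpowers d) : Nat.card ↥(E ⊓ centralizer {g * d * g⁻¹}) ∣ 32 ∧
      ((∀ e ∈ E, e * e = 1) → Nat.card ↥(E ⊓ centralizer {g * d * g⁻¹}) ≠ 32) := by
  have h' := h.conj g
  generalize g * d * g⁻¹ = y at *
  generalize g * z * g⁻¹ = w at *
  have hT : IsPGroup 2 (E ⊓ centralizer {y} : Subgroup G) := hE.to_inf_left
  by_cases e : w = z
  · subst e
    have : Nat.card ↥(E ⊓ centralizer {y}) ∣ 2 := by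
      rw [← h.z_ord, ← Nat.card_zpowers]
      exact card_dvd_of_le fun t ht => (TT.mem_zpowers_invol h.z_sq).2
        (h'.normal_two hE (fun k hk => hn k (h'.zc k hk)) ht.1 (mc'.1 ht.2))
    exact ⟨this.trans (by norm_num), fun _ e => by rw [e] at this; norm_num at this⟩
  have CE : ∀ e ∈ E, e * d = d * e → e = 1 ∨ e = z := fun e he =>
    h.normal_two hE (fun k hk => hn k (h.zc k hk)) he
  have inj : ∀ t ∈ E, t * y = y * t → h'.π t = 1 → t = 1 := fun t ht h1 h2 => by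
    obtain ⟨n, hn⟩ := hE ⟨t, ht⟩
    refine (h'.ker_two h1 h2 (congrArg Subtype.val hn)).resolve_right ?_
    rintro rfl
    rcases CE _ ht (h'.zc d hy.symm).symm with e' | e'
    exacts [h'.z_ne e', e e']
  let φ : ↥(E ⊓ centralizer {y}) →* M24 := h'.hom.comp (inclusion inf_le_right)
  have hφ : Function.Injective φ := (injective_iff_map_eq_one φ).2 fun t ht =>
    Subtype.ext (inj _ t.2.1 (mc'.1 t.2.2) ht)
  have hle : φ.range ≤ M22' := by
    rintro _ ⟨t, rfl⟩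
    exact h'.mem _ (mc'.1 t.2.2)
  have zy : z * y = y * z := (h.zc y hy).symm
  rw [Nat.card_congr (MonoidHom.ofInjective hφ).toEquiv]
  refine ⟨card_cases hle (φ.range_eq_map ▸ (hT.of_equiv topEquiv.symm).map φ)
    (t := h'.π z) (a := h'.π d) ⟨⟨z, hz, mc'.2 zy⟩, rfl⟩
    (by rw [← h'.π_mul _ _ zy zy, h.z_sq, h'.π_one]) (fun e => h.z_ne (inj z hz zy e)) ?_
    (h'.mem _ hy.symm) (h'.orderOf_π hy.symm h.d_ord (h.not_mem_zpowers h'.d_ord hny))
    (by rw [← h'.π_mul _ _ hy.symm zy, ← h'.π_mul _ _ zy hy.symm, h.zd]) ?_ ?_,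
    fun h2 => card_ne_32 hle ?_⟩
  · rintro _ ⟨t, rfl⟩
    change h'.π t * _ = _ * h'.π t
    rw [← h'.π_mul _ _ (mc'.1 t.2.2) zy, ← h'.π_mul _ _ zy (mc'.1 t.2.2), hEz _ t.2.1]
  · rintro _ ⟨t, rfl⟩
    exact ⟨⟨d * t * d⁻¹, hn d h.zd.symm _ t.2.1, mc'.2 (conj_K (Or.inl hy.symm) (mc'.1 t.2.2))⟩,
      h'.π_conj hy.symm (mc'.1 t.2.2)⟩
  · rintro _ ⟨t, rfl⟩ e
    change h'.π t * _ = _ * h'.π t at e
    have h1 := conj_K (Or.inl hy.symm) (mc'.1 t.2.2)
    have h2 := mc'.1 (inv_mem t.2.2)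
    have h3 := inj (d * t * d⁻¹ * (t : G)⁻¹) (mul_mem (hn d h.zd.symm _ t.2.1) (inv_mem t.2.1))
      (mc'.1 (mul_mem (mc'.2 h1) (mc'.2 h2))) (by
        rw [h'.π_mul _ _ h1 h2, h'.π_conj hy.symm (mc'.1 t.2.2), h'.π_inv (mc'.1 t.2.2), ← e]
        group)
    rcases CE _ t.2.1 (by
      rw [mul_inv_eq_one, mul_inv_eq_iff_eq_mul] at h3; exact h3.symm) with e' | e'
    · exact Or.inl (by rw [show t = 1 from Subtype.ext e', map_one])
    · exact Or.inr (congrArg h'.π e')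
  · rintro _ ⟨t, rfl⟩
    rw [← map_mul, show t * t = 1 from Subtype.ext (h2 _ t.2.1), map_one]

theorem card_fix' {g : G} (hy : g * d * g⁻¹ * d = d * (g * d * g⁻¹))
    (hny : g * d * g⁻¹ ∉ zpowers d) {p : G} (hp : p ∈ zpowers d) :
    Nat.card ↥(E ⊓ centralizer {g * d * g⁻¹ * p}) ∣ 32 ∧
      ((∀ e ∈ E, e * e = 1) → Nat.card ↥(E ⊓ centralizer {g * d * g⁻¹ * p}) ≠ 32) := by
  obtain ⟨r, hr, e⟩ := h.exists_conj_mul hy (h.conj g).d_ord hny hp
  have e' : g * d * g⁻¹ * p = r * g * d * (r * g)⁻¹ := by rw [← e]; group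
  rw [e']
  refine h.card_fix hE hz hEz hn ?_ ?_ <;> rw [← e']
  · exact mc'.1 (mul_mem (mc'.2 hy) (mc'.2 (comm_of_mem hp rfl).eq))
  · rwa [mul_mem_cancel_right hp]

/-- An invariant subgroup of class two. -/
theorem eq_of_class_two {g : G} (hy : g * d * g⁻¹ * d = d * (g * d * g⁻¹))
    (hny : g * d * g⁻¹ ∉ zpowers d) {F : Subgroup G} (hFE : F ≤ E) (hzF : z ∈ F)
    (hnF : ∀ k, k * d = d * k → ∀ l ∈ F, k * l * k⁻¹ ∈ F)
    (hc : ∀ a ∈ F, ∀ b ∈ F, ⁅a, b⁆ ∈ zpowers z) {f : G} (hf : f ∈ F) (h1 : f ≠ 1) (h2 : f ≠ z) :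
    F = E ∧ Nat.card E = 2 ^ 13 ∧ Nat.card ↥(E ⊓ centralizer {g * d * g⁻¹}) = 32 := by
  have hF := hE.to_le hFE
  have o3 := (h.conj g).d_ord
  have b := fun p hp => (h.card_fix' hE hz hEz hn hy hny (p := p) hp).1
  generalize g * d * g⁻¹ = y at *
  let A : G → Subgroup G := fun p => F ⊓ centralizer {y * p}
  have zA : ∀ p ∈ zpowers d, z ∈ A p := fun p hp => ⟨hzF, mc'.2
    (h.zc _ (mc'.1 (mul_mem (mc'.2 hy) (mc'.2 (comm_of_mem hp rfl).eq)))).symm⟩
  have hA : ∀ p ∈ zpowers d, Nat.card (A p) ∣ 32 := fun p hp =>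
    (card_dvd_of_le (inf_le_inf_right _ hFE)).trans (b p hp)
  have prod : ∀ X Y : Subgroup G, X ≤ F → Y ≤ F → z ∈ X → z ∈ Y →
      Nat.card (X ⊔ Y : Subgroup G) * 2 ≤ Nat.card X * Nat.card Y := fun X Y hX hY zX zY => by
    rw [← Grp.card_sup_mul_card_inf_of_le_normalizer (H := X) (N := Y) fun x hx =>
      mem_normalizer_fintype fun l hl => by
        rw [show x * l * x⁻¹ = ⁅x, l⁆ * l by group]
        exact mul_mem (zpowers_le.2 zY (hc _ (hX hx) _ (hY hl))) hl]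
    refine Nat.mul_le_mul_left _ (Nat.le_of_dvd Nat.card_pos ?_)
    rw [← h.z_ord]
    exact orderOf_dvd_natCard _ ⟨zX, zY⟩
  have m1 := one_mem (zpowers d)
  have m2 := mem_zpowers d
  have m3 := mul_mem m2 m2
  have g1 : F ≤ A 1 ⊔ A d ⊔ A (d * d) := h.gen hy o3 hny hF hnF
    (mem_sup_right (zA _ m3)) fun p hp => by
      rcases (JF.mem_zpowers_three h.d_ord).1 hp with rfl | rfl | rfl
      exacts [le_sup_of_le_left le_sup_left, le_sup_of_le_left le_sup_right, le_sup_right]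
  have c1 := prod (A 1) (A d) inf_le_left inf_le_left (zA _ m1) (zA _ m2)
  have c2 := prod (A 1 ⊔ A d) (A (d * d)) (sup_le inf_le_left inf_le_left) inf_le_left
    (mem_sup_left (zA _ m1)) (zA _ m3)
  have c3 := card_le_of_le g1
  have c4 := h.card_ge hF hzF hnF hf h1 h2
  have c5 := Nat.le_of_dvd Nat.card_pos c4
  have c6 : Nat.card F * 4 ≤ Nat.card (A 1) * Nat.card (A d) * Nat.card (A (d * d)) := by
    nlinarith
  have l1 := Nat.le_of_dvd (by norm_num) (hA _ m1)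
  have l2 := Nat.le_of_dvd (by norm_num) (hA _ m2)
  have l3 := Nat.le_of_dvd (by norm_num) (hA _ m3)
  have c7 : Nat.card (A 1) = 32 ∧ Nat.card (A d) = 32 ∧ Nat.card (A (d * d)) = 32 := by
    have u1 := Nat.mul_le_mul l1 l2
    have u2 := Nat.mul_le_mul l1 l3
    have u3 := Nat.mul_le_mul l2 l3
    refine ⟨?_, ?_, ?_⟩ <;> nlinarith
  have c8 : ∀ p ∈ zpowers d, A p = E ⊓ centralizer {y * p} := fun p hp =>
    eq_of_le_of_card_ge (inf_le_inf_right _ hFE) ((Nat.le_of_dvd (by norm_num) (b p hp)).trans (by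
      rcases (JF.mem_zpowers_three h.d_ord).1 hp with rfl | rfl | rfl
      exacts [c7.1.ge, c7.2.1.ge, c7.2.2.ge]))
  have e : F = E := le_antisymm hFE (h.gen hy o3 hny hE (fun k hk => hn k (h.zc k hk)) hzF
    fun p hp => (c8 p hp).ge.trans inf_le_left)
  refine ⟨e, ?_, ?_⟩
  · rw [c7.1, c7.2.1, c7.2.2] at c6
    rw [← e]
    omega
  · rw [← mul_one y, ← c8 1 m1, c7.1]

theorem xs_E (hc : ∀ a, a * z = z * a → (∀ e ∈ E, e * a = a * e) → a ∈ E) {g : G}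
    (hy : g * d * g⁻¹ * d = d * (g * d * g⁻¹)) (hny : g * d * g⁻¹ ∉ zpowers d) :
    TT.XS E z ∧ Nat.card E = 2 ^ 13 := by
  have cZ : ∀ a, a * z = z * a → ∀ w ∈ zpowers z, a * w * a⁻¹ ∈ zpowers z := by
    rintro a ha _ ⟨m, rfl⟩
    rw [(Commute.zpow_right ha m).eq, mul_inv_cancel_right]
    exact ⟨m, rfl⟩
  let F : Subgroup G :=
    { carrier := {e | e ∈ E ∧ e ^ 2 ∈ zpowers z ∧ ∀ e' ∈ E, ⁅e, e'⁆ ∈ zpowers z}
      one_mem' := ⟨one_mem _, by simp, by simp⟩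
      mul_mem' := fun {a b} ha hb => ⟨mul_mem ha.1 hb.1, by
        rw [show (a * b) ^ 2 = a * ⁅b, a⁆ * a⁻¹ * a ^ 2 * b ^ 2 by simp only [pow_two]; group]
        exact mul_mem (mul_mem (cZ a (hEz a ha.1) _ (hb.2.2 a ha.1)) ha.2.1) hb.2.1,
        fun c hc => by
          rw [show ⁅a * b, c⁆ = a * ⁅b, c⁆ * a⁻¹ * ⁅a, c⁆ by group]
          exact mul_mem (cZ a (hEz a ha.1) _ (hb.2.2 c hc)) (ha.2.2 c hc)⟩
      inv_mem' := fun {a} ha => ⟨inv_mem ha.1, by rw [inv_pow]; exact inv_mem ha.2.1,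
        fun c hc => by
          rw [show ⁅a⁻¹, c⁆ = a⁻¹ * ⁅a, c⁆⁻¹ * a⁻¹⁻¹ by group]
          exact cZ _ (hEz _ (inv_mem ha.1)) _ (inv_mem (ha.2.2 c hc))⟩ }
  have hinv : ∀ k, k * d = d * k → k⁻¹ * z = z * k⁻¹ := fun k hk =>
    h.zc _ (mc'.1 (inv_mem (mc'.2 hk)))
  obtain ⟨f, hf, f1, f2⟩ : ∃ f ∈ F, f ≠ 1 ∧ f ≠ z := by
    have : (zpowers (⟨z, hz⟩ : E)).Normal := ⟨by
      rintro _ ⟨m, rfl⟩ a
      rw [(Commute.zpow_right (show Commute a ⟨z, hz⟩ from Subtype.ext (hEz _ a.2)) m).eq,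
        mul_inv_cancel_right]
      exact ⟨m, rfl⟩⟩
    have key : ∀ a ∈ zpowers (⟨z, hz⟩ : E), (a : G) ∈ zpowers z := by
      rintro _ ⟨m, rfl⟩
      exact ⟨m, rfl⟩
    obtain ⟨u, -, u1, u2, u3⟩ := Grp.PChain.exists_central_mod_pow hE ⊤ (zpowers ⟨z, hz⟩)
      fun hle => h.d_ne (h.not_mem_two hE (mem_zpowers d) (hc d h.zd.symm fun e he => by
        obtain ⟨m, hm⟩ := key _ (hle (mem_top ⟨e, he⟩))
        exact (show z ^ m = e from hm) ▸ (Commute.zpow_left h.zd m).eq))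
    exact ⟨u, ⟨u.2, key _ u2, fun e he => key _ (u3 ⟨e, he⟩)⟩,
      fun e => u1 ((Subtype.ext e : u = 1) ▸ one_mem _),
      fun e => u1 ((Subtype.ext e : u = ⟨z, hz⟩) ▸ mem_zpowers _)⟩
  obtain ⟨e1, e2, e3⟩ := h.eq_of_class_two hE hz hEz hn hy hny (F := F) (fun a ha => ha.1)
    ⟨hz, pow_mem (mem_zpowers z) 2, fun e he => by
      rw [commutatorElement_eq_one_iff_mul_comm.2 (hEz e he).symm]; exact one_mem _⟩
    (fun k hk l hl => ⟨hn k (h.zc k hk) l hl.1, by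
      rw [conj_pow]; exact cZ k (h.zc k hk) _ hl.2.1, fun c hc => by
        rw [show ⁅k * l * k⁻¹, c⁆ = k * ⁅l, k⁻¹ * c * k⁻¹⁻¹⁆ * k⁻¹ by group]
        exact cZ k (h.zc k hk) _ (hl.2.2 _ (hn _ (hinv k hk) c hc))⟩)
    (fun a ha b hb => ha.2.2 b hb.1) hf f1 f2
  refine ⟨⟨hz, h.z_ne, h.z_sq, hEz, fun a ha b hb => ?_, fun a ha hc' => ?_, f, hf.1, f1, f2⟩, e2⟩
  · rcases (TT.mem_zpowers_invol h.z_sq).1 ((e1.ge ha).2.2 b hb) with e | e
    · exact Or.inl (commutatorElement_eq_one_iff_mul_comm.1 e)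
    · exact Or.inr (by rw [hEz _ (mul_mem hb ha), ← e]; group)
  by_contra hne
  rw [not_or] at hne
  have ab : ∀ a ∈ E, ∀ b ∈ E, b * a = a * b := fun a' ha' =>
    ((h.eq_of_class_two hE hz hEz hn hy hny (F := E ⊓ centralizer (E : Set G)) inf_le_left
      ⟨hz, hEz⟩ (fun k hk l hl => ⟨hn k (h.zc k hk) l hl.1, fun x hx => by
        have := hl.2 _ (hn _ (hinv k hk) x hx)
        calc _ = k * (k⁻¹ * x * k⁻¹⁻¹ * l) * k⁻¹ := by group
          _ = _ := by rw [this]; group⟩)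
      (fun a ha b hb => (e1.ge ha.1).2.2 b hb.1) ⟨ha, fun x hx => (hc' x hx).symm⟩ hne.1
      hne.2).1.ge ha').2
  let Ω : Subgroup G :=
    { carrier := {e | e ∈ E ∧ e * e = 1}
      one_mem' := ⟨one_mem _, one_mul _⟩
      mul_mem' := fun {a b} ha hb => ⟨mul_mem ha.1 hb.1, by
        rw [mul_assoc, ← mul_assoc b, ab a ha.1 b hb.1, mul_assoc, hb.2, mul_one, ha.2]⟩
      inv_mem' := fun {a} ha => ⟨inv_mem ha.1, by rw [← mul_inv_rev, ha.2, inv_one]⟩ }
  obtain ⟨w, hw, w1, w2⟩ : ∃ w ∈ Ω, w ≠ 1 ∧ w ≠ z := by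
    have sq : ∀ a ∈ E, a * a = 1 ∨ a * a = z := fun a ha =>
      (TT.mem_zpowers_invol h.z_sq).1 (pow_two a ▸ (e1.ge ha).2.1)
    rcases sq f hf.1 with e | e
    · exact ⟨f, ⟨hf.1, e⟩, f1, f2⟩
    have h1 := hn d h.zd.symm f hf.1
    have h2 : d * f * d⁻¹ * (d * f * d⁻¹) = z := by
      calc _ = d * (f * f) * d⁻¹ := by group
        _ = _ := by rw [e, ← h.zd, mul_inv_cancel_right]
    have CE := h.normal_two hE (fun k hk => hn k (h.zc k hk)) hf.1
    refine ⟨d * f * d⁻¹ * f⁻¹, ⟨mul_mem h1 (inv_mem hf.1), ?_⟩, fun e' => ?_, fun e' => ?_⟩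
    · generalize d * f * d⁻¹ = f' at h1 h2
      rw [mul_assoc, ← mul_assoc f⁻¹, ab _ h1 _ (inv_mem hf.1), mul_assoc, ← mul_inv_rev, e,
        ← mul_assoc, h2, mul_inv_cancel]
    · rw [mul_inv_eq_one, mul_inv_eq_iff_eq_mul] at e'
      exact (CE e'.symm).elim f1 f2
    · rw [mul_inv_eq_iff_eq_mul] at e'
      have h3 : d * (z * f) * d⁻¹ = f := by
        calc _ = d * z * d⁻¹ * (d * f * d⁻¹) := by group
          _ = _ := by rw [e', ← h.zd, mul_inv_cancel_right, ← mul_assoc, h.z_sq, one_mul]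
      have h4 : d ^ 3 * f * (d ^ 3)⁻¹ = z * f := by
        calc _ = d * (d * (d * f * d⁻¹) * d⁻¹) * d⁻¹ := by simp only [pow_three]; group
          _ = _ := by rw [e', h3, e']
      rw [h.d_cube] at h4
      exact h.z_ne (by simpa using h4.symm)
  have e4 := (h.eq_of_class_two hE hz hEz hn hy hny (F := Ω) (fun a ha => ha.1) ⟨hz, h.z_sq⟩
    (fun k hk l hl => ⟨hn k (h.zc k hk) l hl.1, by
      calc _ = k * (l * l) * k⁻¹ := by group
        _ = _ := by rw [hl.2]; group⟩)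
    (fun a ha b hb => (e1.ge ha.1).2.2 b hb.1) hw w1 w2).1
  exact (h.card_fix hE hz hEz hn hy hny).2 (fun e he => (e4.ge he).2) e3

end Cfsg.Agent.J4.Rc.Six
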