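import Cfsg.Agent.J4.LocAux

/-! A linear map preserving the 693 vectors of `zT` is semilinear. -/

set_option autoImplicit false

namespace Cfsg.Agent.J4.Rc

open Cfsg Cfsg.Agent.Comp Subgroup

/-- The vectors `w` with `w` and `w + 7` in `zT`. -/
def nb7 : List ℕ := [73, 78, 83, 84, 267, 268, 273, 278, 344, 351, 424, 431, 547, 548, 616, 623, 624, 631, 641, 646, 664, 671, 712, 719, 808, 815, 891, 892, 912, 919, 985, 990, 1025, 1026, 1027, 1028, 1029, 1030, 1096, 1103, 1104, 1111, 1266, 1269, 1288, 1295, 1296, 1303, 1369, 1371, 1372, 1374, 1568, 1575, 1642, 1645, 1651, 1652, 1664, 1671, 1737, 1742, 1835, 1836, 1912, 1919, 1937, 1942, 1986, 1989, 2008, 2015, 2234, 2235, 2236, 2237, 2281, 2286, 2290, 2293, 2395, 2396, 2474, 2475, 2476, 2477, 2481, 2486, 2530, 2531, 2532, 2533, 2618, 2621, 2667, 2668, 2675, 2676, 2713, 2718, 2762, 2765, 2859, 2860, 2914, 2917, 2962, 2965, 3009, 3011, 3012, 3014, 3257, 3258, 3261, 3262, 3306,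 3309, 3313, 3315, 3316, 3318, 3417, 3422, 3499, 3500, 3506, 3509, 3553, 3554, 3557, 3558, 3643, 3644, 3689, 3694, 3698, 3701, 3737, 3738, 3741, 3742, 3785, 3790, 3882, 3885, 3939, 3940, 3985, 3990, 4034, 4037]

theorem mem_nb7 {w : ℕ} :
    w ∈ nb7 ↔ w < 4096 ∧ zT.testBit w = true ∧ zT.testBit (w ^^^ 7) = true := by
  constructor
  · intro h
    have := (allL_iff nb7 fun w => and' (Nat.blt w 4096) (and' (tb zT w) (tb zT (Nat.xor w 7)))).1
      (by decide +kernel) w h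
    simp only [and'_eq_true, blt_iff, tb_eq] at this
    exact this
  · rintro ⟨h1, h2, h3⟩
    have := (allB_iff 4096 fun w => or' (not' (and' (tb zT w) (tb zT (Nat.xor w 7))))
      (anyL nb7 fun x => Nat.beq x w)).1 (by decide +kernel) w h1
    simp only [or'_eq_true, not'_eq_true, and'_eq_true, tb_eq, anyL_iff, beq_iff] at this
    obtain ⟨x, hx, rfl⟩ := this.resolve_left (not_not.2 ⟨h2, h3⟩)
    exact hx

theorem card_nb7 (u : ℕ) : (nb7.toFinset.filter fun w => zT.testBit (w ^^^ u) = true).card =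
    nb7.countP fun w => tb zT (Nat.xor w u) := by
  rw [List.countP_eq_length_filter, ← List.toFinset_card_of_nodup
    (List.Nodup.filter _ (by decide +kernel)), List.toFinset_filter]
  simp only [tb_eq]
  rfl

theorem fix_seven {φ : ℕ → ℕ} (hl : ∀ v < 4096, φ v < 4096)
    (hx : ∀ v < 4096, ∀ w < 4096, φ (v ^^^ w) = φ v ^^^ φ w)
    (hi : ∀ v < 4096, ∀ w < 4096, φ v = φ w → v = w)
    (hz : ∀ v < 4096, zT.testBit v = true → zT.testBit (φ v) = true) (h7 : φ 7 = 7) :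
    φ 344 = 344 ∨ φ 344 = 351 := by
  have h1 := (allB_iff 4096 fun u => or' (not' (tb zT u)) (or' (Nat.beq u 7)
    (or' (or' (Nat.beq u 344) (Nat.beq u 351))
      (Nat.blt (nb7.countP fun w => tb zT (Nat.xor w u)) 121)))).1 (by decide +kernel) _
    (hl 344 (by norm_num))
  simp only [or'_eq_true, not'_eq_true, tb_eq zT (φ 344), beq_iff, blt_iff] at h1
  refine ((h1.resolve_left (not_not.2 (hz _ (by norm_num) (by decide +kernel)))).resolve_left
    fun e => absurd (hi _ (by norm_num) _ (by norm_num) (e.trans h7.symm))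
      (by norm_num)).resolve_right (not_lt.2 ?_)
  rw [← card_nb7, show 121 = nb7.countP fun w => tb zT (Nat.xor w 344) by decide +kernel,
    ← card_nb7]
  refine Finset.card_le_card_of_injOn φ (fun w hw => ?_) fun v hv w hw => ?_
  · simp only [Finset.coe_filter, List.mem_toFinset, mem_nb7, Set.mem_ofPred_eq] at hw ⊢
    obtain ⟨⟨a1, a2, a3⟩, a4⟩ := hw
    refine ⟨⟨hl _ a1, hz _ a1 a2, ?_⟩, ?_⟩
    · rw [← h7, ← hx _ a1 _ (by norm_num)]
      exact hz _ (xor_lt a1 (by norm_num)) a3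
    · rw [← hx _ a1 _ (by norm_num)]
      exact hz _ (xor_lt a1 (by norm_num)) a4
  · simp only [Finset.coe_filter, List.mem_toFinset, mem_nb7, Set.mem_ofPred_eq] at hv hw
    exact hi _ hv.1.1 _ hw.1.1

theorem eq_app {ψ : ℕ → ℕ} (hx : ∀ v < 4096, ∀ w < 4096, ψ (v ^^^ w) = ψ v ^^^ ψ w) {A A' : ℕ}
    (h : ∀ v < 4096, zT.testBit v = true → ψ v = app A v ∨ ψ v = app A' v)
    (hA : allL [(7, 73), (73, 57), (7, 83), (83, 172), (7, 1025), (7, 344), (73, 646), (57, 251),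
      (83, 891), (172, 848), (1025, 2618)] (fun x => and' (and' (Nat.blt x.1 4096)
        (Nat.blt x.2 4096)) (and' (and' (tb zT x.2) (tb zT (Nat.xor x.1 x.2)))
        (and' (not' (Nat.beq (Nat.xor (app A x.1) (app A' x.2)) (app A (Nat.xor x.1 x.2))))
          (not' (Nat.beq (Nat.xor (app A x.1) (app A' x.2)) (app A' (Nat.xor x.1 x.2))))))) = true)
    (h7 : ψ 7 = app A 7) : ∀ v < 4096, ψ v = app A v := by
  have link : ∀ p u, (p, u) ∈ [(7, 73), (73, 57), (7, 83), (83, 172), (7, 1025), (7, 344),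
      (73, 646), (57, 251), (83, 891), (172, 848), (1025, 2618)] → ψ p = app A p →
      ψ u = app A u := fun p u hm e => by
    have := (allL_iff _ _).1 hA _ hm
    simp only [and'_eq_true, not'_eq_true, blt_iff, beq_iff, tb_eq] at this
    obtain ⟨⟨a1, a2⟩, ⟨a3, a4⟩, a5, a6⟩ := this
    refine (h u a2 a3).resolve_right fun e' => ?_
    have := h _ (xor_lt a1 a2) a4
    rw [hx _ a1 _ a2, e, e'] at this
    exact this.elim a5 a6
  have b1 := link 7 73 (by simp) h7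
  have b2 := link 73 57 (by simp) b1
  have b3 := link 7 83 (by simp) h7
  have b4 := link 83 172 (by simp) b3
  have b5 := link 7 1025 (by simp) h7
  have key := lin_ext (n := 12) (f := fun m => ψ (app 0xa3a35037b0fb2861584010ac053039049007 m))
    (g := fun m => app A (app 0xa3a35037b0fb2861584010ac053039049007 m))
    (fun v hv w hw => by rw [app_xor _ hv hw, hx _ (app_lt _ _) _ (app_lt _ _)])
    (fun v hv w hw => by rw [app_xor _ hv hw, app_xor _ (app_lt _ _) (app_lt _ _)])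
    (fun i hi => by
      rw [app_two_pow _ hi, show row 0xa3a35037b0fb2861584010ac053039049007 i =
        [7, 73, 57, 83, 172, 1025, 344, 646, 251, 891, 848, 2618].getD i 0 by
          revert i; decide +kernel]
      interval_cases i
      exacts [h7, b1, b2, b3, b4, b5, link 7 344 (by simp) h7, link 73 646 (by simp) b1,
        link 57 251 (by simp) b2, link 83 891 (by simp) b3, link 172 848 (by simp) b4,
        link 1025 2618 (by simp) b5])
  intro v hv
  have := key _ (app_lt 0xb534fe24e75f6112d21173c360e1185c74de v)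
  rwa [← app_mm _ _ hv, show mm 0xa3a35037b0fb2861584010ac053039049007
    0xb534fe24e75f6112d21173c360e1185c74de = mI by decide +kernel, app_mI hv] at this

theorem eq_app_D {ψ : ℕ → ℕ} (hx : ∀ v < 4096, ∀ w < 4096, ψ (v ^^^ w) = ψ v ^^^ ψ w)
    (h : ∀ v < 4096, zT.testBit v = true → ψ v = app mD v ∨ ψ v = app mD2 v) :
    (∀ v < 4096, ψ v = app mD v) ∨ ∀ v < 4096, ψ v = app mD2 v :=
  (h 7 (by norm_num) (by decide +kernel)).imp (eq_app hx h (by decide +kernel))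
    (eq_app hx (fun v hv hz => (h v hv hz).symm) (by decide +kernel))

variable {G : Type*} [Group G]

theorem dvd_card_of_action {X : Type*} {H : Subgroup G} {S : X → Prop} {f : G → X → X}
    (hm : ∀ g ∈ H, ∀ v, S v → S (f g v)) (h1 : ∀ v, S v → f 1 v = v)
    (hmul : ∀ g ∈ H, ∀ k ∈ H, ∀ v, S v → f (g * k) v = f g (f k v)) {x : X} (hx : S x) {t : G}
    (ht : t ∈ H) (e : f t x = x) : orderOf t * {w | ∃ g ∈ H, f g x = w}.ncard ∣ Nat.card H := by
  let _ : MulAction H {v // S v} :=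
    { smul k v := ⟨f k v, hm _ k.2 _ v.2⟩
      one_smul v := Subtype.ext (h1 _ v.2)
      mul_smul a b v := Subtype.ext (hmul _ a.2 _ b.2 _ v.2) }
  have h2 : Subtype.val '' MulAction.orbit H (⟨x, hx⟩ : {v // S v}) =
      {w | ∃ g ∈ H, f g x = w} := by
    ext w
    constructor
    · rintro ⟨_, ⟨a, rfl⟩, rfl⟩
      exact ⟨a, a.2, rfl⟩
    · rintro ⟨a, ha, rfl⟩
      exact ⟨_, ⟨⟨a, ha⟩, rfl⟩, rfl⟩
  rw [← h2, Set.ncard_image_of_injective _ Subtype.val_injective, ← MulAction.index_stabilizer,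
    ← card_mul_index (MulAction.stabilizer H (⟨x, hx⟩ : {v // S v})),
    show orderOf t = orderOf (⟨t, ht⟩ : H) from orderOf_coe (⟨t, ht⟩ : H)]
  exact Nat.mul_dvd_mul_right (orderOf_dvd_natCard _ (Subtype.ext e)) _

/-- Coordinates on `E` together with the action of a subgroup `N` normalising `⟨D⟩`. -/
structure Cod (z D : G) (E N : Subgroup G) where
  /-- the section -/
  s : ℕ → G
  xs : TT.XS E z
  hn : ∀ a, a * z = z * a → ∀ e ∈ E, a * e * a⁻¹ ∈ E
  hc : ∀ a, a * z = z * a → (∀ e ∈ E, e * a = a * e) → a ∈ E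
  hN : ∀ k ∈ N, k * z = z * k
  hD : ∀ k ∈ N, k * D * k⁻¹ = D ∨ k * D * k⁻¹ = D * D
  D_mem : D ∈ N
  s_mul : ∀ v < 4096, ∀ w < 4096, s v * s w = s (v ^^^ w) * z ^ beta v w
  s_sq : ∀ v < 4096, s v * s v = z ^ qf v
  mem_E : ∀ g, g ∈ E ↔ ∃ v < 4096, ∃ a < 2, g = s v * z ^ a
  inj : ∀ v < 4096, ∀ w < 4096, ∀ a < 2, ∀ b < 2, s v * z ^ a = s w * z ^ b → v = w
  gen : ∀ A ∈ [mX, mF, mU, mS, mD], ∃ k ∈ N, ∀ v < 4096, ∃ a, k * s v * k⁻¹ = s (app A v) * z ^ a
  act : ∀ v < 4096, ∃ a, D * s v * D⁻¹ = s (app mD v) * z ^ a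
  three : ∃ k ∈ N, orderOf k = 3 ∧ ∃ a, k * s 7 * k⁻¹ = s 7 * z ^ a

namespace Cod

variable {z D : G} {E N : Subgroup G} (c : Cod z D E N)

open Classical in
/-- The action of `C(z)` on the codes. -/
noncomputable def ac (g : G) (v : ℕ) : ℕ :=
  if h : ∃ w < 4096, ∃ a < 2, g * c.s v * g⁻¹ = c.s w * z ^ a then h.choose else 0

theorem s_mem {v : ℕ} (hv : v < 4096) : c.s v ∈ E := (c.mem_E _).2 ⟨v, hv, 0, by norm_num, by simp⟩

theorem ac_spec {g : G} (hg : g * z = z * g) {v : ℕ} (hv : v < 4096) :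
    c.ac g v < 4096 ∧ ∃ a < 2, g * c.s v * g⁻¹ = c.s (c.ac g v) * z ^ a := by
  have h := (c.mem_E _).1 (c.hn g hg _ (c.s_mem hv))
  rw [ac, dif_pos h]
  exact h.choose_spec

theorem ac_lt {g : G} (hg : g * z = z * g) {v : ℕ} (hv : v < 4096) : c.ac g v < 4096 :=
  (c.ac_spec hg hv).1

theorem ac_eq {g : G} (hg : g * z = z * g) {v w : ℕ} (hv : v < 4096) (hw : w < 4096) {a : ℕ}
    (e : g * c.s v * g⁻¹ = c.s w * z ^ a) : c.ac g v = w := by
  obtain ⟨h1, b, hb, e'⟩ := c.ac_spec hg hv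
  rw [pow_eq_pow_mod a (show z ^ 2 = 1 by rw [pow_two, c.xs.z_sq])] at e
  exact c.inj _ h1 _ hw _ hb _ (Nat.mod_lt _ (by norm_num)) (e'.symm.trans e)

omit c in
theorem conj_pow_z {g : G} (hg : g * z = z * g) (a : ℕ) : g * z ^ a * g⁻¹ = z ^ a := by
  rw [(Commute.pow_right hg a).eq, mul_inv_cancel_right]

omit c in
theorem mulH {g k : G} (hg : g * z = z * g) (hk : k * z = z * k) : g * k * z = z * (g * k) :=
  (Commute.mul_left hg hk).eq

omit c in
theorem invH {g : G} (hg : g * z = z * g) : g⁻¹ * z = z * g⁻¹ := (Commute.inv_left hg).eq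

theorem ac_one {v : ℕ} (hv : v < 4096) : c.ac 1 v = v :=
  c.ac_eq (by simp) hv hv (a := 0) (by simp)

theorem ac_mul {g k : G} (hg : g * z = z * g) (hk : k * z = z * k) {v : ℕ} (hv : v < 4096) :
    c.ac (g * k) v = c.ac g (c.ac k v) := by
  obtain ⟨h1, a, -, e1⟩ := c.ac_spec hk hv
  obtain ⟨h2, b, -, e2⟩ := c.ac_spec hg h1
  refine c.ac_eq (mulH hg hk) hv h2 (a := b + a) ?_
  calc _ = g * (k * c.s v * k⁻¹) * g⁻¹ := by group
    _ = g * c.s (c.ac k v) * g⁻¹ * (g * z ^ a * g⁻¹) := by rw [e1]; group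
    _ = _ := by rw [e2, conj_pow_z hg, pow_add, mul_assoc]

theorem ac_inv {g : G} (hg : g * z = z * g) {v : ℕ} (hv : v < 4096) :
    c.ac g⁻¹ (c.ac g v) = v := by
  rw [← c.ac_mul (invH hg) hg hv, inv_mul_cancel, c.ac_one hv]

theorem ac_inv' {g : G} (hg : g * z = z * g) {v : ℕ} (hv : v < 4096) :
    c.ac g (c.ac g⁻¹ v) = v := by
  rw [← c.ac_mul hg (invH hg) hv, mul_inv_cancel, c.ac_one hv]

theorem ac_inj {g : G} (hg : g * z = z * g) {v w : ℕ} (hv : v < 4096) (hw : w < 4096)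
    (e : c.ac g v = c.ac g w) : v = w := by
  rw [← c.ac_inv hg hv, e, c.ac_inv hg hw]

theorem mul_pow_z {v : ℕ} (hv : v < 4096) (x : G) (a b : ℕ) :
    x * z ^ a * (c.s v * z ^ b) = x * c.s v * z ^ (a + b) := by
  rw [mul_assoc x, ← mul_assoc (z ^ a), ← (Commute.pow_right (c.xs.z_comm _ (c.s_mem hv)) a).eq,
    pow_add]
  group

theorem ac_xor {g : G} (hg : g * z = z * g) {v w : ℕ} (hv : v < 4096) (hw : w < 4096) :
    c.ac g (v ^^^ w) = c.ac g v ^^^ c.ac g w := by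
  obtain ⟨h1, a, -, e1⟩ := c.ac_spec hg hv
  obtain ⟨h2, b, -, e2⟩ := c.ac_spec hg hw
  refine c.ac_eq hg (xor_lt hv hw) (xor_lt h1 h2)
    (a := beta (c.ac g v) (c.ac g w) + (a + b) + beta v w) ?_
  have h3 : c.s (v ^^^ w) = c.s v * c.s w * z ^ beta v w := by
    rw [c.s_mul _ hv _ hw, mul_assoc, ← (Commute.refl z).mul_pow, c.xs.z_sq, one_pow, mul_one]
  calc _ = g * c.s v * g⁻¹ * (g * c.s w * g⁻¹) * (g * z ^ beta v w * g⁻¹) := by rw [h3]; group
    _ = _ := by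
      rw [e1, e2, conj_pow_z hg, c.mul_pow_z h2, c.s_mul _ h1 _ h2, pow_add, pow_add]
      group

theorem ac_zero {g : G} (hg : g * z = z * g) : c.ac g 0 = 0 := by
  have := c.ac_xor hg (v := 0) (w := 0) (by norm_num) (by norm_num)
  rwa [Nat.xor_self, Nat.xor_self] at this

theorem qf_ac {g : G} (hg : g * z = z * g) {v : ℕ} (hv : v < 4096) : qf (c.ac g v) = qf v := by
  obtain ⟨h1, a, -, e1⟩ := c.ac_spec hg hv
  have h2 : z ^ qf v = z ^ qf (c.ac g v) := by
    calc _ = g * c.s v * g⁻¹ * (g * c.s v * g⁻¹) := by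
          rw [← conj_pow_z hg, ← c.s_sq _ hv]; group
      _ = _ := by
          rw [e1, c.mul_pow_z h1, c.s_sq _ h1, ← two_mul, pow_mul, pow_two, c.xs.z_sq, one_pow,
            mul_one]
  have h3 := (pow_eq_pow_iff_modEq.1 h2)
  rw [c.xs.orderOf_z] at h3
  exact (Nat.ModEq.eq_of_lt_of_lt h3 (qf_lt _) (qf_lt _)).symm

theorem ac_D {v : ℕ} (hv : v < 4096) : c.ac D v = app mD v :=
  have ⟨_, e⟩ := c.act v hv
  c.ac_eq (c.hN _ c.D_mem) hv (app_lt _ _) e

theorem ac_D2 {v : ℕ} (hv : v < 4096) : c.ac (D * D) v = app mD2 v := by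
  rw [c.ac_mul (c.hN _ c.D_mem) (c.hN _ c.D_mem) hv, c.ac_D hv, c.ac_D (app_lt _ _),
    ← app_mm _ _ hv, mD_mD]

theorem orb {u : ℕ} (hu : u < 4096) (n v : ℕ)
    (hv : (Idx.orb app [mX, mF, mU, mS, mD] 12 n u).testBit v = true) :
    ∃ k ∈ N, c.ac k u = v := by
  refine Idx.orb_sound (P := fun v => ∃ k ∈ N, c.ac k u = v) ?_ 12 n
    ⟨1, one_mem _, c.ac_one hu⟩ v hv
  rintro A hA _ ⟨k, hk, rfl⟩
  obtain ⟨l, hl, e⟩ := c.gen A hA
  have h1 := c.ac_lt (c.hN k hk) hu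
  obtain ⟨a, e⟩ := e _ h1
  exact ⟨l * k, mul_mem hl hk, by
    rw [c.ac_mul (c.hN l hl) (c.hN k hk) hu, c.ac_eq (c.hN l hl) h1 (app_lt _ _) e]⟩

theorem trans {v : ℕ} (hv : v < 4096) (h0 : v ≠ 0) (hq : qf v = 0) :
    ∃ k ∈ N, c.ac k (if zT.testBit v = true then 7 else 81) = v := by
  have h1 := MM.orb_cover
  simp only [force_eq, allB_iff, or'_eq_true, not'_eq_true, beq_iff, ite'_eq, tb_eq] at h1
  have h2 := ((h1 v hv).resolve_left h0).resolve_left (not_not.2 hq)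
  split_ifs at h2 ⊢
  exacts [c.orb (by norm_num) _ _ h2, c.orb (by norm_num) _ _ h2]

omit c in
theorem sing_of_zT {v : ℕ} (hv : v < 4096) (hz : zT.testBit v = true) : v ≠ 0 ∧ qf v = 0 := by
  have := (allB_iff 4096 fun v => or' (not' (tb zT v))
    (and' (not' (Nat.beq v 0)) (Nat.beq (qf v) 0))).1 (by decide +kernel) v hv
  simp only [or'_eq_true, not'_eq_true, and'_eq_true, beq_iff, tb_eq] at this
  exact this.resolve_left (not_not.2 hz)

theorem trans7 {v : ℕ} (hv : v < 4096) (hz : zT.testBit v = true) : ∃ k ∈ N, c.ac k 7 = v := by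
  have := c.trans hv (sing_of_zT hv hz).1 (sing_of_zT hv hz).2
  rwa [if_pos hz] at this

variable [Finite G] (h81 : ¬ 3 ^ 4 ∣ Nat.card G)
include h81

omit [Finite G] in
theorem zT_ac {g : G} (hg : g * z = z * g) {v : ℕ} (hv : v < 4096) (hz : zT.testBit v = true) :
    zT.testBit (c.ac g v) = true := by
  by_contra hc
  have sing : ∀ g, g * z = z * g → ∀ v < 4096, v ≠ 0 ∧ qf v = 0 → c.ac g v ≠ 0 ∧ qf (c.ac g v) = 0 :=
    fun g hg v hv h => ⟨fun e => h.1 (c.ac_inj hg hv (by norm_num) (e.trans (c.ac_zero hg).symm)),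
      (c.qf_ac hg hv).trans h.2⟩
  have h1 := sing g hg v hv (sing_of_zT hv hz)
  obtain ⟨k, hk, e1⟩ := c.trans7 hv hz
  obtain ⟨l, hl, e2⟩ := c.trans (c.ac_lt hg hv) h1.1 h1.2
  rw [if_neg hc] at e2
  have k1 := c.hN k hk
  have l1 := c.hN l hl
  have e3 : c.ac (l⁻¹ * (g * k)) 7 = 81 := by
    rw [c.ac_mul (invH l1) (mulH hg k1) (by norm_num), c.ac_mul hg k1 (by norm_num), e1, ← e2,
      c.ac_inv l1 (by norm_num)]
  have h2 : {w | ∃ g ∈ centralizer ({z} : Set G), c.ac g 7 = w} =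
      ((Finset.range (2 ^ 12)).filter fun v => and' (not' (Nat.beq v 0)) (Nat.beq (qf v) 0) = true :
        Finset ℕ) := by
    ext w
    simp only [Finset.coe_filter, Finset.mem_range, and'_eq_true, not'_eq_true, beq_iff,
      Set.mem_ofPred_eq]
    constructor
    · rintro ⟨a, ha, rfl⟩
      exact ⟨c.ac_lt (LA.mem_cent.1 ha) (by norm_num), sing a (LA.mem_cent.1 ha) 7 (by norm_num)
        (by decide +kernel)⟩
    · rintro ⟨w1, w2, w3⟩
      obtain ⟨m, hm, e⟩ := c.trans w1 w2 w3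
      have m1 := c.hN m hm
      split_ifs at e
      · exact ⟨m, LA.mem_cent.2 m1, e⟩
      · exact ⟨m * (l⁻¹ * (g * k)), LA.mem_cent.2 (mulH m1 (mulH (invH l1) (mulH hg k1))), by
          rw [c.ac_mul m1 (mulH (invH l1) (mulH hg k1)) (by norm_num), e3, e]⟩
  obtain ⟨t, ht, o3, a, e⟩ := c.three
  have h4 := dvd_card_of_action (H := centralizer {z}) (S := (· < 4096)) (f := c.ac)
    (fun g hg v => c.ac_lt (LA.mem_cent.1 hg)) (fun v => c.ac_one)
    (fun g hg k hk v => c.ac_mul (LA.mem_cent.1 hg) (LA.mem_cent.1 hk)) (x := 7) (by norm_num)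
    (LA.mem_cent.2 (c.hN t ht)) (c.ac_eq (c.hN t ht) (by norm_num) (by norm_num) e)
  rw [h2, Set.ncard_coe_finset, ← cntPow_eq, o3, show cntPow 12 _ = 2079 by decide +kernel] at h4
  exact h81 ((Dvd.dvd.trans (by norm_num) h4).trans (card_subgroup_dvd_card _))

include c in
theorem conj_D {g : G} (hg : g * z = z * g) : ∃ e ∈ E, g * D * g⁻¹ = e * D ∨
    g * D * g⁻¹ = e * (D * D) := by
  have hD := c.hN _ c.D_mem
  have g1 := mulH (mulH hg hD) (invH hg)
  have a7 : app mD 7 = 344 := by decide +kernel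
  have b7 : app mD2 7 = 351 := by decide +kernel
  have semi : ∀ k ∈ N, ∀ x, x = 344 ∨ x = 351 → c.ac k x = app mD (c.ac k 7) ∨
      c.ac k x = app mD2 (c.ac k 7) := fun k hk x hx => by
    have k1 := c.hN k hk
    have l7 := c.ac_lt k1 (by norm_num : 7 < 4096)
    have h1 : c.ac k 344 = c.ac (k * D * k⁻¹) (c.ac k 7) := by
      rw [← c.ac_mul (mulH (mulH k1 hD) (invH k1)) k1 (by norm_num), inv_mul_cancel_right,
        c.ac_mul k1 hD (by norm_num), c.ac_D (by norm_num), a7]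
    have h2 : c.ac k 351 = c.ac k 7 ^^^ c.ac k 344 := c.ac_xor k1 (v := 7) (w := 344)
      (by norm_num) (by norm_num)
    rcases c.hD k hk with e | e <;> rw [e] at h1
    · rw [c.ac_D l7] at h1
      rcases hx with rfl | rfl
      exacts [Or.inl h1, Or.inr (by rw [h2, h1, (mD_facts l7).1])]
    · rw [c.ac_D2 l7] at h1
      rcases hx with rfl | rfl
      exacts [Or.inr h1, Or.inl (by rw [h2, h1, (mD_facts l7).2.1])]
  have key := eq_app_D (ψ := c.ac (g * D * g⁻¹)) (fun v hv w hw => c.ac_xor g1 hv hw)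
    fun u hu hz => by
      obtain ⟨k, hk, e1⟩ := c.trans7 (c.ac_lt (invH hg) hu) (c.zT_ac h81 (invH hg) hu hz)
      obtain ⟨l, hl, e2⟩ := c.trans7 hu hz
      have k1 := c.hN k hk
      have l1 := c.hN l hl
      have m1 := mulH (invH l1) (mulH hg k1)
      have h7 : c.ac (l⁻¹ * (g * k)) 7 = 7 := by
        rw [c.ac_mul (invH l1) (mulH hg k1) (by norm_num), c.ac_mul hg k1 (by norm_num), e1,
          c.ac_inv' hg hu, ← e2, c.ac_inv l1 (by norm_num)]
      have h1 := fix_seven (fun v hv => c.ac_lt m1 hv) (fun v hv w hw => c.ac_xor m1 hv hw)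
        (fun v hv w hw => c.ac_inj m1 hv hw) (fun v hv => c.zT_ac h81 m1 hv) h7
      have h2 : ∀ x, x = 344 ∨ x = 351 → c.ac (l⁻¹ * (g * k)) x = 344 ∨
          c.ac (l⁻¹ * (g * k)) x = 351 := by
        rintro _ (rfl | rfl)
        · exact h1
        · rw [show c.ac _ 351 = _ from c.ac_xor m1 (v := 7) (w := 344) (by norm_num)
            (by norm_num), h7]
          exact h1.symm.imp (fun e => by rw [e]; rfl) fun e => by rw [e]; rfl
      have h3 : c.ac (k⁻¹ * D * k⁻¹⁻¹) 7 = 344 ∨ c.ac (k⁻¹ * D * k⁻¹⁻¹) 7 = 351 :=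
        (c.hD _ (inv_mem hk)).imp (fun e => by rw [e, c.ac_D (by norm_num), a7])
          fun e => by rw [e, c.ac_D2 (by norm_num), b7]
      have n1 := mulH (mulH (invH k1) hD) (invH (invH k1))
      have h4 := semi l hl _ (h2 _ h3)
      rwa [← c.ac_mul m1 n1 (by norm_num), ← c.ac_mul l1 (mulH m1 n1) (by norm_num), e2,
        show l * (l⁻¹ * (g * k) * (k⁻¹ * D * k⁻¹⁻¹)) = g * D * k by group,
        c.ac_mul (mulH hg hD) k1 (by norm_num), e1, ← c.ac_mul (mulH hg hD) (invH hg) hu] at h4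
  have fin : ∀ a b, a * z = z * a → b * z = z * b → (∀ v < 4096, c.ac a v = c.ac b v) →
      ∃ e ∈ E, a = e * b := fun a b ha hb h => by
    have h1 := mulH ha (invH hb)
    obtain ⟨q, hq, e⟩ := c.xs.exists_inner (MulAut.conj (a * b⁻¹)).toMonoidHom
      (by change _ * z * _ = z; rw [h1, mul_inv_cancel_right]) fun x hx => by
        obtain ⟨v, hv, n, -, rfl⟩ := (c.mem_E x).1 hx
        obtain ⟨-, m, hm, e⟩ := c.ac_spec h1 hv
        rw [c.ac_mul ha (invH hb) hv, h _ (c.ac_lt (invH hb) hv), c.ac_inv' hb hv] at e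
        change a * b⁻¹ * _ * _ = _ ∨ a * b⁻¹ * _ * _ = _
        rw [show a * b⁻¹ * (c.s v * z ^ n) * (a * b⁻¹)⁻¹ =
          a * b⁻¹ * c.s v * (a * b⁻¹)⁻¹ * (a * b⁻¹ * z ^ n * (a * b⁻¹)⁻¹) by group, e,
          conj_pow_z h1]
        interval_cases m
        exacts [Or.inl (by simp), Or.inr (by group)]
    refine ⟨a * b⁻¹, (mul_mem_cancel_left (inv_mem hq)).1 (c.hc _
      (mulH (invH (c.xs.z_comm q hq)) h1) fun x hx => ?_), by group⟩
    have : a * b⁻¹ * x * (a * b⁻¹)⁻¹ = q * x * q⁻¹ := e x hx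
    calc _ = q⁻¹ * (q * x * q⁻¹) * (a * b⁻¹) := by group
      _ = _ := by rw [← this]; group
  rcases key with h | h
  · obtain ⟨e, he, e'⟩ := fin _ D g1 hD fun v hv => by rw [h v hv, c.ac_D hv]
    exact ⟨e, he, Or.inl e'⟩
  · obtain ⟨e, he, e'⟩ := fin _ (D * D) g1 (mulH hD hD) fun v hv => by rw [h v hv, c.ac_D2 hv]
    exact ⟨e, he, Or.inr e'⟩

end Cod

end Cfsg.Agent.J4.Rc
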