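import Cfsg.Agent.J4.Rec4
import Cfsg.Agent.J4.Rec5
import Cfsg.Agent.J4.HModel

/-! `C(d) = 6 · M22`, `C(z)` of characteristic 2 and `d` not weakly closed give the Janko-four type. -/

set_option autoImplicit false

namespace Cfsg.Agent.J4.Rc.Six

open Cfsg Cfsg.Agent.Comp Cfsg.Agent.Spor Cfsg.Agent.Spor.M24C Subgroup

variable {G : Type*} [Group G] [Finite G] {d z : G} (h : Six d z)
include h

theorem exists_cod {σ : G} (hσ : σ * d * σ⁻¹ = d⁻¹) {E : Subgroup G} (xs : TT.XS E z)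
    (hcard : Nat.card E = 2 ^ 13) (hn : ∀ a, a * z = z * a → ∀ e ∈ E, a * e * a⁻¹ ∈ E)
    (hc : ∀ a, a * z = z * a → (∀ e ∈ E, e * a = a * e) → a ∈ E) :
    ∃ D, zpowers D = zpowers d ∧ Nonempty (Cod z D E (normalizer (zpowers d : Set G))) := by
  have hNz : ∀ k ∈ normalizer (zpowers d : Set G), k * z = z * k := fun k hk =>
    h.comm_z (h.conj_cases hk)
  have hNE : normalizer (zpowers d : Set G) ≤ normalizer (E : Set G) := fun k hk =>
    mem_normalizer_fintype (hn k (hNz k hk))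
  have hL : centralizer {d} ≤ E ⊔ normalizer (zpowers d : Set G) := le_sup_of_le_right (by
    rw [← TT.centralizer_zpowers_eq]; exact centralizer_le_normalizer _)
  have hσN : σ ∈ normalizer (zpowers d : Set G) := mem_normalizer_fintype (by
    rintro _ ⟨m, rfl⟩
    rw [← conj_zpow, hσ]
    exact zpow_mem (inv_mem (mem_zpowers d)) m)
  set L := E ⊔ normalizer (zpowers d : Set G)
  have hEL : E ≤ L := le_sup_left
  have hLz : ∀ a ∈ L, a * z = z * a := fun a ha =>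
    mc'.1 ((sup_le (fun e he => mc'.2 (xs.z_comm e he)) fun k hk => mc'.2 (hNz k hk) :
      L ≤ centralizer {z}) ha)
  have xs1 : TT.XS (E.subgroupOf L) ⟨z, hL (mc'.2 h.zd)⟩ :=
    ⟨xs.z_mem, fun e => xs.z_ne (congrArg Subtype.val e), Subtype.ext xs.z_sq,
      fun x hx => Subtype.ext (xs.z_comm x hx),
      fun x hx y hy => (xs.comm x hx y hy).imp Subtype.ext Subtype.ext,
      fun x hx hc => (xs.cent x hx fun y hy => congrArg Subtype.val (hc ⟨y, hEL hy⟩ hy)).imp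
        Subtype.ext Subtype.ext, by
        obtain ⟨x, hx, h1, h2⟩ := xs.nonab
        exact ⟨⟨x, hEL hx⟩, hx, fun e => h1 (congrArg Subtype.val e),
          fun e => h2 (congrArg Subtype.val e)⟩⟩
  have card1 : Nat.card (E.subgroupOf L) = 2 ^ 13 := by
    rw [Nat.card_congr (subgroupOfEquivOfLe hEL).toEquiv, hcard]
  have hJ := (h.restrict hL).jf (σ := ⟨σ, mem_sup_right hσN⟩) (Subtype.ext hσ) xs1 card1
    (fun a _ e he => hn a (hLz a a.2) e he)
    (fun a _ ha => hc a (hLz a a.2) fun e he => congrArg Subtype.val (ha ⟨e, hEL he⟩ he))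
    fun a _ => by
      obtain ⟨e, he, n, hn', e'⟩ := (JF.mem_sup_iff hNE).1 a.2
      exact ⟨⟨e, hEL he⟩, he, ⟨n, mem_sup_right hn'⟩,
        (h.conj_cases hn').imp Subtype.ext Subtype.ext, Subtype.ext e'⟩
  obtain ⟨m⟩ := exists_HM hJ
  have eE : E.subgroupOf L = m.E := eq_of_le_of_card_ge (Grp.le_map_pCore
    (fun e he => mc'.2 (xs1.z_comm e he)) (fun a _ => mem_normalizer_fintype fun e he =>
      hn a (hLz a a.2) e he) xs1.isPGroup) (by rw [m.card_E, card1])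
  have eD : zpowers (m.d : G) = zpowers d := by
    have := congrArg (Subgroup.map L.subtype) m.P_eq
    rw [MonoidHom.map_zpowers, MonoidHom.map_zpowers] at this
    exact this.symm
  have oD : orderOf (m.d : G) = 3 := (orderOf_coe _).trans m.d_ord
  have rep : ∀ {k A c}, m.R k A c → (k : G) ∈ normalizer (zpowers d : Set G) ∧
      ∀ v < 4096, ∃ a, (k : G) * m.s v * (k : G)⁻¹ = m.s (app A v) * z ^ a := fun {k A c} r => by
    refine ⟨?_, fun v hv => ⟨_, congrArg Subtype.val (r.act v hv)⟩⟩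
    have := le_normalizer_map L.subtype ⟨k, r.memN, rfl⟩
    rwa [MonoidHom.map_zpowers] at this
  refine ⟨m.d, eD, ⟨⟨fun v => m.s v, xs, hn, hc, hNz, fun k hk => ?_, (rep m.rep_d).1,
    fun v hv w hw => congrArg Subtype.val (m.s_mul v hv w hw),
    fun v hv => congrArg Subtype.val (m.s_sq hv), fun g => ⟨fun hg => ?_, ?_⟩,
    fun v hv w hw a ha b hb e => ((m.s_eq_iff hv hw ha hb).1 (Subtype.ext e)).1, fun A hA => ?_,
    (rep m.rep_d).2, ?_⟩⟩⟩
  · rw [← eD] at hk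
    exact ((JF.mem_zpowers_three oD).1 ((hk _).1 (mem_zpowers _))).resolve_left fun e => by
      rw [conj_eq_one_iff] at e
      rw [e, orderOf_one] at oD
      omega
  · obtain ⟨v, hv, a, ha, e⟩ := m.mem_E'.1 (eE.le (show ⟨g, hEL hg⟩ ∈ E.subgroupOf L from hg))
    exact ⟨v, hv, a, ha, congrArg Subtype.val e⟩
  · rintro ⟨v, hv, a, -, rfl⟩
    exact mul_mem (eE.ge (m.s_mem_E hv)) (pow_mem xs.z_mem a)
  · simp only [List.mem_cons, List.not_mem_nil, or_false] at hA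
    rcases hA with rfl | rfl | rfl | rfl | rfl
    exacts [⟨_, rep m.rep_x⟩, ⟨_, rep m.rep_f⟩, ⟨_, rep m.rep_u⟩, ⟨_, rep m.rep_σ⟩,
      ⟨_, rep m.rep_d⟩]
  · obtain ⟨k, r⟩ := m.exists_R_of_isK (A := 0x760f8ff5bbcd97e2d97f86c4e8823a2d10ec)
      (c := 0xb8ec69b6457922c3c1744a142ab820) (by decide +kernel)
    obtain ⟨k, r, e⟩ := r.exists_odd (n := 3) (by decide) (by decide +kernel)
    refine ⟨k, (rep r).1, (orderOf_coe _).trans (orderOf_eq_prime (hp := ⟨by norm_num⟩) e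
      fun e' => absurd ((e' ▸ r).unique m.R_one).1 (by decide +kernel)), ?_⟩
    have := (rep r).2 7 (by norm_num)
    rwa [show app 0x760f8ff5bbcd97e2d97f86c4e8823a2d10ec 7 = 7 by decide +kernel] at this

theorem jf_of_char_two
    (hc : ∀ a, a * z = z * a → (∀ e ∈ twoCoreOfCentralizer z, e * a = a * e) →
      a ∈ twoCoreOfCentralizer z) {g : G} (hy : g * d * g⁻¹ * d = d * (g * d * g⁻¹))
    (hny : g * d * g⁻¹ ∉ zpowers d) : IsOfJankoFourTypeWith z (zpowers d) := by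
  have : Fact (Nat.Prime 3) := ⟨by norm_num⟩
  have hEz : ∀ e ∈ twoCoreOfCentralizer z, e * z = z * e := fun e he => mc'.1 (JF.E_le_H he)
  have hn : ∀ a, a * z = z * a → ∀ e ∈ twoCoreOfCentralizer z,
      a * e * a⁻¹ ∈ twoCoreOfCentralizer z := fun a ha e => JF.conj_mem_E (mc'.2 ha)
  have hE : IsPGroup 2 (twoCoreOfCentralizer z) := Grp.map_pCore_isPGroup 2 _
  obtain ⟨xs, hcard⟩ := h.xs_E hE (hc z rfl hEz) hEz hn hc hy hny
  obtain ⟨σ, hσ⟩ := h.exists_inv hy hny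
  obtain ⟨D, eD, ⟨c⟩⟩ := h.exists_cod hσ xs hcard hn hc
  refine h.jf hσ xs hcard hn hc fun a ha => ?_
  generalize twoCoreOfCentralizer z = E at *
  have oD : orderOf D = 3 := by rw [← Nat.card_zpowers, eD, Nat.card_zpowers, h.d_ord]
  have hD : D ∈ zpowers d := eD ▸ mem_zpowers D
  have hN : zpowers d ≤ normalizer (E : Set G) :=
    zpowers_le.2 (mem_normalizer_fintype (hn d h.zd.symm))
  have h1 : a * D * a⁻¹ ∈ E ⊔ zpowers d := by
    obtain ⟨e, he, e' | e'⟩ := c.conj_D h.not_dvd_card ha <;> rw [e']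
    exacts [mul_mem_sup he hD, mul_mem_sup he (mul_mem hD hD)]
  obtain ⟨x, hx, e⟩ := LA.exists_conj_zpowers (p := 3) (L := E ⊔ zpowers d) (by
    have e := Grp.card_sup_mul_card_inf_of_le_normalizer hN
    rw [show zpowers d ⊓ E = ⊥ from eq_bot_iff.2 fun p hp => h.not_mem_two hE hp.1 hp.2,
      card_bot, mul_one, Nat.card_zpowers, h.d_ord, sup_comm, hcard] at e
    rw [e]; norm_num) (mem_sup_right hD) h1 oD
    ((MulEquiv.orderOf_eq (MulAut.conj a) D).trans oD)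
  have h2 : x * a ∈ normalizer (zpowers d : Set G) := by
    rw [← eD]
    refine mem_normalizer_fintype ?_
    rintro _ ⟨m, rfl⟩
    rw [← conj_zpow, show x * a * D * (x * a)⁻¹ = x * (a * D * a⁻¹) * x⁻¹ by group]
    exact zpow_mem e m
  obtain ⟨q, hq, p, hp, e'⟩ := (JF.mem_sup_iff hN).1 (inv_mem hx)
  exact ⟨q, hq, p * (x * a), h.conj_cases (mul_mem (le_normalizer hp) h2), by
    rw [← mul_assoc, ← e']; group⟩

theorem exists_conj (S : Sylow 3 G) (g : G)
    (hng : ((center S).map (S : Subgroup G).subtype).map (MulAut.conj g).toMonoidHom ≤ S)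
    (hne : ((center S).map (S : Subgroup G).subtype).map (MulAut.conj g).toMonoidHom ≠
      (center S).map (S : Subgroup G).subtype) :
    ∃ k, k * d * k⁻¹ * d = d * (k * d * k⁻¹) ∧ k * d * k⁻¹ ∉ zpowers d := by
  have : Fact (Nat.Prime 3) := ⟨by norm_num⟩
  obtain ⟨T, h1, h2, h3⟩ := h.exists_sylow_G
  obtain ⟨x, rfl⟩ := MulAction.exists_smul_eq G T S
  have mem : ∀ a, a ∈ ((x • T : Sylow 3 G) : Subgroup G) ↔ x⁻¹ * a * x ∈ T := fun a => by
    rw [Sylow.coe_subgroup_smul, mem_pointwise_smul_iff_inv_smul_mem]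
    simp only [MulAut.smul_def, MulAut.conj_inv_apply]
    rfl
  have eZ : (center (x • T : Sylow 3 G)).map ((x • T : Sylow 3 G) : Subgroup G).subtype =
      zpowers (x * d * x⁻¹) := by
    refine le_antisymm ?_ (zpowers_le.2 ⟨⟨x * d * x⁻¹, (mem _).2 (by simpa [mul_assoc] using h2)⟩,
      mem_center_iff.2 fun a => Subtype.ext ?_, rfl⟩)
    · rintro _ ⟨a, ha, rfl⟩
      obtain ⟨n, e⟩ := h3 _ ((mem _).1 a.2) fun r hr => by
        have : x * r * x⁻¹ * a = a * (x * r * x⁻¹) := congrArg Subtype.val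
          (mem_center_iff.1 ha ⟨_, (mem _).2 (by simpa [mul_assoc] using hr)⟩)
        calc _ = x⁻¹ * (x * r * x⁻¹ * a) * x := by group
          _ = _ := by rw [this]; group
      exact ⟨n, by
        change (x * d * x⁻¹) ^ n = a
        rw [conj_zpow, show d ^ n = _ from e]; group⟩
    · have := mc'.1 (h1 ((mem _).1 a.2))
      change (a : G) * (x * d * x⁻¹) = x * d * x⁻¹ * a
      calc _ = x * (x⁻¹ * a * x * d) * x⁻¹ := by group
        _ = _ := by rw [this]; group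
  rw [eZ, MonoidHom.map_zpowers] at hng hne
  have h4 := (mem _).1 (hng (mem_zpowers _))
  change x⁻¹ * (g * (x * d * x⁻¹) * g⁻¹) * x ∈ T at h4
  rw [show x⁻¹ * (g * (x * d * x⁻¹) * g⁻¹) * x = x⁻¹ * g * x * d * (x⁻¹ * g * x)⁻¹ by group] at h4
  refine ⟨x⁻¹ * g * x, mc'.1 (h1 h4), fun ⟨n, e⟩ => hne (LA.zpowers_eq_of_mem ⟨n, ?_⟩
    (MulEquiv.orderOf_eq _ _))⟩
  change (x * d * x⁻¹) ^ n = g * (x * d * x⁻¹) * g⁻¹
  rw [conj_zpow, show d ^ n = _ from e]
  group

end Cfsg.Agent.J4.Rc.Six
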