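import Cfsg.Agent.J4.VOrb

/-! Tables for the elementary abelian group of order `2 ^ 10` of octad type. -/

set_option autoImplicit false

namespace Cfsg.Agent.J4.TN

open Cfsg Cfsg.Agent.Comp Cfsg.Agent.Spor Cfsg.Agent.Spor.M24C Subgroup VA
open scoped Pointwise

/-- A basis of the even subsets of the octad `5279` modulo the octad. -/
def aB : List ℕ := [5129, 3, 5, 1049, 15, 17]
/-- The elements fixing the octad pointwise. -/
def tQ : ℕ := 0xa20b75c6464b5cc9a9f63c2a418820abee5339abb4a2c829093ce841882094dd1b5e89354ac42a0b3bda4188206c22e496b65d2ec7aa663a244188209c8cbbd90573d2ca29b13d60418820835662a5f78a2ccaaa4e3d26418820451368ae6e2c0cc92ab73b5e4188207d6c971a11bcd6c6aa853c904188204950f6c0d2a2e6c72af53c6c418820b5de894d6da9a0c8a8b43b9241882033a70abd349590c2aa2d3dd64188205c613a22d56a5ecba9d2394c41882071a4d7d4a89de8c4a9703da24188208adb2452ef816acb28d33a5c4188202a695835d34464c32acf3aee418820bdab49ca307b9ac5a928398a418820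
/-- The classes of the even subsets of the octad. -/
def voM : ℕ := 0x1000000000000000000000000400000000000100000040000000000000000000000400000010000000000000000000400000000000000000000000010040000000000000000000000001000000000000000000040000001000000000000000000000000001000000400000000000100000000000000000000000040000000000000000400000000100000000000400000000000000000000001000000000010000000000000000000000400000000000000000001000000004000000000000000000100000000400000000000000000001000000000000000000000040000004000000000000000000000010000000000040000000010000000000000000000000100000000400000000000000000001000000000000000000000040000000000400000000000000000000001000000000004000000001000000000000000000000000004000000001000000000004000000000000000000000010000001000000000000000000000040000000000000000000100000000400000000000040000000000000000000000001000000000000000000040000001000000000000000000000010000004000000000001000000000000000000000000400000000001000000000000000000000000400000000000100000040000000000000000000000000040000001000000000000000000040000000000000000000000001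
/-- The indices of the conjugates of `z`. -/
def zA : ℕ := 0x9900000000090092004400210088001000990009000000902200440800810010210100201202001080840402020010100848400210000212121000000002121030c000000000c03208010400802040108010402040208010030c0000c0000030000000030033003000000000909090900000000842184212bbdd442bd2bbd2a
/-- The list of these indices. -/
def tZ : ℕ := 0x3fbfe3f7fd3cff33c3f03bdecbaee879ce4f8fe0373dc36fdb35fd7343d0339cd72ac9b1fc4f0cc02f9bd2ecb86d8b56cdb02bbaceaea9a9da5688a02779ca6f9aa5d962459023d8e2358c20d82205801f97e1f37c9cb729c1701bd6ddac6999b6458a6017b5c16a5855a5454b501354d12f4b91b46901400dd370d1340cd330c13009b260932408b220832005f168551404f128451003d0ec390e0370d4340cc320c02f0b82c0a8260841f0741c06c1a0601504c110400f0340c02c0a0200500c01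
/-- Their adjacency matrix. -/
def tN : ℕ := 0x3f9860180a408c0a140a408a5006302d000014205fe0606041212120a0c121410506032d000014206fe01818140c40c10a2092145060032d00001420779818602092121441140c208560302d000014207b8186060a1221410a410c0a281804ad000014207d860601c10c0c14410a12410298482d000014207e8601861421120a141421142801c82d000014207f018181a0c0c0a0a0a0c0a0828184ad00001420303fa82811094140a240a2441442034048909000305fd050442420a108a111114124034048909000486fd02822109412110c4408c1423040489090004877a85008c20a0c441208a21424304048909000037b82851124140c111222112089484048909000037d8502c4090a12440c11440a10c8404890900004fe850522424121222144220a0904c04890900004ff02828890a0c088c08888a09084c04890900060303fc84220a4221089410941061200b450002060485fb009410908a44220c214062100b450002018306fb02414109109241410c1602100b4500020184877c8108a424442108a2414601200b450002006037b84c20a0911420914420a184080b45000200604fd830914244409420a0920980c00b450002001837e8324414222242441240a018c00b45000200184ff0490a090889090a090a081c080b45000202828483fc0a222244091092105241212034084002850305fa1111110a14424408542211203408400502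8306f8c4408890c2210925024211203408400505048779208c4421208c20c5042121203408400050504fb922211091211241228094092034084000502837d8c1122420c44090c28108c12034084000285037ea14444242122422102890c1203408400028284ff40888890c08890c08290c0920340840022224440bfa82830408911410314421104830800089111215fd050302124442083412411048308001144088c6fa850481210a21430414211048308004408a21277d028480c42088a3014241104830800112211127b8502830c24111448208911048308004411440c7d8285031209440a480a109104830800224422217e850504a1422241048a091104830800088888c0ff028284c09088a084a090910483080040892111283fc828242240a21205242089210080212440c4505fb0281091211121054220892100800c109222286fb05009440c08a15024208921008012420c08d077c85042089244125042208921008012241211057b84850922121140a80920892100800c090c4402fd830542110c220c2810a08921008021422122057e8302a44421440c028920892100804090c08882ff04829088c088c08290a08921008010c1090930483fe02220c22412410604522200402420c24248305fe008c109092114060452220040091410a430306f9811142410a141600452220040420a2410c8487798440a10c21214600452220040421442090304fb86110a4209408a180452220040090a094204837d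86441409240c209804522200402441242403037e81a24124420c0a01845222004010a090908484ff0188a09090c0a081845222004014408a0a1818603f8a408a0c3050064a200008c020a141416060605fa0a141210305064a200008c00a121420e018186fc10c14408350604a200008c0410c209418601877941220923005604a200008c00a0c0a410186067bc1120a2104a8184a200008c04112410a0601867d940c410c4802984a200008c014211414060601fe8a211412482801ca200008c020c0a0a0818181ff20c0a0c0848281ca200008c00a0a0c40c08a0a143f98186006305018c000031020c1212121414120dfe0606006030518c00003104114408c1220940a6f98601860035018c0000310142092120c1420c177e0181860300518c0000310410a21120c410a0a7b8601861804a818c000031014410c0c120a41417d81860618480298c00003100a141221211414147e86060181c82818c000031020a0c0c0c0a0a0a0ff01818181848298c00003102440a22209112140a83fa848241205440508410010a11111244440a1285fd0304221054405084100090c08c410a2120c506fa830242150440508410042124408c2088c125077d04842125044050841000912112224111212057b85048940a84405084100420c221109440c0c057d8283108c284405084100242144444222212102fe8503090c02c40508410010c088889088c0c082ff028490c082c405084100409141092240c42230283fa84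203142022844200214420a411211108b0505fd0240341202284420012221410c40c089148286fd042304120228442000c088a4208922244485077a824301420228442000c1114242212111103057b82894820a02284420012440a09110c44440302fd8510c80a2022844200212241424421222204857e8509048a20228442004088a09088c088888482ff029084a0a02284420022422420c1090910e048303f86124103180c00100889094120c242246030485f86211403180c001011241094142410891830306fe0214103180c00104410c20a0a10a44218484877e0121403180c00101142090a140942420604837b98408a03180c0010440924140a420909060304fd980c2083180c001022244241412424240183037e818c0a03180c0010089090a0a0909090818484ff01c0a083180c00105030501806048483182850183fa2110000306c100504828618303048185028185f91440000306c105048281818484848060282866fc4220000306c100503050606030303060505067788888000306c102848286001830304e05028607ba2110000306c1002830501e0484830602850607d91440000306c10283050606030303001850501fec4220000306c10028482818184848481828281ff08888000306c10185018283018505003048604913fa200000aa2a0182818500486028548301830445f9100000aa2a006028602c818285048481848226fc400000aa2a006050605030605050303060308f78880000a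a2a0602860504860282804830183117ba200000aa2a06050602803018502b0486048447d9100000aa2a0018501853060502830306030227ec400000aa2a001828182848182828484818488ff0880000aa2a003060484d02818185018305022113f800045314048183030285018180506048291445f800045314048184848028286065018482844226f80004531400306030305050606050603050888f7800045314004818303285060602860482822117b800045314030604848502860600281830511447d80004531403060303005050181a860305044227e80004531400481848482828181828184828888ff0000453140007f80000000007f807f80000000000e6d98d9c07f800000007f800000007f800000000daba556a00000007fff8000007f8000000000000bc7c38f107f8000000000007fff80000000000077e0001ff07f80000000007f80007f800000000069572a55600000007f8000007f8000007f800000593b4c8cd07f8000007f8000000000007f8000003e1c8f1c3000007f80007f80007f800000000000387d7103b0007f800000007f807f8000000000005c9ab2935000007f800000007f80007f800000006a96d44ae000007f8000007f800000007f80000007ee7e0070007f8000007f80000000007f80000063d1bd909000007f807f800000007f800000000055b1db49200000007f80007f8000007f800000003671e6c6400000007f807f8000007f8000000000768e69c580007f800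07f80000000007f80000000716e17da0000007fff800000000000000000007f92b715b56000000000007fff80000000007f800024db136cd0007fff8000000000000000007f800040fce0fc300000000000000000007f807f807f80471d06e3b0000000000000000000007fff80007fa33ac97350000000007f807f8000000000007f801556a9aae0000000007fff80000000000000007fb18de639c0007f807f8000000000000000007f80524bda36a00000000000000000007fff807f80006427bc2f100000000000000000000000007fffff80007fdff07fff8000000000000000000000007fed48d5a560000000007f80007f800000007f80005b24b364d07f80007f80000000000000007f80003f0370f83000000000000000007f807f80007f8038e28ee1b000000000000000007fff800000007fdcc54d725000000000007f807f80000000007f806aa92baa600000000000007fff8000000000007fce726739807f807f800000000000000000007f802db45ab68000000000000000007f80007fff80001bd83c6f0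
/-- The stars. -/
def tS : ℕ := 0x1020101004040081082010104020010000000000040082020810204008400808201004000000000040104008020084021008400840021000000000000104008410201008101020102001400000000000080808400082020440100820042010000000000002020400c00808104008104002104000000000002040202001010100a040204004020100000000000081010120404020202040200201040000000000104008081008404002008204104002000000000004010404020201010201040208080080000000004008201008400808040200821004200000000000010201020401020204040104080088000000000008101020201010100104040081402000000000000204020101040404010202010088080000000000202040404020202000810101010402000000000000808080808080808080808080808080000000000000000000007f80000000000000000452220040007f80000000000000000000000000404890900000000000007f800000000000000000208921008000007f80000000000000000000000000b4500020000000007f8000000000000000000011048308000000007f80000000000000000000001203408400000000000000007f800000000000004a200008c07f80000000000000000000000000002d000014200000000000000000007f8000000000440508410000000000000000000000000000007f8000453140000000000000000000007f800000002022844200000000000000000000000000007f8000000aa2a000000000000000000000007f80000003180c00100000000000000000000000007f80000000306c1000000000000000007f80000000000018c0000310000000000000000000000000000000000000000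
/-- The exterior product. -/
def tW : ℕ := 0x1f23752f2616a115b7fde05caad8dbe9deca40903b2a776fb632a817f76dc455a8984bcdd7c8007c8004b8dc584936f44f8f7cfb8713abb5c9cb809cb80abb5cb87138f7cf6f44f584934b8dc7c8003752e001f3155a62217bc9ad5fee08eba5ddce80977aea0373b5726823fb698555ec884b8dd7cc004bcdc7cc006b05f5c083bb31f8c3c39bf9cacf409bf9cacf40bb31f8c3c36b05f5c0834bcdc7cc0026161155ac001f933534db295e8658fd20dce6c0963a1a576cb0339837f46b055584984d0cd7e4005a8936985f7e4004d4cca9b5f9ab938d7ccbe7009ab93a9b5fbe7008d7cc6985f5a8934d4cc7e400115bd2217033535001f8ef645dc288cd6cdfe200917bda2370b3735803f86f4455c0884d4cd7e0006dc4f5ec834d0cc7e0009df8faef43bd30c8e3c09df8faef43bd30c8e3c06dc4f5ec834d0cc7e000fde3dc9aecdb2a6ef677001ca3451b26d51129809dfbda9b6cbb3268f7f76004a5449b46cd172800817cfb571fa575f9178f72800468d056890628409178fa575fb571f817cf6284056890468d072800caae1fee30e866adc2bb3451a001cb1699122d409aba1aef70b872a8c3fb6445a5008b468d172c00b6313823c396393a234346cd072c0066c5052c8096393a2343b6313823c366c5052c8046cd072c00dbeaeeba6ffd235cd6f426d5a1699b001c1305009bfaeabb6fbd3358d7f466c5a5689b400c170400a775c97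79c837ccb370c544906445070400404c09779ca775cb370c837cc6445054490404c070400eca72dceb3ce6f9fe2381298a22d4b30501001c09cbb2acf73be7398e3f86284a52c8b404c17000090380a0340b0300803c06004050080400c07000090380a0340b0300803c06004050080400c070000902729766f9626a916779de459aa589be5d9ca40000320742f0602a014370dc050a8180bc1d0c800ecb80ebb9ce8793ef78fef78fe8793ebb9cecb800c8000b81c084130f40f0f40f084130b81c0c800a76aea02b3a56a6a22bba9a95aee88aba9dace800742e00033054260203b098150ec080b81d0cc00dbf5cdcf40db35fdc343db35fdc343dbf5cdcf400bc1c0cc000b01f0c0030b01f0c0030bc1c0cc00b62e1b56ecb02f9b36f4bb2d5b86d8bd2cdbe6c0060210542c00039034340b015084180d00d0e400cab13c9b1fce700cd70cc9b1fcab13cd70cce7000a8130981f0e4000d40c0981f0a8130d40c0e4008163d8223083635802388f6058c2088d60d8e2000143d0203003435000380f4050c0080d40d0e000fdfcffefc3fd3ccfe3c0fdfcffefc3fd3ccfe3c00dc0f0ec030d00c0e0000dc0f0ec030d00c0e0006ddbd699ac6b1a66f5b76018a6459b66d91629800dc3d0982c0b0260f4370000a0441b06c11028001144f1545f1545f1144f128401685016850128400140f0541f0541f0140f028000681006810028005a9615ed705856a5c17b5455a5014b5695152d400a8210ec300842a0c03b0441a0000b0681102c002609322083260932208326c9022c8026c9022c800601302003060130200306c1002c0006c1002c004bd2e4b92f4d1354d53446d1a4691b40101405000bc2e0b82f0d0350d43406c1a0681b0000100400374dc374dc334cc334cc344d0344d0304c0304c00741c0741c0340c0340c044100441000400004007c9f27cdf37e5f97e1f8729ca72dcb705c1701c00c8320cc330e4390e0380280a02c0b004010000000000000000000000000000000000000000000000000000000000000000000000000000000000000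
/-- A basis of the fixed space of an octad group of `M22`. -/
def wO : List ℕ := [7, 81, 161, 265, 1987, 2869]

/-- The `k`-th element fixing the octad. -/
noncomputable def qC (k : ℕ) : ℕ := dig 120 1329227995784915872903807060280344575 tQ k
/-- The permutation part of the `i`-th element. -/
noncomputable def qI (i : ℕ) : ℕ := qC (Nat.shiftRight i 6)
/-- The `i`-th index. -/
noncomputable def zl (i : ℕ) : ℕ := dig 10 1023 tZ i
/-- A row of a table of width 160. -/
noncomputable def rw160 (t i : ℕ) : ℕ := dig 160 1461501637330902918203684832716283019655932542975 t i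
/-- The exterior product. -/
noncomputable def wd (p q : ℕ) : ℕ := dig 10 1023 tW (Nat.add (Nat.mul 32 p) q)
/-- The star of `p` as a mask. -/
noncomputable def sm (p : ℕ) : ℕ := M24C.orLT 32 fun q => Nat.shiftLeft 1 (wd p q)
/-- One step of a binary search. -/
noncomputable def lgA (k r x : ℕ) (f : ℕ → ℕ → ℕ) : ℕ :=
  force (Nat.shiftRight x k) fun y => ite' (Nat.beq y 0) (f r x) (force (Nat.add r k) fun r => f r y)
/-- The position of the top bit. -/
noncomputable def lg (x : ℕ) : ℕ :=
  lgA 128 0 x fun r x => lgA 64 r x fun r x => lgA 32 r x fun r x => lgA 16 r x fun r x =>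
    lgA 8 r x fun r x => lgA 4 r x fun r x => lgA 2 r x fun r x => lgA 1 r x fun r _ => r
/-- Remove the top bit. -/
noncomputable def st (x : ℕ) : ℕ := force x fun x => Nat.xor x (Nat.shiftLeft 1 (lg x))

theorem aM_spec {i : ℕ} (hi : i < 1024) : xorSel aB i < 2 ^ 24 ∧ par (xorSel aB i) = 0 ∧
    xorSel aB i &&& 5279 = xorSel aB i := by
  have := (allB_iff 1024 (fun i => force (xorSel aB i) fun m => and' (Nat.blt m 16777216)
    (and' (Nat.beq (par m) 0) (Nat.beq (Nat.land m 5279) m)))).1 (by decide +kernel) i hi
  simp only [force_eq, and'_eq_true, blt_iff, beq_iff] at this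
  exact this

theorem qC_spec {k : ℕ} (hk : k < 16) : okM (qC k) = true ∧ 5279 &&& fixC (qC k) = 5279 := by
  have := (allLT_iff 16 (fun k => force (qC k) fun c => and' (okM c)
    (Nat.beq (Nat.land 5279 (fixC c)) 5279))).1 (by decide +kernel) k hk
  simp only [force_eq, and'_eq_true, beq_iff] at this
  exact this

theorem qC_mul {k l : ℕ} (hk : k < 16) (hl : l < 16) : mulC (qC k) (qC l) = qC (k ^^^ l) := by
  have := (allLT_iff 16 (fun k => force (qC k) fun c => allLT 16 fun l => force (qC l) fun d =>
    Nat.beq (mulC c d) (qC (Nat.xor k l)))).1 (by decide +kernel) k hk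
  simp only [force_eq, allLT_iff, beq_iff] at this
  exact this l hl

theorem shift6_lt {i : ℕ} (hi : i < 1024) : i >>> 6 < 16 := by
  rw [Nat.shiftRight_eq_div_pow]; omega

theorem okM_qI {i : ℕ} (hi : i < 1024) : okM (qI i) = true := (qC_spec (shift6_lt hi)).1

theorem qC_mem {k : ℕ} (hk : k < 16) : mc (qC k) ∈ fixS (setOf' 5279) := by
  rw [mem_fixS_setOf' (by norm_num), code_mc (qC_spec hk).1]
  exact (qC_spec hk).2

theorem qI_mul {i j : ℕ} (hi : i < 1024) (hj : j < 1024) :
    mc (qI i) * mc (qI j) = mc (qI (i ^^^ j)) := by
  rw [mc_mul (okM_qI hi) (okM_qI hj)]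
  exact congrArg mc ((qC_mul (shift6_lt hi) (shift6_lt hj)).trans
    (congrArg qC Nat.shiftRight_xor_distrib.symm))

theorem exists_qC {g : M24} (hg : g ∈ fixS (setOf' 5279)) : ∃ k < 16, g = mc (qC k) := by
  rw [← fixK_six] at hg
  have := chainM.forall_fixK (fun c => anyLT 16 fun k => Nat.beq c (qC k)) 6 (by norm_num)
    (by decide +kernel) g hg
  simp only [anyLT_iff, beq_iff] at this
  obtain ⟨k, hk, e⟩ := this
  exact ⟨k, hk, by rw [← e, mc_code]⟩

theorem qI_eq_one {i : ℕ} (hi : i < 1024) : qI i = oneC ↔ i < 64 := by
  have := (allB_iff 1024 (fun i => ite' (Nat.blt i 64) (Nat.beq (qI i) oneC)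
    (not' (Nat.beq (qI i) oneC)))).1 (by decide +kernel) i hi
  rw [ite'_eq] at this
  split_ifs at this with h <;> rw [blt_iff] at h
  · exact iff_of_true ((beq_iff _ _).1 this) h
  · exact iff_of_false (by rwa [not'_eq_true, beq_iff] at this) h

theorem aM_isCW : ∀ i < 64, isCW (xorSel aB i) = true → i = 0 := by decide +kernel

theorem vo_spec {m : ℕ} (hm : m < 2 ^ 24) (h : tb voM (cix m) = true) :
    ∃ i < 64, symmDiff (setOf' m) (setOf' (xorSel aB i)) ∈ codeSets := by
  have := (allB_iff 4096 (fun j => or' (not' (tb voM j))
    (anyLT 64 fun i => Nat.beq j (cix (xorSel aB i))))).1 (by decide +kernel) _ (cix_lt hm)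
  simp only [or'_eq_true, not'_eq_true, anyLT_iff, beq_iff] at this
  obtain ⟨i, hi, e⟩ := this.resolve_left (not_not.2 h)
  exact ⟨i, hi, (cix_eq_iff hm (aM_spec (by omega)).1).1 e⟩

theorem vo_sub {a : Finset GolayPt} (ha : Even a.card) (h : a ⊆ setOf' 5279) :
    tb voM (cix (maskOf a)) = true := by
  rw [← setOf'_maskOf a, setOf'_subset_iff (maskOf_lt a)] at h
  rw [← setOf'_maskOf a, even_setOf' (maskOf_lt a)] at ha
  have := (allB_iff 8192 (fun m => or' (not' (Nat.beq (Nat.land m 5279) m))
    (or' (not' (Nat.beq (par m) 0)) (tb voM (cix m))))).1 (by decide +kernel) (maskOf a)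
    (h ▸ lt_of_le_of_lt Nat.and_le_right (by norm_num))
  simp only [or'_eq_true, not'_eq_true, beq_iff] at this
  exact (this.resolve_left (not_not.2 h)).resolve_left (not_not.2 ha)

theorem commI_eq_zero {c j : ℕ} (hc : okM c = true) (hj : j < 4096) (h : par j = 0)
    (e : symmDiff (setOf' (j <<< 12)) (mc c • setOf' (j <<< 12)) ∈ codeSets) : commI c j = 0 := by
  have hl : imgC c (j <<< 12) < 2 ^ 24 := by
    have := imgC_lt (mc c : Equiv.Perm GolayPt) (j <<< 12)
    rwa [code_mc hc] at this
  have : commI c j = cix (j <<< 12 ^^^ imgC c (j <<< 12)) := by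
    rw [commI, h, force_eq]; rfl
  rwa [this, ← cix_shiftLeft 0, cix_eq_iff (Nat.xor_lt_two_pow (shift_lt hj) hl)
    (by norm_num), setOf'_xor, ← mc_smul_setOf' hc, Nat.zero_shiftLeft, setOf'_zero,
    ← Finset.bot_eq_empty, symmDiff_bot]

theorem vo_cent {b : Finset GolayPt} (hb : Even b.card)
    (h1 : symmDiff b (mc (qC 1) • b) ∈ codeSets) (h2 : symmDiff b (mc (qC 2) • b) ∈ codeSets) :
    ∃ i < 64, symmDiff b (setOf' (xorSel aB i)) ∈ codeSets := by
  obtain ⟨j, hj, e⟩ := exists_rep b
  have h0 := (even_shift hj).1 (even_of_symmDiff_mem hb e)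
  have key : ∀ k < 16, symmDiff b (mc (qC k) • b) ∈ codeSets → commI (qC k) j = 0 :=
    fun k hk h => commI_eq_zero (qC_spec hk).1 hj h0
      (cong_trans (cong_symm e) (cong_trans h (cong_smul _ e)))
  have : force (qC 1) (fun c =>
    force (qC 2) fun d => allB 4096 fun j => or' (not' (Nat.beq (par j) 0))
      (or' (not' (Nat.beq (commI c j) 0)) (or' (not' (Nat.beq (commI d j) 0)) (tb voM j)))) =
        true := by decide +kernel
  simp only [force_eq, allB_iff, or'_eq_true, not'_eq_true, beq_iff] at this
  have h3 := (((this j hj).resolve_left (not_not.2 h0)).resolve_left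
    (not_not.2 (key 1 (by norm_num) h1))).resolve_left (not_not.2 (key 2 (by norm_num) h2))
  rw [← cix_shiftLeft j] at h3
  obtain ⟨i, hi, h4⟩ := vo_spec (shift_lt hj) h3
  exact ⟨i, hi, cong_trans e h4⟩

theorem vo_duad {x y : GolayPt} (hx : x ∉ setOf' 5279) (hy : y ∉ setOf' 5279) {g : M24}
    (hg : g ∈ fixS (setOf' 5279)) : ∃ i < 64,
      symmDiff (symmDiff (symmDiff {x} {y}) (g • symmDiff {x} {y})) (setOf' (xorSel aB i)) ∈
        codeSets := by
  obtain ⟨k, hk, rfl⟩ := exists_qC hg
  have := (allLT_iff 16 (fun k => force (qC k) fun c => allLT 24 fun x => or' (tb 5279 x)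
    (allLT 24 fun y => or' (tb 5279 y) (force (Nat.xor (Nat.pow 2 x) (Nat.pow 2 y)) fun m =>
      tb voM (cix (Nat.xor m (imgC c m))))))).1 (by decide +kernel) k hk
  simp only [force_eq, allLT_iff, or'_eq_true, tb_eq 5279] at this
  have h1 := ((this _ (ix_lt x)).resolve_left (by rwa [mem_setOf'] at hx) _ (ix_lt y)).resolve_left
    (by rwa [mem_setOf'] at hy)
  have h2 : 2 ^ ix x ^^^ 2 ^ ix y < 2 ^ 24 := Nat.xor_lt_two_pow
    (Nat.pow_lt_pow_right (by norm_num) (ix_lt x)) (Nat.pow_lt_pow_right (by norm_num) (ix_lt y))
  have h3 := imgC_lt (mc (qC k) : Equiv.Perm GolayPt) (2 ^ ix x ^^^ 2 ^ ix y)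
  rw [code_mc (qC_spec hk).1] at h3
  have := vo_spec (Nat.xor_lt_two_pow h2 h3) h1
  rwa [setOf'_xor, ← mc_smul_setOf' (qC_spec hk).1, setOf'_xor, setOf'_two_pow,
    setOf'_two_pow] at this

/-- The element `nu b * lam c` acts on the indices by the matrix `M`. -/
noncomputable def actOK (b c M : ℕ) : Bool :=
  and' (okM c) (and' (Nat.blt b 16777216) (and' (Nat.beq (par b) 0) (allB 1024 fun i =>
    force (app M i) fun j => force (qI j) fun q => and' (Nat.blt j 1024)
      (and' (Nat.beq (force (qI i) (conjC c)) q) (Nat.beq (syn (xorSel aB j))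
        (syn (Nat.xor (Nat.xor b (force (xorSel aB i) (imgC c))) (imgC q b))))))))

/-- Matrices of three elements of the normaliser. -/
def gens : List ℕ := [0x800c018020002503d01b01402b01c, 0x1c020028004002701503300702300d, 0x23510009b05a020010008004002001]

theorem act1 : actOK 0 767832660449259130067075255055158657 0x800c018020002503d01b01402b01c = true := by
  decide +kernel
theorem act2 : actOK 0 889972553353410283117644998198267975 0x1c020028004002701503300702300d = true := by
  decide +kernel
theorem act3 : actOK 96 oneC 0x23510009b05a020010008004002001 = true := by decide +kernel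

theorem cover {i : ℕ} (hi : i < 1024) (h0 : i ≠ 0) : ∃ r, (Idx.orb app gens 10 11 r).testBit i = true ∧
    if zA.testBit i = true then r = 16 ∨ r = 64 else r = 2 ∨ r = 66 := by
  have : force (Idx.orb app gens 10 11 16) (fun A => force (Idx.orb app gens 10 11 64) fun B =>
      force (Idx.orb app gens 10 11 2) fun C => force (Idx.orb app gens 10 11 66) fun D =>
      allB 1024 fun i => or' (Nat.beq i 0)
        (ite' (tb zA i) (or' (tb A i) (tb B i)) (or' (tb C i) (tb D i)))) = true := by
    decide +kernel
  simp only [force_eq, allB_iff, or'_eq_true, beq_iff, ite'_eq, tb_eq] at this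
  have h1 := (this i hi).resolve_left h0
  split_ifs at h1 ⊢ <;> rw [or'_eq_true] at h1 <;> rcases h1 with h1 | h1 <;>
    exact ⟨_, h1, by simp⟩

theorem pop_zA : pop 1024 zA = 155 := by
  have : cntPow 10 (tb zA) = 155 := by decide +kernel
  rw [cntPow_eq] at this
  rw [pop, cntLT_eq]
  exact this

theorem zA_gen {i : ℕ} (hi : i < 1024) :
    ∃ j < 1024, zA.testBit j = true ∧ zA.testBit (i ^^^ j) = true := by
  have := (allB_iff 1024 (fun i => anyLT 155 fun j => force (zl j) fun c =>
    and' (Nat.blt c 1024) (and' (tb zA c) (tb zA (Nat.xor i c))))).1 (by decide +kernel) i hi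
  simp only [anyLT_iff, force_eq, and'_eq_true, blt_iff, tb_eq] at this
  obtain ⟨j, -, h⟩ := this
  exact ⟨_, h⟩

theorem exists_zl {c : ℕ} (hc : c < 1024) (h : zA.testBit c = true) : ∃ i < 155, c = zl i := by
  have := (allB_iff 1024 (fun c => or' (not' (tb zA c))
    (anyLT 155 fun i => Nat.beq c (zl i)))).1 (by decide +kernel) c hc
  simp only [or'_eq_true, not'_eq_true, anyLT_iff, beq_iff, tb_eq] at this
  exact this.resolve_left (not_not.2 h)

theorem wd_lt (p q : ℕ) : wd p q < 1024 := lt_of_le_of_lt Nat.and_le_right (by norm_num)

theorem mem_sm {p c : ℕ} : (sm p).testBit c = true ↔ ∃ q < 32, wd p q = c := by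
  simp only [sm, M24C.testBit_orLT, shiftLeft_one, Nat.testBit_two_pow, decide_eq_true_eq]

theorem wd_xor {p q r : ℕ} (hp : p < 32) (hq : q < 32) (hr : r < 32) :
    wd p (q ^^^ r) = wd p q ^^^ wd p r := by
  have := (allLT_iff 32 (fun p => allLT 32 fun q => force (wd p q) fun x => allLT 32 fun r =>
    Nat.beq (wd p (Nat.xor q r)) (Nat.xor x (wd p r)))).1 (by decide +kernel) p hp
  simp only [allLT_iff, force_eq, beq_iff] at this
  exact this q hq r hr

theorem wd_spec {p q : ℕ} (hp : p < 32) (hq : q < 32) : wd p q = wd q p ∧ wd (p ^^^ q) q = wd p q ∧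
    (wd p q = 0 ∨ zA.testBit (wd p q) = true) ∧ (wd p q = 0 ↔ p = 0 ∨ q = 0 ∨ p = q) := by
  have := (allLT_iff 32 (fun p => allLT 32 fun q => force (wd p q) fun x =>
    and' (Nat.beq x (wd q p)) (and' (Nat.beq (wd (Nat.xor p q) q) x)
    (and' (or' (Nat.beq x 0) (tb zA x)) (ite' (or' (Nat.beq p 0) (or' (Nat.beq q 0) (Nat.beq p q)))
      (Nat.beq x 0) (not' (Nat.beq x 0))))))).1 (by decide +kernel) p hp
  simp only [allLT_iff, force_eq, and'_eq_true, beq_iff, or'_eq_true, ite'_eq, tb_eq] at this
  obtain ⟨h1, h2, h3, h4⟩ := this q hq
  refine ⟨h1, h2, h3, ?_⟩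
  split_ifs at h4 with h5
  · exact iff_of_true ((beq_iff _ _).1 h4) h5
  · exact iff_of_false (by rwa [not'_eq_true, beq_iff] at h4) h5

theorem exists_wd {c : ℕ} (hc : c < 1024) (h : zA.testBit c = true) :
    ∃ p < 32, ∃ q < 32, wd p q = c := by
  have : force (M24C.orLT 32 sm) (fun m => allB 1024 fun c =>
    or' (not' (tb zA c)) (tb m c)) = true := by decide +kernel
  simp only [force_eq, allB_iff, or'_eq_true, not'_eq_true, tb_eq, M24C.testBit_orLT, mem_sm] at this
  exact (this c hc).resolve_left (not_not.2 h)

theorem pop_sm {p : ℕ} (hp : p < 32) (h0 : p ≠ 0) : pop 1024 (sm p) = 16 := by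
  have := (allLT_iff 32 (fun p => or' (Nat.beq p 0) (force (sm p) fun m =>
    Nat.beq (cntPow 10 (tb m)) 16))).1 (by decide +kernel) p hp
  simp only [or'_eq_true, beq_iff, force_eq, cntPow_eq] at this
  rw [pop, cntLT_eq]
  exact this.resolve_left h0

theorem sm_inter {p q c : ℕ} (hp : p < 32) (hq : q < 32) (hne : p ≠ q)
    (h1 : (sm p).testBit c = true) (h2 : (sm q).testBit c = true) : c = 0 ∨ c = wd p q := by
  have := (allLT_iff 32 (fun p => force (sm p) fun m => allLT 32 fun q => or' (Nat.beq p q)
    (Nat.beq (Nat.land m (sm q)) (Nat.lor 1 (Nat.shiftLeft 1 (wd p q)))))).1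
      (by decide +kernel) p hp
  simp only [force_eq, allLT_iff, or'_eq_true, beq_iff] at this
  have h3 : (sm p &&& sm q).testBit c = (2 ^ 0 ||| 2 ^ wd p q).testBit c :=
    congrArg (·.testBit c) (((this q hq).resolve_left hne).trans (by rw [shiftLeft_one]; rfl))
  rw [Nat.testBit_and, h1, h2, Nat.testBit_or, Nat.testBit_two_pow, Nat.testBit_two_pow] at h3
  have h4 := h3.symm
  rw [Bool.and_self, Bool.or_eq_true, decide_eq_true_eq, decide_eq_true_eq] at h4
  exact h4.imp Eq.symm Eq.symm

theorem sm_three {a b r : ℕ} (ha : a < 32) (hb : b < 32) (hr : r < 32) (h0 : wd a b ≠ 0)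
    (h : (sm r).testBit (wd a b) = true) : r = a ∨ r = b ∨ r = a ^^^ b := by
  have := (allLT_iff 32 (fun r => force (sm r) fun m => allLT 32 fun a => allLT 32 fun b =>
    force (wd a b) fun x => or' (Nat.beq x 0) (or' (not' (tb m x)) (or' (Nat.beq r a)
      (or' (Nat.beq r b) (Nat.beq r (Nat.xor a b))))))).1 (by decide +kernel) r hr
  simp only [force_eq, allLT_iff, or'_eq_true, beq_iff, not'_eq_true, tb_eq] at this
  exact ((this a ha b hb).resolve_left h0).resolve_left (not_not.2 h)

theorem testBit_st {x c : ℕ} (h : x.testBit c = true) :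
    c = lg x ∨ (st x).testBit c = true := by
  have : st x = x ^^^ 2 ^ lg x := by rw [st, force_eq, shiftLeft_one]; rfl
  rw [this, Nat.testBit_xor, h, Nat.testBit_two_pow]
  by_cases e : lg x = c
  · exact Or.inl e.symm
  · exact Or.inr (by rw [decide_eq_false e]; rfl)

/-- The common neighbours of two adjacent points lie in a star, with four exceptions. -/
theorem star {a b : ℕ} (ha : a < 1024) (hb : b < 1024) (za : zA.testBit a = true)
    (zb : zA.testBit b = true) (zab : zA.testBit (a ^^^ b) = true) :
    ∃ p < 32, (sm p).testBit a = true ∧ (sm p).testBit b = true ∧ ∃ s : Finset ℕ, s.card ≤ 4 ∧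
      ∀ c < 1024, zA.testBit c = true → zA.testBit (a ^^^ c) = true →
        zA.testBit (b ^^^ c) = true → (sm p).testBit c = true ∨ c ∈ s := by
  have k1 : ∀ i < 155, ∀ j < 155, zA.testBit (zl i ^^^ zl j) = true →
      (rw160 tN i).testBit j = true := fun i hi j hj e => by
    have := (allLT_iff 155 (fun i => force (zl i) fun a => force (rw160 tN i) fun m =>
      allLT 155 fun j => or' (not' (tb zA (Nat.xor a (zl j)))) (tb m j))).1
        (by decide +kernel) i hi
    simp only [force_eq, allLT_iff, or'_eq_true, not'_eq_true, tb_eq] at this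
    exact (this j hj).resolve_left (not_not.2 e)
  have k2 : ∀ p < 32, ∀ j < 155, (rw160 tS p).testBit j = true → (sm p).testBit (zl j) = true :=
    fun p hp j hj e => by
    have := (allLT_iff 32 (fun p => force (sm p) fun a => force (rw160 tS p) fun m =>
      allLT 155 fun j => or' (not' (tb m j)) (tb a (zl j)))).1 (by decide +kernel) p hp
    simp only [force_eq, allLT_iff, or'_eq_true, not'_eq_true, tb_eq] at this
    exact (this j hj).resolve_left (not_not.2 e)
  obtain ⟨i, hi, rfl⟩ := exists_zl ha za
  obtain ⟨j, hj, rfl⟩ := exists_zl hb zb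
  have := (allLT_iff 155 (fun i => force (rw160 tN i) fun m => allLT 155 fun j =>
    or' (not' (tb m j)) (force (Nat.land m (rw160 tN j)) fun x => anyLT 32 fun p =>
      force (rw160 tS p) fun s => and' (tb s i) (and' (tb s j)
        (Nat.beq (st (st (st (st (Nat.xor x (Nat.land x s)))))) 0))))).1 (by decide +kernel) i hi
  simp only [force_eq, allLT_iff, or'_eq_true, not'_eq_true, tb_eq, anyLT_iff, and'_eq_true,
    beq_iff] at this
  obtain ⟨p, hp, h1, h2, h3⟩ := (this j hj).resolve_left (not_not.2 (k1 i hi j hj zab))
  generalize hx : Nat.xor _ _ = x at h3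
  refine ⟨p, hp, k2 p hp i hi h1, k2 p hp j hj h2, {zl (lg x), zl (lg (st x)),
    zl (lg (st (st x))), zl (lg (st (st (st x))))}, Finset.card_le_four, fun c hc z1 z2 z3 => ?_⟩
  obtain ⟨l, hl, rfl⟩ := exists_zl hc z1
  refine or_iff_not_imp_left.2 fun h4 => ?_
  have h5 : x.testBit l = true := by
    have e : x = (rw160 tN i &&& rw160 tN j) ^^^ (rw160 tN i &&& rw160 tN j &&& rw160 tS p) :=
      hx.symm
    rw [e, Nat.testBit_xor, Nat.testBit_and, Nat.testBit_and, Nat.testBit_and, k1 i hi l hl z2,
      k1 j hj l hl z3, Bool.eq_false_iff.2 fun e => h4 (k2 p hp l hl e)]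
    rfl
  simp only [Finset.mem_insert, Finset.mem_singleton]
  rcases testBit_st h5 with e | h5
  · exact Or.inl (congrArg zl e)
  rcases testBit_st h5 with e | h5
  · exact Or.inr (Or.inl (congrArg zl e))
  rcases testBit_st h5 with e | h5
  · exact Or.inr (Or.inr (Or.inl (congrArg zl e)))
  rcases testBit_st h5 with e | h5
  · exact Or.inr (Or.inr (Or.inr (congrArg zl e)))
  rw [h3, Nat.zero_testBit] at h5
  exact absurd h5 (by simp)

theorem MK_W {j i : ℕ} (h1 : 2 ≤ j) (hj : j < 16) (hi : i < 256) (h : (MK j).testBit i = true) :
    ∃ l < 64, app mEnc i = xorSel wB l := by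
  have := (allLT_iff 16 (fun j => or' (Nat.blt j 2) (force (MK j) fun m => allB 256 fun i =>
    or' (not' (tb m i)) (force (app mEnc i) fun v => anyLT 64 fun l =>
      Nat.beq v (xorSel wB l))))).1 (by decide +kernel) j hj
  simp only [or'_eq_true, blt_iff, force_eq, allB_iff, not'_eq_true, tb_eq, anyLT_iff,
    beq_iff] at this
  exact (this.resolve_left (by omega) i hi).resolve_left (not_not.2 h)

theorem inner_cnt {j : ℕ} (h1 : 16 ≤ j) (hj : j < 52) :
    cntLT 52 (fun i => Nat.ble 32 (pop 256 (MK j &&& MK i))) ≤ 8 ∧
      (cntLT 52 (fun i => Nat.ble 32 (pop 256 (MK j &&& MK i))) < 8 ∨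
        ∃ c, okS 8388609 c = true ∧ ∀ w ∈ wO, app mDec (app (liftK c) w) < 256 ∧
          (MK j).testBit (app mDec (app (liftK c) w)) = true) := by
  have := (allLT_iff 52 (fun j => or' (Nat.blt j 16) (force (MK j) fun m =>
    force (cntLT 52 fun i => Nat.ble 32 (force (Nat.land m (MK i)) (pop 256))) fun n =>
      and' (Nat.ble n 8) (or' (Nat.blt n 8) (anyL [970169811511245917555558516850282944,
        971255046592419031033191907540097120] fun c => and' (okS 8388609 c) (force (liftK c) fun A =>
          allL wO fun w => force (app mDec (app A w)) fun x =>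
            and' (Nat.blt x 256) (tb m x))))))).1 (by decide +kernel) j hj
  simp only [or'_eq_true, blt_iff, force_eq, and'_eq_true, ble_iff, allL_iff, tb_eq,
    anyL_iff] at this
  obtain ⟨h2, h3⟩ := this.resolve_left (by omega)
  exact ⟨h2, h3.imp_right fun ⟨c, _, h⟩ => ⟨c, h⟩⟩

theorem outer_cnt' {i j A : ℕ} (h1 : 52 ≤ i) (hi : i < 120) (h2 : 2 ≤ j) (hj : j < 52)
    (hA : A = liftK (LC i) ∨ A = mm mD (liftK (LC i)) ∨ A = mm mD2 (liftK (LC i)))
    {U : Finset ℕ} (hU : ∀ u ∈ U, u < 256 ∧ app A (app mEnc u) = app mEnc u ∧
      (MK j).testBit u = true) : U.card < 16 := by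
  have := (allLT_iff 120 (fun j => or' (Nat.blt j 52) (lifts (LC j) fun M =>
    force (Nat.xor (mm M mEnc) mEnc) fun N => force (M24C.orLT 256 fun i =>
      ite' (Nat.beq (app N i) 0) (Nat.shiftLeft 1 i) 0) fun m => force (pop 256 m) fun n =>
        or' (Nat.blt n 16) (and' (Nat.ble n 16) (allLT 52 fun j => or' (Nat.blt j 2)
          (not' (Nat.beq (Nat.land m (MK j)) m))))))).1 (by decide +kernel) i hi
  rw [or'_eq_true, blt_iff] at this
  have := of_lifts (this.resolve_left (by omega)) hA
  simp only [force_eq, or'_eq_true, blt_iff, and'_eq_true, ble_iff, allLT_iff, not'_eq_true,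
    beq_iff, pop_eq] at this
  generalize hm : M24C.orLT 256 _ = m at this
  have key : ∀ u, m.testBit u = true ↔ u < 256 ∧ app A (app mEnc u) = app mEnc u := fun u => by
    have e : Nat.xor (mm A mEnc) mEnc = mm A mEnc ^^^ mEnc := rfl
    have e' : ∀ i < 256, app (Nat.xor (mm A mEnc) mEnc) i = 0 ↔ app A (app mEnc i) = app mEnc i :=
      fun i hi => by rw [e, app_add, app_mm _ _ (by omega), Nat.xor_eq_zero_iff]
    rw [← hm, M24C.testBit_orLT]
    constructor
    · rintro ⟨i, hi, h⟩
      rw [ite'_eq] at h
      split_ifs at h with h3
      · rw [shiftLeft_one, Nat.testBit_two_pow, decide_eq_true_eq] at h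
        exact h ▸ ⟨hi, (e' i hi).1 ((beq_iff _ _).1 h3)⟩
      · simp at h
    · rintro ⟨h3, h4⟩
      exact ⟨u, h3, by rw [(beq_iff _ _).2 ((e' u h3).2 h4), ite'_true, shiftLeft_one,
        Nat.testBit_two_pow_self]⟩
  have hs : U ⊆ (Finset.range 256).filter fun i => m.testBit i = true := fun u hu =>
    Finset.mem_filter.2 ⟨Finset.mem_range.2 (hU u hu).1, (key u).2 ⟨(hU u hu).1, (hU u hu).2.1⟩⟩
  by_contra hc
  have h3 := Finset.card_le_card hs
  obtain ⟨h4, h5⟩ := this.resolve_left (by omega)
  have h6 := Finset.eq_of_subset_of_card_le hs (by omega)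
  refine (h5 j hj).resolve_left (by omega) (Nat.eq_of_testBit_eq fun u => ?_)
  change (m &&& MK j).testBit u = _
  rw [Nat.testBit_and]
  cases e : m.testBit u
  · rfl
  · exact (hU u (h6 ▸ Finset.mem_filter.2 ⟨Finset.mem_range.2 ((key u).1 e).1, e⟩)).2.2

end Cfsg.Agent.J4.TN
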