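import Cfsg.Agent.J4.TrioAux

/-! The normaliser `2^{3+12}.(S₅ × L₃(2))` of the trio group `U` of order eight. -/

set_option autoImplicit false

namespace Cfsg.Agent.J4

open Cfsg Cfsg.Agent.Comp Cfsg.Agent.Spor Cfsg.Agent.Spor.M24C Subgroup LA VA TR L5 Equiv
open scoped Pointwise commutatorElement

variable {G : Type*} [Group G] {z : G} {P : Subgroup G}

namespace MM

variable (h : MM z P)

/-- The centraliser of `U`. -/
abbrev CU : Subgroup G := centralizer (h.U : Set G)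
/-- The normaliser of `U`. -/
abbrev NU : Subgroup G := normalizer (h.U : Set G)
/-- Conjugation by `n` maps the `i`-th conjugate of `V` to the `j`-th. -/
def RT (n : G) (i j : Fin 5) : Prop := (h.f ^ (j : ℕ))⁻¹ * n * h.f ^ (i : ℕ) ∈ h.M

theorem RT_one (i : Fin 5) : h.RT 1 i i := by simp [RT]
theorem RT.mul {m n : G} {i j k : Fin 5} (h1 : h.RT n i j) (h2 : h.RT m j k) :
    h.RT (m * n) i k := by simpa [RT, mul_assoc] using mul_mem h2 h1
theorem RT.inv {n : G} {i j : Fin 5} (h1 : h.RT n i j) : h.RT n⁻¹ j i := by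
  simpa [RT, mul_assoc] using inv_mem h1

/-- The elements that permute the five conjugates of `V`. -/
def Γ : Subgroup G where
  carrier := {n | ∃ σ : Perm (Fin 5), ∀ i, h.RT n i (σ i)}
  one_mem' := ⟨1, h.RT_one⟩
  mul_mem' := fun ⟨σ, hσ⟩ ⟨τ, hτ⟩ => ⟨σ * τ, fun i => (hτ i).mul h (hσ _)⟩
  inv_mem' := fun ⟨σ, hσ⟩ => ⟨σ⁻¹, fun i => by simpa using (hσ (σ⁻¹ i)).inv h⟩

/-- The special group of order `2 ^ 15`. -/
def LL : Subgroup G where
  carrier := {c | c ∈ h.CU ∧ ∀ i, h.RT c i i}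
  one_mem' := ⟨one_mem _, h.RT_one⟩
  mul_mem' := fun a b => ⟨mul_mem a.1 b.1, fun i => (b.2 i).mul h (a.2 i)⟩
  inv_mem' := fun a => ⟨inv_mem a.1, fun i => (a.2 i).inv h⟩

theorem mem_CU {c : G} : c ∈ h.CU ↔
    z * c = c * z ∧ h.s 1025 * c = c * h.s 1025 ∧ h.s 2618 * c = c * h.s 2618 := by
  rw [CU, U, centralizer_closure, mem_centralizer_iff]
  simp only [Set.mem_insert_iff, Set.mem_singleton_iff, forall_eq_or_imp, forall_eq]

theorem CU_le : h.CU ≤ h.H := fun _ hc => h.mem_H.2 (h.mem_CU.1 hc).1.symm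

theorem R_mem_CU {k : G} {A c v : ℕ} (r : h.R k A c) (hv : v < 4096) : h.s v * k ∈ h.CU ↔
    (app A 1025 = 1025 ∧ bf v 1025 = 0) ∧ app A 2618 = 2618 ∧ bf v 2618 = 0 := by
  have key : ∀ w, w < 4096 ∧ qf w = 0 → (h.s w * (h.s v * k) = h.s v * k * h.s w ↔
      app A w = w ∧ bf v w = 0) := fun w hw => by
    rw [r.comm_s_iff hv hw.1, hw.2, mul_zero, Nat.zero_xor]
    exact and_congr_right fun e => by rw [e]
  rw [h.mem_CU, key _ (by decide +kernel), key _ (by decide +kernel)]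
  exact and_iff_right (h.mem_H.1 (mul_mem (h.s_mem_H hv) r.memH)).symm

theorem R_mem_CU' {k : G} {A c : ℕ} (r : h.R k A c) (e1 : app A 1025 = 1025)
    (e2 : app A 2618 = 2618) : k ∈ h.CU := by
  have := (h.R_mem_CU r (v := 0) (by norm_num)).2 ⟨⟨e1, bf_zero_left _⟩, e2, bf_zero_left _⟩
  rwa [h.s_zero, one_mul] at this

theorem f_mem_CU : h.f ∈ h.CU := h.R_mem_CU' h.rep_f (by decide +kernel) (by decide +kernel)

variable [Finite G]

theorem RT_iff {c : G} (hc : c ∈ h.H) {i j : Fin 5} : h.RT c i j ↔ h.ρ c • oI i = oI j := by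
  have hf : ∀ i : ℕ, h.f ^ i ∈ h.H := pow_mem h.rep_f.memH
  rw [RT, h.mem_M_iff (mul_mem (mul_mem (inv_mem (hf j)) hc) (hf i)),
    h.ρ_mul _ (mul_mem (inv_mem (hf j)) hc) _ (hf i), h.ρ_mul _ (inv_mem (hf j)) _ hc,
    h.ρ_inv (hf j), h.ρ_pow h.rep_f.memH, h.ρ_pow h.rep_f.memH, ← HM.R.mc_eq h.rep_f, mul_smul,
    mul_smul, inv_smul_eq_iff, pF_pow, pF_pow]

theorem RT.uniq {n : G} {i j k : Fin 5} (h1 : h.RT n i j) (h2 : h.RT n i k) : j = k := by
  have := (h1.inv h).mul h h2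
  rw [mul_inv_cancel, h.RT_iff (one_mem _), h.ρ_one, one_smul] at this
  exact oI_inj this

theorem exists_θ : ∃ θ : h.Γ →* Perm (Fin 5), ∀ (n : h.Γ) i j, h.RT n i j ↔ θ n i = j := by
  choose σ hσ using fun n : h.Γ => n.2
  exact ⟨MonoidHom.mk' σ fun a b => Equiv.ext fun i => (hσ _ i).uniq h ((hσ b i).mul h (hσ a _)),
    fun n i j => ⟨(hσ n i).uniq h, fun e => e ▸ hσ n i⟩⟩

theorem mem_LL {c : G} : c ∈ h.LL ↔ c ∈ h.CU ∧ ∀ i, h.ρ c • oI i = oI i :=
  and_congr_right fun hc => forall_congr' fun _ => h.RT_iff (h.CU_le hc)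

theorem LL_decomp {c : G} (hc : c ∈ h.LL) : h.ρ c ∈ M22' ∧ ∃ v < 4096, ∃ k A d, h.R k A d ∧
    c = h.s v * k ∧ v ^^^ app A v ∈ [0, 1025, 2618, 3643] ∧ mm A A = mI ∧
      ((∀ w ∈ pB, app A w = w) → A = mI) := by
  obtain ⟨h1, h2⟩ := h.mem_LL.1 hc
  obtain ⟨v, hv, k, hk, rfl⟩ := h.decomp (h.CU_le h1)
  obtain ⟨A, r⟩ := h.exists_R hk
  obtain ⟨⟨a1, a2⟩, a3, a4⟩ := (h.R_mem_CU r hv).1 h1
  obtain ⟨b1, b2, b3, b4⟩ := (D_spec (h.ρ_mem _ (h.CU_le h1)) h2).1 A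
    (r.ρ_s_mul hv ▸ r.isK) a1 a3
  exact ⟨b1, v, hv, k, A, _, r, rfl, b3 v hv a2 a4, b2, b4⟩

theorem mem_LL_of_E {e : G} (he : e ∈ h.E) (hc : e ∈ h.CU) : e ∈ h.LL :=
  h.mem_LL.2 ⟨hc, fun i => by rw [h.ρ_E he, one_smul]⟩

theorem U_le_LL : h.U ≤ h.LL := fun _ hu =>
  h.mem_LL_of_E (h.U_le_E hu) fun _ hv => h.U_comm hv hu

theorem card_LL : Nat.card h.LL = 2 ^ 15 := by
  have h1 := h.xs.card_mul_card_centralizer h.U_le_E h.z_mem_U
  rw [h.card_U, h.card_E] at h1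
  rw [h.card_of_ρ (L := h.LL) (A := DD) (fun _ hc => h.CU_le hc.1)
    (fun c hc => mem_DD.2 ⟨(h.LL_decomp hc).1, (h.mem_LL.1 hc).2⟩) fun g hg => ?_, card_DD,
    show (h.E ⊔ P) ⊓ h.LL = h.E ⊓ h.CU from le_antisymm (fun c hc => ⟨?_, hc.2.1⟩)
      fun c hc => ⟨mem_sup_left hc.1, h.mem_LL_of_E hc.1 hc.2⟩]
  · rw [CU]; omega
  · obtain ⟨e, he, p, hp, rfl⟩ := (JF.mem_EP h.jf).1 hc.1
    obtain ⟨v, hv, a, -, rfl⟩ := h.mem_E'.1 he
    have h2 : h.s v * p ∈ h.CU := by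
      have := mul_mem hc.2.1 (h.U_le_LL (pow_mem h.z_mem_U a)).1
      rwa [mul_assoc, mul_assoc, h.comm_z_pow (h.P_le_H hp), ← mul_assoc (z ^ a), h.z_pow_sq,
        one_mul] at this
    rcases h.mem_P.1 hp with rfl | rfl | rfl
    · rwa [mul_one]
    · exact absurd ((h.R_mem_CU h.rep_d hv).1 h2).1.1 (by decide +kernel)
    · exact absurd ((h.R_mem_CU h.R_d2 hv).1 h2).1.1 (by decide +kernel)
  · obtain ⟨h2, h3⟩ := mem_DD.1 hg
    obtain ⟨A, a1, a2, a3⟩ := (D_spec (M22'_le h2) h3).2 h2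
    obtain ⟨k, r⟩ := h.exists_R_of_isK a1
    have e := r.mc_eq.symm.trans (mc_code g)
    exact ⟨k, h.mem_LL.2 ⟨h.R_mem_CU' r a2 a3, e ▸ h3⟩, e⟩

theorem card_orb_le (Y : Subgroup G) (x : G) (T : Finset ℕ)
    (hT : ∀ v ∈ T, v < 4096 ∧ ∀ a < 2, ∃ y ∈ Y, y * x * y⁻¹ = h.s v * z ^ a) :
    T.card * 2 * Nat.card ↥(Y ⊓ centralizer {x}) ≤ Nat.card Y := by
  rw [← Small.card_conj_mul_card_inf_centralizer Y x]
  refine Nat.mul_le_mul_right _ ?_
  have := Nat.card_le_card_of_injective (fun p : T × Fin 2 =>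
    (⟨_, (hT p.1 p.1.2).2 p.2 p.2.2⟩ : {y : G // ∃ h ∈ Y, h * x * h⁻¹ = y})) fun p q e => by
      have := (h.s_eq_iff (hT _ p.1.2).1 (hT _ q.1.2).1 p.2.2 q.2.2).1 (congrArg Subtype.val e)
      exact Prod.ext (Subtype.ext this.1) (Fin.ext this.2)
  simpa using this

theorem card_CU_le : Nat.card h.CU ≤ 2 ^ 15 * 120 := by
  have k0 : ∀ {Y : Subgroup G} {x : G} {v w : ℕ}, v < 4096 → w < 4096 → bf w v = 1 → h.s w ∈ Y →
      (∃ y ∈ Y, y * x * y⁻¹ = h.s v) → v < 4096 ∧ ∀ a < 2, ∃ y ∈ Y, y * x * y⁻¹ = h.s v * z ^ a :=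
    fun hv hw e hY ⟨y, hy, e'⟩ => ⟨hv, fun a ha => by
      interval_cases a
      · exact ⟨y, hy, by simpa using e'⟩
      · exact ⟨_, mul_mem hY hy, by rw [← e, ← h.s_conj hw hv, ← e']; group⟩⟩
  have h1 := h.card_orb_le h.H (h.s 1025) ((Finset.range (2 ^ 12)).filter fun v =>
    tb (Idx.orb app [mX, mF, mU, mS, mD] 12 30 1025) v = true) fun v hv => by
      have key : ∀ {k A c}, h.R k A c → ∀ v, v < 4096 ∧ qf v = 0 ∧
          (∃ y ∈ h.H, y * h.s 1025 * y⁻¹ = h.s v) → app A v < 4096 ∧ qf (app A v) = 0 ∧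
          ∃ y ∈ h.H, y * h.s 1025 * y⁻¹ = h.s (app A v) := fun r v ⟨h1, h2, y, hy, h3⟩ => by
        have h4 := r.act v h1
        rw [h2, mul_zero, pow_zero, mul_one] at h4
        exact ⟨app_lt _ _, (r.qf_app h1).trans h2, _, mul_mem r.memH hy, by rw [← h4, ← h3]; group⟩
      obtain ⟨h1, -, h2⟩ := Idx.orb_sound (P := fun v => v < 4096 ∧ qf v = 0 ∧
        ∃ y ∈ h.H, y * h.s 1025 * y⁻¹ = h.s v) (fun T hT => by
          simp only [List.mem_cons, List.not_mem_nil, or_false] at hT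
          rcases hT with rfl | rfl | rfl | rfl | rfl
          exacts [key h.rep_x, key h.rep_f, key h.rep_u, key h.rep_σ, key h.rep_d]) 12 30
        ⟨by norm_num, by decide +kernel, 1, one_mem _, by simp⟩ v
        ((tb_eq _ _).symm.trans (Finset.mem_filter.1 hv).2)
      obtain ⟨i, hi, e⟩ := bf_nondeg h1 fun e => by
        obtain ⟨y, -, e'⟩ := h2
        rw [e, h.s_zero, conj_eq_one_iff] at e'
        exact absurd (h.s_inj 1025 (by norm_num) (Or.inl e')) (by norm_num)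
      have h3 : 2 ^ i < 4096 := Nat.pow_lt_pow_right (by norm_num) hi
      exact k0 h1 h3 (bf_comm h1 h3 ▸ e) (h.s_mem_H h3) h2
  have m1 : h.s 1 ∈ h.H ⊓ centralizer {h.s 1025} := ⟨h.s_mem_H (by norm_num), mem_cent.2
    ((h.s_comm_iff (by norm_num) (by norm_num)).2 (by decide +kernel))⟩
  have m2 : ∀ v, v < 4096 ∧ qf v = 0 → h.σ * h.s v * h.σ⁻¹ = h.s (app mS v) := fun v hv => by
    rw [h.rep_σ.act v hv.1, hv.2, mul_zero, pow_zero, mul_one]
  have h2 := h.card_orb_le (h.H ⊓ centralizer {h.s 1025}) (h.s 2618) {2618, 3643} (by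
    simp only [Finset.mem_insert, Finset.mem_singleton, forall_eq_or_imp, forall_eq]
    exact ⟨k0 (by norm_num) (by norm_num) (by decide +kernel) m1 ⟨1, one_mem _, by simp⟩,
      k0 (by norm_num) (by norm_num) (by decide +kernel) m1 ⟨h.σ, ⟨h.rep_σ.memH, mem_cent.2
        (mul_inv_eq_iff_eq_mul.1 ((m2 _ (by decide +kernel)).trans (congrArg h.s
          (by decide +kernel))))⟩, (m2 _ (by decide +kernel)).trans (congrArg h.s
          (by decide +kernel))⟩⟩)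
  have h3 : Nat.card h.CU ≤ Nat.card ↥(h.H ⊓ centralizer {h.s 1025} ⊓ centralizer {h.s 2618}) :=
    card_le_of_le fun c hc => ⟨⟨h.CU_le hc, mem_cent.2 (h.mem_CU.1 hc).2.1.symm⟩,
      mem_cent.2 (h.mem_CU.1 hc).2.2.symm⟩
  rw [← cntPow_eq, h.card_H, show cntPow 12 (tb (Idx.orb app [mX, mF, mU, mS, mD] 12 30 1025)) =
    693 from (force_eq _ fun m => cntPow 12 (tb m)).symm.trans (by decide +kernel)] at h1
  rw [show ({2618, 3643} : Finset ℕ).card = 2 from rfl] at h2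
  omega

theorem θ_surj {θ : h.Γ →* Perm (Fin 5)} (hθ : ∀ (n : h.Γ) i j, h.RT n i j ↔ θ n i = j)
    (σ : Perm (Fin 5)) : ∃ c : h.Γ, (c : G) ∈ h.CU ∧ θ c = σ := by
  have key : ∀ {k A c}, h.R k A c → ∀ τ : Perm (Fin 5), app A 1025 = 1025 ∧ app A 2618 = 2618 ∧
      (∀ i : Fin 5, imgC c (oL.getD i 0) = oL.getD (τ i) 0) →
      τ ∈ (h.CU.subgroupOf h.Γ).map θ := fun {k A c} r τ e => by
    have : ∀ i, h.RT k i (τ i) := fun i => (h.RT_iff r.memH).2 (by
      rw [oI, smul_setOf'_M, r.code_eq, e.2.2 i, oI])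
    exact ⟨⟨k, τ, this⟩, h.R_mem_CU' r e.1 e.2.1, Equiv.ext fun i => (hθ _ _ _).1 (this i)⟩
  obtain ⟨k, r⟩ := h.exists_R_of_isK (A := 0xbd374288eb1f08098c66035250a50695f343)
    (c := 981940260449521198767676458684353088) (by decide +kernel)
  refine ((closure_le ((h.CU.subgroupOf h.Γ).map θ)).2 ?_)
    ((Perm.closure_cycle_adjacent_swap isCycle_finRotate support_finRotate 0).ge (mem_top σ))
  rintro _ (rfl | rfl)
  exacts [key h.rep_f _ (by decide +kernel), key r _ (by decide +kernel)]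

theorem CU_le_Γ : h.CU ≤ h.Γ := by
  obtain ⟨θ, hθ⟩ := h.exists_θ
  let ψ := θ.comp (inclusion (inf_le_right : h.CU ⊓ h.Γ ≤ h.Γ))
  have h1 : h.LL ≤ h.CU ⊓ h.Γ := fun c hc => ⟨hc.1, 1, hc.2⟩
  have h2 : ψ.ker = h.LL.subgroupOf _ := by
    ext c
    exact ⟨fun e => ⟨c.2.1, fun i => (hθ ⟨c, c.2.2⟩ i i).2 (congrArg (· i) e)⟩,
      fun e => Equiv.ext fun i => (hθ ⟨c, c.2.2⟩ i i).1 (e.2 i)⟩
  have h3 : ψ.range = ⊤ := eq_top_iff.2 fun σ _ =>
    let ⟨c, hc, e⟩ := h.θ_surj hθ σ; ⟨⟨c, hc, c.2⟩, e⟩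
  have h4 := ψ.ker.card_mul_index
  rw [index_ker, h2, h3, Grp.card_subgroupOf_of_le h1, h.card_LL, card_top, Nat.card_perm,
    Nat.card_fin] at h4
  exact inf_eq_left.1 (eq_of_le_of_card_ge inf_le_left (h.card_CU_le.trans h4.le))

omit [Finite G] in
theorem U_eq : h.U = closure {x | ∃ m ∈ uL, x = h.nu (setOf' m)} := by
  rw [U, ← show _ = h.s 1025 from h.nu_W 4 (by norm_num),
    ← show _ = h.s 2618 from h.nu_W 5 (by norm_num)]
  congr 1
  ext x
  simp [uL, phiW, h.nu_z]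

theorem lam_L0 {g : M24} (hg : g ∈ L0) :
    h.lam g ∈ h.NU ∧ (h.lam g ∈ h.CU → g = 1) := by
  have h1 : ∀ m ∈ uL, Even (setOf' m).card := by decide +kernel
  have h2 : ∀ i < 2 ^ 3, Even (setOf' (xorSel uL i)).card ∧ h.nu (setOf' (xorSel uL i)) ∈ h.U :=
    bits_induction ⟨by decide +kernel, (congrArg h.nu setOf'_zero).trans h.nu_empty ▸ one_mem _⟩
      fun i hi v _ e => by
        have := (by decide : ∀ i < 3, xorSel uL (2 ^ i) ∈ uL) i hi
        rw [xorSel_xor, setOf'_xor, h.nu_mul _ _ e.1 (h1 _ this)]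
        exact ⟨even_symmDiff e.1 (h1 _ this),
          mul_mem e.2 (h.U_eq ▸ subset_closure ⟨_, this, rfl⟩)⟩
  obtain ⟨h3, h4⟩ := L0_spec hg
  refine ⟨mem_normalizer_fintype (show h.U ≤ h.U.comap (MulAut.conj (h.lam g)).toMonoidHom from
    h.U_eq.le.trans ((closure_le _).2 ?_)), fun e => h4 fun m hm => ?_⟩
  · rintro _ ⟨m, hm, rfl⟩
    obtain ⟨i, hi, e⟩ := h3 m hm
    change h.lam g * _ * _ ∈ h.U
    rw [h.lam_conj _ _ (h1 m hm), (h.nu_eq_iff (even_smul g (h1 m hm)) (h2 i hi).1).2 e]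
    exact (h2 i hi).2
  · rw [← h.nu_eq_iff (even_smul g (h1 m hm)) (h1 m hm), ← h.lam_conj _ _ (h1 m hm),
      ← e _ (h.U_eq ▸ subset_closure ⟨m, hm, rfl⟩), mul_inv_cancel_right]

theorem exists_φ : ∃ φ : h.NU →* Perm (Fin 5) × Matrix.SpecialLinearGroup (Fin 3) (ZMod 2),
    Function.Surjective φ ∧ (∀ n, φ n = 1 ↔ (n : G) ∈ h.LL) ∧
      (∀ n, (φ n).2 = 1 ↔ (n : G) ∈ h.CU) ∧
      Nonempty (L0 ≃* Matrix.SpecialLinearGroup (Fin 3) (ZMod 2)) := by
  obtain ⟨θ, hθ⟩ := h.exists_θ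
  obtain ⟨f, hf⟩ := exists_injective_SL (V := h.U) (fun x => Subtype.ext (h.U_sq x.2)) h.card_U
  let α := f.comp h.U.normalizerMonoidHom
  have h1 : ∀ n : h.NU, α n = 1 ↔ (n : G) ∈ h.CU := fun n => by
    rw [← map_one f]
    refine hf.eq_iff.trans ⟨fun e u hu => (mul_inv_eq_iff_eq_mul.1 ?_).symm, fun e => ?_⟩
    · exact congrArg (fun x : MulAut h.U => (x ⟨u, hu⟩ : G)) e
    · ext u
      exact mul_inv_eq_iff_eq_mul.2 (e u u.2).symm
  let j : L0 →* h.NU := (h.lam.comp L0.subtype).codRestrict _ fun g => (h.lam_L0 g.2).1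
  have h2 : Function.Bijective (α.comp j) := (Nat.bijective_iff_injective_and_card _).2
    ⟨(injective_iff_map_eq_one _).2 fun g e => Subtype.ext ((h.lam_L0 g.2).2 ((h1 _).1 e)),
      by rw [card_L0, card_SL32]⟩
  have h3 : h.NU ≤ h.Γ := fun n hn => by
    have : ∀ i, ∃ j, h.RT n i j := fun i => by
      have hf := mul_mem hn (pow_mem (centralizer_le_normalizer _ h.f_mem_CU) i)
      obtain ⟨g, e⟩ := h2.2 (α ⟨_, hf⟩)
      obtain ⟨σ, hσ⟩ := h.CU_le_Γ ((h1 (⟨_, hf⟩ * (j g)⁻¹)).1 (by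
        rw [map_mul, map_inv, ← e]; exact mul_inv_cancel _))
      have hm : (j g : G) ∈ h.M := h.lam_mem_M g
      exact ⟨σ 0, by simpa [RT, mul_assoc] using mul_mem (hσ 0) hm⟩
    choose σ hσ using this
    exact ⟨ofBijective σ (Finite.injective_iff_bijective.1 fun a b e =>
      ((hσ a).inv h).uniq h (e ▸ (hσ b).inv h)), hσ⟩
  refine ⟨(θ.comp (inclusion h3)).prod α, fun ⟨σ, A⟩ => ?_, fun n => ⟨fun e => ⟨(h1 n).1
    (congrArg Prod.snd e), fun i => (hθ ⟨n, h3 n.2⟩ i i).2 (congrArg (·.1 i) e)⟩, fun e =>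
    Prod.ext (Equiv.ext fun i => (hθ ⟨n, h3 n.2⟩ i i).1 (e.2 i)) ((h1 n).2 e.1)⟩, h1,
    ⟨MulEquiv.ofBijective _ h2⟩⟩
  obtain ⟨g, rfl⟩ := h2.2 A
  obtain ⟨c, hc, e⟩ := h.θ_surj hθ (σ * (θ (inclusion h3 (j g)))⁻¹)
  refine ⟨⟨c, centralizer_le_normalizer _ hc⟩ * j g, Prod.ext ?_ ?_⟩
  · exact (θ.map_mul c (inclusion h3 (j g))).trans (by rw [e, inv_mul_cancel_right])
  · exact (α.map_mul _ _).trans (by rw [(h1 _).2 hc, one_mul]; rfl)

theorem sq_mem_U {c : G} (hc : c ∈ h.LL) : c * c ∈ h.U := by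
  obtain ⟨-, v, hv, k, A, d, r, rfl, h1, h2, -⟩ := h.LL_decomp hc
  rw [r.mul_s hv hv]
  refine mul_mem (h.mem_U'.2 ⟨_, h1, _, rfl⟩) ?_
  rcases r.sq_or h2 with e | e <;> rw [e]
  exacts [one_mem _, h.z_mem_U]

theorem s_mem_LL {w : ℕ} (hw : w ∈ pB) : h.s w ∈ h.LL := by
  obtain ⟨h1, h2⟩ := (by decide +kernel : ∀ w ∈ pB, w < 4096 ∧ (app mI 1025 = 1025 ∧
    bf w 1025 = 0) ∧ app mI 2618 = 2618 ∧ bf w 2618 = 0) w hw
  exact h.mem_LL_of_E (h.s_mem_E h1) (mul_one (h.s w) ▸ (h.R_mem_CU h.R_one h1).2 h2)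

theorem center_LL : center h.LL = h.U.subgroupOf h.LL := by
  ext c
  rw [mem_center_iff, mem_subgroupOf]
  refine ⟨fun hc => ?_, fun hc g => Subtype.ext (g.2.1 _ hc).symm⟩
  obtain ⟨h0, v, hv, k, A, d, r, e, -, -, h1⟩ := h.LL_decomp c.2
  have h2 : ∀ w ∈ pB, app A w = w ∧ outC d * qf w ^^^ bf v (app A w) = 0 := fun w hw =>
    (r.comm_s_iff hv ((by decide : ∀ w ∈ pB, w < 4096) w hw)).1
      (e ▸ congrArg Subtype.val (hc ⟨_, h.s_mem_LL hw⟩))
  obtain rfl := h1 fun w hw => (h2 w hw).1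
  have h3 := perp_pB hv fun w hw => by
    have := (h2 w hw).2
    rwa [(h2 w hw).1, r.code_eq_of_mat h.R_one, outC_oneC, zero_mul, Nat.zero_xor] at this
  rcases r.eq_one_or with rfl | rfl
  · exact h.mem_U.2 ⟨v, h3, Or.inl (e.trans (mul_one _))⟩
  · exact h.mem_U.2 ⟨v, h3, Or.inr e⟩

theorem conj_mem_LL {n c : G} (hn : n ∈ h.NU) (hc : c ∈ h.LL) : n * c * n⁻¹ ∈ h.LL := by
  obtain ⟨φ, -, h1, -⟩ := h.exists_φ
  refine (h1 (⟨n, hn⟩ * ⟨c, centralizer_le_normalizer _ hc.1⟩ * ⟨n, hn⟩⁻¹)).1 ?_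
  rw [map_mul, map_mul, (h1 ⟨c, _⟩).2 hc, map_inv, mul_one, mul_inv_cancel]

theorem commutator_LL : ⁅h.LL, h.LL⁆ = h.U := by
  refine le_antisymm (commutator_le.2 fun a ha b hb => ?_) fun u hu => ?_
  · rw [show ⁅a, b⁆ = a * a * (a⁻¹ * b * (a⁻¹ * b)) * (b⁻¹ * b⁻¹) by
      rw [commutatorElement_def]; group]
    exact mul_mem (mul_mem (h.sq_mem_U ha) (h.sq_mem_U (mul_mem (inv_mem ha) hb)))
      (h.sq_mem_U (inv_mem hb))
  by_cases h1 : u = 1
  · rw [h1]; exact one_mem _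
  obtain ⟨y, hy, rfl⟩ := h.exists_conj_U hu h1
  have hn := h.cent_f_le (mem_cent.2 hy)
  have := commutator_mem_commutator (h.conj_mem_LL hn (h.s_mem_LL (w := 7) (by decide)))
    (h.conj_mem_LL hn (h.s_mem_LL (w := 10) (by decide)))
  rwa [← conjugate_commutatorElement, commutatorElement_def, h.s_conj (by norm_num) (by norm_num),
    show bf 7 10 = 1 by decide +kernel, pow_one, h.mem_H.1 (h.s_mem_H (by norm_num)),
    mul_inv_cancel_right] at this

theorem special_LL : IsSpecial 2 h.LL := by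
  have h2 : IsPGroup 2 h.LL := IsPGroup.of_card h.card_LL
  have h1 : commutator h.LL = center h.LL := by
    rw [h.center_LL, ← h.commutator_LL, ← map_subtype_commutator, subgroupOf,
      comap_map_eq_self_of_injective (subtype_injective _)]
  refine ⟨h2, le_antisymm (Grp.PFrattini.frattini_le (p := 2) h1.le fun g => ?_)
    (h1 ▸ Grp.PFrattini.commutator_le_frattini h2), h1⟩
  rw [h.center_LL, mem_subgroupOf, pow_two]
  exact h.sq_mem_U g.2

theorem norm_LL : normalizer (h.LL : Set G) = h.NU := by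
  refine le_antisymm ?_ fun n hn => mem_normalizer_fintype fun _ => h.conj_mem_LL hn
  have := Grp.normalizer_le_normalizer_map_of_characteristic h.LL (center h.LL)
  rwa [h.center_LL, map_subgroupOf_eq_of_le h.U_le_LL] at this

theorem mem_NU_of {g : G} (hg : g⁻¹ * h.f * g ∈ h.CU) : g ∈ h.NU :=
  mem_normalizer_fintype fun u hu => by
    by_cases h1 : u = 1
    · rw [h1, mul_one, mul_inv_cancel]; exact one_mem _
    refine (h.mem_U_iff ((h.isConj_of_mem_U hu h1).trans (isConj_conj _ _))).1 ?_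
    calc g * u * g⁻¹ * h.f = g * (u * (g⁻¹ * h.f * g)) * g⁻¹ := by group
      _ = _ := by rw [hg u hu]; group

theorem no_compl_LL {N : Subgroup G} (hN : N = h.NU) (K : Subgroup N) :
    ¬ (h.LL.subgroupOf N).IsComplement' K := fun hK => by
  subst hN
  obtain ⟨φ, h1, h2, h3, -⟩ := h.exists_φ
  have h4 : φ.ker = h.LL.subgroupOf _ := SetLike.ext h2
  have c1 := hK.card_mul_card
  have c2 := φ.ker.card_mul_index
  rw [index_ker, MonoidHom.range_eq_top.2 h1, card_top, h4, ← c1] at c2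
  let e := MulEquiv.ofBijective (φ.domRestrict K) ((Nat.bijective_iff_injective_and_card _).2
    ⟨by rw [← MonoidHom.ker_eq_bot_iff, MonoidHom.ker_domRestrict, subgroupOf_eq_bot, h4]
        exact hK.disjoint, (Nat.eq_of_mul_eq_mul_left Nat.card_pos c2).symm⟩)
  let j := (h.NU.subtype.comp K.subtype).comp e.symm.toMonoidHom
  have hj : Function.Injective j :=
    Subtype.val_injective.comp (Subtype.val_injective.comp e.symm.injective)
  have h5 : ∀ x, φ (e.symm x) = x := e.apply_symm_apply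
  obtain ⟨g, hg⟩ := isConj_iff.1 (h.isConj_f (g := j (finRotate 5, 1)) (by
    rw [orderOf_injective j hj, Prod.orderOf_mk, orderOf_one, Nat.lcm_one_right,
      isCycle_finRotate.orderOf, support_finRotate]; rfl)).symm
  have h6 : g ∈ h.NU := h.mem_NU_of (by
    rw [← hg, mul_assoc, inv_mul_cancel_right, inv_mul_cancel_left]
    exact (h3 _).1 (congrArg Prod.snd (h5 (finRotate 5, 1))))
  refine h.no_compl_five (L := (j.comp (MonoidHom.inr _ _)).range.map (MulAut.conj g).toMonoidHom)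
    ?_ (by rw [card_map_conj, ← card_SL32]; exact Nat.card_congr (MonoidHom.ofInjective
      (f := j.comp (MonoidHom.inr _ _)) fun _ _ e => congrArg Prod.snd (hj e)).toEquiv.symm) (eq_bot_iff.2 ?_)
  · rintro _ ⟨_, ⟨A, rfl⟩, rfl⟩
    refine mem_cent.2 (hg ▸ ?_)
    change g * j _ * g⁻¹ * _ = _ * (g * j _ * g⁻¹)
    rw [conj_mul, conj_mul, ← map_mul, ← map_mul]
    simp
  · rintro _ ⟨⟨_, ⟨A, rfl⟩, rfl⟩, hu⟩
    have := (h2 (e.symm (1, A))).2 (h.U_le_LL ((mem_normalizer_iff.1 h6 _).2 hu))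
    rw [show A = 1 from congrArg Prod.snd ((h5 _).symm.trans this), map_one, map_one]
    exact one_mem _

theorem exists_seven : ∃ S : Subgroup G, Nat.card S = 7 ∧ normalizer (S : Set G) ≤ h.NU := by
  have : Fact (Nat.Prime 7) := ⟨by norm_num⟩
  obtain ⟨φ, h1, h2, -⟩ := h.exists_φ
  have ok : okM 590082683304480497169108008933183552 = true := by decide +kernel
  have ok' : okM 970212156445728931619769557470335008 = true := by decide +kernel
  have o7 := (h.orderOf_lam _).trans (orderOf_mc_prime (p := 7) (by norm_num) ok (by decide +kernel))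
  have e1 : h.lam (mc 970212156445728931619769557470335008) *
      h.lam (mc 590082683304480497169108008933183552) *
      (h.lam (mc 970212156445728931619769557470335008))⁻¹ =
      h.lam (mc 590082683304480497169108008933183552) ^ 2 := by
    rw [← map_inv, ← map_mul, ← map_mul, ← map_pow]
    congr 1
    rw [eq_iff_code, code_conj', code_pow', code_mc ok, code_mc ok']
    decide +kernel
  have m1 := (h.lam_L0 (mc_mem_L0 (c := 590082683304480497169108008933183552)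
    (by decide +kernel))).1
  have m2 := (h.lam_L0 (mc_mem_L0 (c := 970212156445728931619769557470335008)
    (by decide +kernel))).1
  generalize h.lam (mc 590082683304480497169108008933183552) = y at *
  generalize h.lam (mc 970212156445728931619769557470335008) = n at *
  have c7 : Nat.card (zpowers y) = 7 := by rw [Nat.card_zpowers, o7]
  have y7 : φ ⟨y, m1⟩ ^ 7 = 1 := by
    rw [← map_pow, show (⟨y, m1⟩ : h.NU) ^ 7 = 1 from Subtype.ext (o7 ▸ pow_orderOf_eq_one y),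
      map_one]
  have a1 : (φ ⟨y, m1⟩).1 = 1 := orderOf_eq_one_iff.1 (Nat.eq_one_of_dvd_coprimes
    (show Nat.Coprime 7 120 by norm_num) (orderOf_dvd_of_pow_eq_one (congrArg Prod.fst y7))
    ((_root_.orderOf_dvd_natCard _).trans (by rw [Nat.card_perm, Nat.card_fin]; rfl)))
  have a2 : orderOf (φ ⟨y, m1⟩).2 = 7 := orderOf_eq_prime (congrArg Prod.snd y7) fun e => by
    have := orderOf_dvd_natCard (⟨y, (h2 ⟨y, m1⟩).1 (Prod.ext a1 e)⟩ : h.LL)
    rw [← orderOf_coe, o7, h.card_LL] at this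
    exact absurd this (by norm_num)
  have a3 := (card_le_of_le (show (⊤ : Subgroup (Perm (Fin 5))).prod (zpowers (φ ⟨y, m1⟩).2) ≤
    centralizer {φ ⟨y, m1⟩} by
      rintro ⟨σ, _⟩ ⟨-, i, rfl⟩
      exact mem_cent.2 (Prod.ext (by simp [a1]) ((Commute.refl _).zpow_left i)))).trans
    (card_cent_le φ h1 _)
  rw [Nat.card_congr (prodEquiv _ _).toEquiv, Nat.card_prod, card_top, Nat.card_perm, Nat.card_fin,
    Nat.card_zpowers, a2, ← card_subtype] at a3
  have a4 : centralizer {y} ≤ h.NU := (eq_of_le_of_card_ge (by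
    rintro _ ⟨c, hc, rfl⟩
    exact mem_cent.2 (congrArg Subtype.val (mem_cent.1 hc))) ((h.card_cent_seven o7).le.trans a3)).ge.trans
      (map_subtype_le _)
  have a5 : centralizer {y} ≤ h.NU ⊓ normalizer (zpowers y : Set G) :=
    le_inf a4 (Small.centralizer_zpowers y ▸ centralizer_le_normalizer _)
  have a6 := card_dvd_of_le a5
  have a7 := card_dvd_of_le (inf_le_right : h.NU ⊓ normalizer (zpowers y : Set G) ≤ _)
  have a8 : Nat.card ↥(h.NU ⊓ normalizer (zpowers y : Set G)) ≠ 840 := fun e => by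
    have := mem_cent.1 ((eq_of_le_of_card_ge a5 (by rw [e, h.card_cent_seven o7])).ge
      ⟨m2, (mem_normalizer_zpowers _ _).2 (e1 ▸ pow_mem (mem_zpowers y) 2)⟩)
    rw [this, mul_inv_cancel_right, sq, left_eq_mul] at e1
    rw [e1, orderOf_one] at o7
    omega
  rw [h.card_cent_seven o7] at a6
  refine ⟨_, c7, inf_eq_right.1 (eq_of_le_of_card_ge inf_le_right ?_)⟩
  rw [h.card_norm_seven c7] at a7 ⊢
  obtain ⟨k, hk⟩ := a6
  rw [hk] at a7 a8 ⊢
  have := Nat.le_of_dvd (by norm_num) a7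
  have : k ≤ 3 := by omega
  interval_cases k <;> omega

end MM

end Cfsg.Agent.J4
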