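import Cfsg.Agent.J4.Loc5Aux
import Cfsg.Agent.J4.Loc7
import Cfsg.Agent.Spor.M24Res
import Cfsg.Agent.Grp.MaxClass

/-! Computations for the normaliser of the trio group `U` of order eight. -/

set_option autoImplicit false

namespace Cfsg.Agent.J4.TR

open Cfsg Cfsg.Agent.Comp Cfsg.Agent.Spor Cfsg.Agent.Spor.M24C Subgroup LA VA
open scoped Pointwise

theorem card_cent_le {X Y : Type*} [Group X] [Group Y] [Finite X] (φ : X →* Y)
    (hs : Function.Surjective φ) (a : X) :
    Nat.card (centralizer ({φ a} : Set Y)) ≤ Nat.card (centralizer ({a} : Set X)) := by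
  let e := QuotientGroup.quotientKerEquivOfSurjective φ hs
  have : ∀ y : centralizer ({φ a} : Set Y), e.symm y ∈ centralizer {(a : X ⧸ φ.ker)} := fun y =>
    mem_cent.2 (e.injective (by rw [map_mul, map_mul, e.apply_symm_apply]; exact mem_cent.1 y.2))
  exact (Nat.card_le_card_of_injective (fun y => (⟨_, this y⟩ : centralizer {(a : X ⧸ φ.ker)}))
    fun y y' h => Subtype.ext (e.symm.injective (congrArg Subtype.val h))).trans
    (Grp.MaxClass.card_centralizer_quotient_le φ.ker a)

/-- The five octads through the fixed points of `pF`. -/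
def oL : List ℕ := [14716939, 9748745, 8619033, 8431757, 8946281]
/-- The `i`-th of them. -/
def oI (i : Fin 5) : Finset GolayPt := setOf' (oL.getD i 0)
/-- A basis of the orthogonal space of `U`. -/
def pB : List ℕ := [7, 10, 18, 34, 67, 131, 259, 514, 1025, 2050]
/-- Generators of `U` in `V`. -/
def uL : List ℕ := [15, 1310729, 2359301]
/-- Two octads of the trio and a point in each. -/
def lL : List ℕ := [3416079, 4202192, 1, 16]

theorem oI_inj : Function.Injective oI := by decide +kernel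

theorem pF_pow (i : Fin 5) : mc pF ^ (i : ℕ) • setOf' oct0 = oI i := by
  rw [smul_setOf'_M, code_pow', code_mc okM_pF]
  exact congrArg setOf' (by revert i; decide +kernel)

theorem forall_oL {g : M24} : (∀ m ∈ oL, g • setOf' m = setOf' m) ↔ ∀ i, g • oI i = oI i := by
  simp only [oL, List.forall_mem_cons, Fin.forall_fin_succ, List.not_mem_nil,
    implies_true, IsEmpty.forall_iff]
  exact Iff.rfl

/-- The matrix fixes `U`. -/
noncomputable def fx (A : ℕ) : Bool :=
  and' (Nat.beq (app A 1025) 1025) (Nat.beq (app A 2618) 2618)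

/-- The subgroup of order 16. -/
noncomputable def DD : Subgroup M24 := M22' ⊓ ⨅ i, MulAction.stabilizer M24 (oI i)

theorem mem_DD {g : M24} : g ∈ DD ↔ g ∈ M22' ∧ ∀ i, g • oI i = oI i := by
  rw [DD, mem_inf, mem_iInf]; rfl

theorem card_DD : Nat.card DD = 16 := by
  rw [← chainA.ncard_fix_sets oL (fun c => Nat.beq (outC c) 0) (N := 16) (by decide +kernel)]
  refine card_subgroup_eq_ncard fun g => ?_
  rw [mem_DD, forall_oL, beq_iff]
  exact ⟨fun h => ⟨M22'_le h.1, h.2, (outC_eq_zero_iff (M22'_le h.1)).2 h.1⟩,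
    fun h => ⟨(outC_eq_zero_iff h.1).1 h.2.2, h.2.1⟩⟩

theorem D_spec {g : M24} (hg : g ∈ A22) (h : ∀ i, g • oI i = oI i) :
    (∀ A, isK A (code (g : Equiv.Perm GolayPt)) = true → app A 1025 = 1025 → app A 2618 = 2618 →
      g ∈ M22' ∧ mm A A = mI ∧ (∀ w < 4096, bf w 1025 = 0 → bf w 2618 = 0 →
        w ^^^ app A w ∈ [0, 1025, 2618, 3643]) ∧ ((∀ w ∈ pB, app A w = w) → A = mI)) ∧
    (g ∈ M22' → ∃ A, isK A (code (g : Equiv.Perm GolayPt)) = true ∧ app A 1025 = 1025 ∧
      app A 2618 = 2618) := by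
  have := chainA.ncard_fix_sets oL (fun c => not' (and' (lifts c fun A => or' (not' (fx A))
    (and' (Nat.beq (outC c) 0) (and' (Nat.beq (mm A A) mI) (and' (allB 4096 fun w =>
      or' (not' (Nat.beq (bf w 1025) 0)) (or' (not' (Nat.beq (bf w 2618) 0))
        (force (Nat.xor w (app A w)) fun y => anyL [0, 1025, 2618, 3643] fun x => Nat.beq x y)))
      (or' (not' (allL pB fun w => Nat.beq (app A w) w)) (Nat.beq A mI))))))
    (or' (not' (Nat.beq (outC c) 0)) (not' (lifts c fun A => not' (fx A)))))) (N := 0)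
    (by decide +kernel)
  rw [Set.ncard_eq_zero, Set.eq_empty_iff_forall_notMem] at this
  have := this g
  rw [Set.mem_ofPred_eq, not'_eq_true, and'_eq_true, not_and, not_and, not_not] at this
  obtain ⟨h1, h2⟩ := this hg (forall_oL.2 h)
  have ok := okS_of_inH (by norm_num) (⟨g, hg, rfl⟩ : InH A22 _)
  rw [← outC_eq_zero_iff hg]
  simp only [isK, and'_eq_true, force_eq, or'_eq_true, beq_iff]
  refine ⟨fun A hA e1 e2 => ?_, fun e => ?_⟩
  · have := of_lifts h1 hA.2
    simp only [fx, or'_eq_true, and'_eq_true, not'_eq_true, beq_iff, allB_iff, force_eq, anyL_iff,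
      allL_iff, exists_eq_right] at this
    obtain ⟨a1, a2, a3, a4⟩ := this.resolve_left (not_not.2 ⟨e1, e2⟩)
    exact ⟨a1, a2, fun w hw b1 b2 => ((a3 w hw).resolve_left (not_not.2 b1)).resolve_left
      (not_not.2 b2), fun e => a4.resolve_left (not_not.2 e)⟩
  · simp only [lifts, fx, or'_eq_true, and'_eq_true, not'_eq_true, beq_iff, force_eq] at h2
    by_contra hn
    push Not at hn
    exact h2.resolve_left (not_not.2 e) ⟨fun e => hn _ ⟨ok, Or.inl rfl⟩ e.1 e.2,
      fun e => hn _ ⟨ok, Or.inr (Or.inl rfl)⟩ e.1 e.2, fun e => hn _ ⟨ok, Or.inr (Or.inr rfl)⟩ e.1 e.2⟩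

theorem perp_pB {v : ℕ} (hv : v < 4096) (h : ∀ w ∈ pB, bf v w = 0) :
    v ∈ [0, 1025, 2618, 3643] := by
  have := (allB_iff 4096 fun v => or' (not' (allL pB fun w => Nat.beq (bf v w) 0))
    (anyL [0, 1025, 2618, 3643] fun x => Nat.beq x v)).1 (by decide +kernel) v hv
  simp only [or'_eq_true, not'_eq_true, beq_iff, anyL_iff, allL_iff, exists_eq_right] at this
  exact this.resolve_left (not_not.2 h)

/-- A subgroup `L₃(2)` of the trio group. -/
noncomputable def L0 : Subgroup M24 := ⨅ m ∈ lL, MulAction.stabilizer M24 (setOf' m)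

theorem mem_L0 {g : M24} : g ∈ L0 ↔ ∀ m ∈ lL, g • setOf' m = setOf' m := by
  simp only [L0, mem_iInf, MulAction.mem_stabilizer_iff]

theorem card_L0 : Nat.card L0 = 168 := by
  rw [← chainM.ncard_fix_sets lL (fun _ => true) (N := 168) (by decide +kernel)]
  exact card_subgroup_eq_ncard fun g => by simp [mem_L0]

theorem L0_spec {g : M24} (hg : g ∈ L0) :
    (∀ m ∈ uL, ∃ i < 8, symmDiff (g • setOf' m) (setOf' (xorSel uL i)) ∈ codeSets) ∧
      ((∀ m ∈ uL, symmDiff (g • setOf' m) (setOf' m) ∈ codeSets) → g = 1) := by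
  have := chainM.ncard_fix_sets lL (fun c => not' (and' (allL uL fun m =>
    force (cix (imgC c m)) fun y => anyLT 8 fun i => Nat.beq y (cix (xorSel uL i)))
    (or' (not' (allL uL fun m => Nat.beq (cix (imgC c m)) (cix m))) (Nat.beq c oneC)))) (N := 0)
    (by decide +kernel)
  rw [Set.ncard_eq_zero, Set.eq_empty_iff_forall_notMem] at this
  have := this g
  rw [Set.mem_ofPred_eq, not'_eq_true, not_and, not_and, not_not] at this
  have := this (mem_top g) (mem_L0.1 hg)
  simp only [and'_eq_true, or'_eq_true, not'_eq_true, allL_iff, force_eq, anyLT_iff,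
    beq_iff] at this
  simp only [smul_setOf'_M]
  refine ⟨fun m hm => (this.1 m hm).imp fun i hi => ⟨hi.1, (cix_eq_iff (imgC_lt _ _)
    ((by decide : ∀ i < 8, xorSel uL i < 2 ^ 24) i hi.1)).1 hi.2⟩, fun e => ?_⟩
  rw [eq_iff_code, code_one']
  exact this.2.resolve_left (not_not.2 fun m hm => (cix_eq_iff (imgC_lt _ _)
    ((by decide : ∀ m ∈ uL, m < 2 ^ 24) m hm)).2 (e m hm))

theorem mc_mem_L0 {c : ℕ} (h : and' (okM c) (allL lL fun m => Nat.beq (imgC c m) m) = true) :
    mc c ∈ L0 := by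
  simp only [and'_eq_true, allL_iff, beq_iff] at h
  exact mem_L0.2 fun m hm => by rw [mc_smul_setOf' h.1, h.2 m hm]

end Cfsg.Agent.J4.TR
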